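import Cfsg.Agent.Z6.CharB

/-!
# The character data
-/

set_option autoImplicit false
set_option linter.unusedSectionVars false

namespace Cfsg.Agent.Z6

open Subgroup Cfsg.Agent.Local Cfsg.Agent.FT Cfsg.Agent.Char
open scoped Pointwise ComplexConjugate

universe u

variable {G : Type u} [Group G] [Finite G]

namespace BD

variable {V : Subgroup G} [Fintype V] {x : G} {χ ψ : G → ℂ} {d : ℕ} (b : BD x V χ ψ d)
  (h : TH ⊤ x V)
include b

theorem dpos : 0 < d := Nat.pos_of_ne_zero fun e => irr_one_ne_zero b.iχ (by rw [b.dχ, e]; simp)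

theorem d0 : (d : ℂ) ≠ 0 := Nat.cast_ne_zero.2 b.dpos.ne'

theorem dvd : d * (d + 1) ∣ Nat.card G :=
  Nat.Coprime.mul_dvd_of_dvd_of_dvd (by simp) (irr_degree_dvd_card b.iχ b.dχ)
    (irr_degree_dvd_card b.iψ b.dψ)

include h

theorem reg {g : G} (hg : ¬ 3 ∣ orderOf g) : ψ g = 1 + χ g := by
  classical
  have h1 := b.sum fun φ => conj (φ g)
  simp only [Finset.mul_sum] at h1
  rw [Finset.sum_comm, Finset.sum_eq_zero fun v _ => by
    have := sum_irr_mul_conj g (x * v)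
    rw [if_neg (h.not_conj v.2 hg)] at this
    simpa only [mul_comm] using this] at h1
  have h2 := congrArg conj ((mul_eq_zero.1 h1.symm).resolve_left (card_ne_zero' V))
  simp only [map_sub, map_add, Complex.conj_conj, Pi.one_apply, map_zero] at h2
  linear_combination -h2

theorem f1 {a c : G} (ha : ¬ 3 ∣ orderOf a) (hc : ¬ 3 ∣ orderOf c) :
    ((∑ v : V, Nat.card {u // IsConj a u ∧ IsConj c (u * (x * v))} : ℕ) : ℂ) * (cc a * cc c) *
      (d * (d + 1)) = Nat.card G * Nat.card V * ((d - χ a) * (d - conj (χ c))) := by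
  have := Fintype.ofFinite G
  have h1 := b.sum fun φ => φ a * conj (φ c) / φ 1
  have h2 : ((∑ v : V, Nat.card {u // IsConj a u ∧ IsConj c (u * (x * v))} : ℕ) : ℂ) *
      (cc a * cc c) = Nat.card G * ∑ φ : IrrCharacter G,
        φ.1 a * conj (φ.1 c) / φ.1 1 * ∑ v : V, φ.1 (x * v) := by
    simp only [Nat.cast_sum, Finset.sum_mul, card_classMul, ← Finset.mul_sum]
    rw [Finset.sum_comm]
    congr 1
    refine Finset.sum_congr rfl fun φ _ => ?_
    rw [Finset.mul_sum]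
    exact Finset.sum_congr rfl fun v _ => by ring
  have d0 := b.d0
  have d1 : (d : ℂ) + 1 ≠ 0 := by exact_mod_cast d.succ_ne_zero
  rw [h2, h1, b.reg h ha, b.reg h hc, b.dχ, b.dψ]
  simp only [Pi.one_apply, map_one, map_add]
  push_cast
  field_simp
  ring

theorem f2 {a c : G} (ha : ¬ 3 ∣ orderOf a) (hc : ¬ 3 ∣ orderOf c) :
    ((∑ v : V, Nat.card {u // IsConj a u ∧ IsConj (x * v) (u * c)} : ℕ) : ℂ) * (cc a * 3) *
      (d * (d + 1)) = Nat.card G * ((d - χ a) * (d - χ c)) := by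
  have := Fintype.ofFinite G
  have h1 := b.sum fun φ => φ a * φ c / φ 1
  have h2 : ((∑ v : V, Nat.card {u // IsConj a u ∧ IsConj (x * v) (u * c)} : ℕ) : ℂ) *
      (cc a * (3 * Nat.card V : ℕ)) = Nat.card G * ∑ φ : IrrCharacter G,
        φ.1 a * φ.1 c / φ.1 1 * ∑ v : V, φ.1 (x * v) := by
    rw [Nat.cast_sum, Finset.sum_mul, Finset.sum_congr rfl fun v _ => by
      rw [← h.cc_mul v.2, card_classMul], ← Finset.mul_sum, Finset.sum_comm]
    congr 1
    refine Finset.sum_congr rfl fun φ _ => ?_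
    rw [← b.real, map_sum, Finset.mul_sum]
    exact Finset.sum_congr rfl fun v _ => by ring
  have d0 := b.d0
  have d1 : (d : ℂ) + 1 ≠ 0 := by exact_mod_cast d.succ_ne_zero
  rw [h1, b.reg h ha, b.reg h hc, b.dχ, b.dψ] at h2
  refine mul_left_cancel₀ (card_ne_zero' V) ?_
  simp only [Pi.one_apply] at h2
  push_cast at h2 ⊢
  field_simp at h2
  linear_combination (Nat.card V : ℂ) * h2

theorem fus (hs : IsSimpleGroup G) (hn : ¬ IsMulCommutative G) (hV : Nat.card V ≤ 4) :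
    ∃ t, Fus x V t := by
  refine h.exists_fus hs hn hV fun a ha => ?_
  have h3 : ¬ 3 ∣ orderOf a := by rw [ha]; norm_num
  have h1 := b.f1 h h3 h3
  have h2 : (d : ℂ) - χ a ≠ 0 := fun e => ne_one_of_two ha
    (Small.faithful b.iχ b.ne (by rw [b.dχ, sub_eq_zero.1 e]))
  have h4 : (d : ℂ) - conj (χ a) ≠ 0 := fun e => h2 (by simpa using congrArg conj e)
  have h5 : ∑ v : V, Nat.card {u // IsConj a u ∧ IsConj a (u * (x * v))} ≠ 0 := fun e => by
    rw [e] at h1
    simp [h2, h4, card_ne_zero' G] at h1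
  obtain ⟨v, -, hv⟩ := Finset.exists_ne_zero_of_sum_ne_zero h5
  obtain ⟨⟨u, e1, e2⟩⟩ := (Nat.card_ne_zero.1 hv).1
  exact ⟨u, e1, h.inv_of_sq v.2 (sq_of_two (isConj_orderOf e1 ▸ ha))
    (sq_of_two (isConj_orderOf e2 ▸ ha))⟩

theorem bound (hs : IsSimpleGroup G) {w g : G} (hw : orderOf w = 2) (hg : (orderOf g).Prime)
    (h7 : 7 ≤ orderOf g) {ν n δ : ℕ} (hδ : χ w = d - δ) (δ0 : δ ≠ 0) (e1 : n * cc w = ν * δ)
    (e2 : Nat.card V * Nat.card G = 3 * ν ^ 2 * (d * (d + 1))) : 6 * cc g ≤ 7 * d * ν * n := by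
  classical
  set p := orderOf g with hp
  have := Fact.mk hg
  have gp : g ^ p = 1 := pow_orderOf_eq_one g
  have ν0 : ν ≠ 0 := by
    rintro rfl
    simp [Nat.card_pos.ne'] at e2
  have n0 : n ≠ 0 := by
    rintro rfl
    simp [ν0, δ0] at e1
  have hq : ∀ q : ℕ, q.Prime → q < 7 → ∀ i : ℕ, ¬ q ∣ orderOf (g ^ i) := fun q hq h1 i e => by
    have := (Nat.prime_dvd_prime_iff_eq hq hg).1 (e.trans (orderOf_pow_dvd i))
    omega
  set T : ZMod p → ℕ := fun i =>
    ∑ v : V, Nat.card {u // IsConj w u ∧ IsConj (x * v) (u * g ^ i.val)} with hT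
  have h1 : ∀ i, (Nat.card V * T i : ℂ) = ν * n * (d - χ (g ^ i.val)) := fun i => by
    have h2 := b.f2 h (a := w) (by rw [hw]; norm_num) (hq 3 Nat.prime_three (by norm_num) i.val)
    have e1' : (n * cc w : ℂ) = ν * δ := by exact_mod_cast e1
    have e2' : (Nat.card V * Nat.card G : ℂ) = 3 * ν ^ 2 * (d * (d + 1)) := by exact_mod_cast e2
    have d1 : (d : ℂ) + 1 ≠ 0 := by exact_mod_cast d.succ_ne_zero
    refine mul_left_cancel₀ (a := (3 * ν * δ * (d * (d + 1)) : ℂ))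
      (by simp [ν0, δ0, d1, b.dpos.ne']) ?_
    rw [hδ] at h2
    linear_combination (Nat.card V * n : ℂ) * h2 - 3 * Nat.card V * T i * (d * (d + 1)) * e1' +
      n * δ * (d - χ (g ^ i.val)) * e2'
  have h2 : ∀ i, i ≠ 0 → cc g ≤ Nat.card V * T i := fun i hi => by
    have g1 : g ^ i.val ≠ 1 := fun e => hi ((ZMod.val_eq_zero i).1
      (Nat.eq_zero_of_dvd_of_lt (orderOf_dvd_of_pow_eq_one e) i.val_lt))
    have h3 : T i ≠ 0 := fun e => by
      have := h1 i
      rw [e, Nat.cast_zero, mul_zero, eq_comm, mul_eq_zero, sub_eq_zero] at this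
      rcases this with e | e
      · simp [ν0, n0] at e
      · exact g1 (Small.faithful b.iχ b.ne (by rw [b.dχ, e]))
    obtain ⟨v, -, hv⟩ := Finset.exists_ne_zero_of_sum_ne_zero h3
    have h4 := h.cent_ndvd g1 (hq 2 Nat.prime_two (by norm_num) _)
      (hq 3 Nat.prime_three (by norm_num) _) (mem_top _)
    rw [top_inf_eq] at h4
    refine (card_le_of_le fun c hc => mem_cent1.2
      (Commute.pow_left (mem_cent1.1 hc) i.val).eq).trans ((h.orbit_bound v.2 h4 hv).trans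
      (Nat.mul_le_mul_left _ ?_))
    exact Finset.single_le_sum (f := fun v : V =>
      Nat.card {u // IsConj w u ∧ IsConj (x * v) (u * g ^ i.val)}) (fun _ _ => Nat.zero_le _)
      (Finset.mem_univ v)
  obtain ⟨μ, hμ⟩ := char_param_mult (irr_isCharacter b.iχ) (fun v : ZMod p => g ^ v.val)
    (fun u v => pow_val_add gp u v) (fun _ => 1) (by simp)
  have h3 : ∑ i, Nat.card V * T i + ν * n * (p * μ) = ν * n * (p * d) := by
    have : (∑ i, Nat.card V * T i : ℂ) + ν * n * (p * μ) = ν * n * (p * d) := by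
      simp only [h1, ← Finset.mul_sum, Finset.sum_sub_distrib, Finset.sum_const, Finset.card_univ,
        ZMod.card, one_mul, nsmul_eq_mul] at hμ ⊢
      rw [hμ]
      ring
    exact_mod_cast this
  have h4 : (p - 1) * cc g ≤ ∑ i, Nat.card V * T i := by
    refine le_trans ?_ (Finset.sum_le_sum_of_subset (Finset.erase_subset 0 _))
    have := Finset.card_nsmul_le_sum (Finset.univ.erase (0 : ZMod p)) _ _
      fun i hi => h2 i (Finset.ne_of_mem_erase hi)
    rwa [Finset.card_erase_of_mem (Finset.mem_univ _), Finset.card_univ, ZMod.card,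
      smul_eq_mul] at this
  obtain ⟨k, hk⟩ : ∃ k, p = k + 7 := ⟨p - 7, by omega⟩
  have h5 : (k + 6) * cc g ≤ (k + 7) * (d * ν * n) := by
    rw [show k + 6 = p - 1 by omega, ← hk]
    calc _ ≤ _ := h4.trans ((Nat.le_add_right _ _).trans h3.le)
      _ = _ := by ring
  refine Nat.le_of_mul_le_mul_left (c := k + 6) ?_ (by omega)
  nlinarith [Nat.zero_le (k * (d * ν * n))]

theorem col (hs : IsSimpleGroup G) (hn : ¬ IsMulCommutative G) {u : G} (hu : orderOf u = 2)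
    {a : ℤ} (ha : χ u = a) : 1 + a ^ 2 + (a + 1) ^ 2 ≤ cc u := by
  classical
  have := Fintype.ofFinite G
  choose X hX _ using fun φ : IrrCharacter G =>
    Small.inv_val (Small.perfect hn) (irr_isCharacter φ.2) (sq_of_two hu)
  have h1 := int_orth_self hX
  have n1 : (⟨1, irr_one⟩ : IrrCharacter G) ≠ ⟨χ, b.iχ⟩ := fun e =>
    b.ne (congrArg Subtype.val e).symm
  have n2 : (⟨1, irr_one⟩ : IrrCharacter G) ≠ ⟨ψ, b.iψ⟩ := fun e => by
    have := congrFun (congrArg Subtype.val e) x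
    simp only [b.xψ, Pi.one_apply] at this
    norm_num at this
  have n3 : (⟨χ, b.iχ⟩ : IrrCharacter G) ≠ ⟨ψ, b.iψ⟩ := fun e => by
    have := congrFun (congrArg Subtype.val e) x
    simp only [b.xψ, b.xχ] at this
    norm_num at this
  have h2 := Finset.sum_le_sum_of_subset_of_nonneg (f := fun φ => X φ * X φ)
    (Finset.subset_univ {⟨1, irr_one⟩, ⟨χ, b.iχ⟩, ⟨ψ, b.iψ⟩}) fun _ _ _ => mul_self_nonneg _
  rw [h1, Finset.sum_insert (by simp [n1, n2]), Finset.sum_pair n3] at h2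
  have x1 : X ⟨1, irr_one⟩ = 1 := by
    exact_mod_cast (show (X ⟨1, irr_one⟩ : ℂ) = 1 from (hX ⟨1, irr_one⟩).symm)
  have x2 : X ⟨χ, b.iχ⟩ = a := by exact_mod_cast (hX ⟨χ, b.iχ⟩).symm.trans ha
  have x3 : X ⟨ψ, b.iψ⟩ = 1 + a := by
    have := (hX ⟨ψ, b.iψ⟩).symm.trans (b.reg h (by rw [hu]; norm_num))
    rw [ha] at this
    exact_mod_cast this
  rw [x1, x2, x3] at h2
  linarith

end BD

theorem charHyp : CharHyp.{u} := by
  intro G _ _ x V hs hn h hV
  have := Fintype.ofFinite V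
  obtain ⟨χ, ψ, d, b⟩ := h.exists_bd hs hn
  obtain ⟨t, f⟩ := b.fus h hs hn hV
  have h3 : ∀ u : G, orderOf u = 2 → ¬ 3 ∣ orderOf u := fun u hu => by rw [hu]; norm_num
  have hδ : ∀ u : G, ∃ δ : ℕ, orderOf u = 2 →
      χ u = d - δ ∧ 4 ∣ δ ∧ 2 * d + 4 ≤ 3 * δ ∧ 3 * δ ≤ 4 * d + 2 := fun u => by
    by_cases hu : orderOf u = 2
    swap
    · exact ⟨0, fun e => absurd e hu⟩
    obtain ⟨a, e1, e2⟩ := Small.inv_val (Small.perfect hn) (irr_isCharacter b.iχ) (sq_of_two hu)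
    rw [Zass.deg_of_eq b.dχ] at e2
    obtain ⟨v, hv, e⟩ := f.cls u hu
    obtain ⟨n, hn⟩ := char_s3 (irr_isCharacter b.iχ) h.ord (f.sq' hv) (f.inv' hv) (ε := 1) (by simp)
    obtain ⟨n', hn'⟩ := char_s3 (irr_isCharacter b.iψ) h.ord (f.sq' hv) (f.inv' hv) (ε := -1)
      (by simp)
    rw [classFun_of_isConj (irr_isClassFunction b.iχ) e, b.dχ, b.xχ, e1] at hn
    rw [classFun_of_isConj (irr_isClassFunction b.iψ) e, b.dψ, b.xψ, b.reg h (h3 u hu), e1] at hn'
    have i1 : (d : ℤ) + 2 * 1 + 3 * (1 * a) = 6 * n := by exact_mod_cast hn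
    have i2 : ((d + 1 : ℕ) : ℤ) + 2 * -1 + 3 * (-1 * (1 + a)) = 6 * n' := by exact_mod_cast hn'
    obtain ⟨δ, hδ⟩ := Int.eq_ofNat_of_zero_le (show 0 ≤ (d : ℤ) - a by omega)
    refine ⟨δ, fun _ => ⟨?_, by omega, by omega, by omega⟩⟩
    rw [e1, show a = d - δ by omega]
    simp
  choose δ hδ using hδ
  have key : ∀ u w : G, orderOf u = 2 → orderOf w = 2 → 3 * (nn t V u * nn t V w) *
      (cc u * cc w) * (d * (d + 1)) = Nat.card G * Nat.card V * (δ u * δ w) := fun u w hu hw => by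
    have := b.f1 h (h3 u hu) (h3 w hw)
    rw [f.count hu hw, (hδ u hu).1, (hδ w hw).1] at this
    simp only [map_sub, map_natCast, sub_sub_cancel] at this
    exact_mod_cast this
  have ht : orderOf t = 2 := by simpa using f.ord' (one_mem V)
  obtain ⟨e, he⟩ := b.dvd
  obtain ⟨m, m', c1, c2⟩ := char_three (irr_isCharacter b.iχ) h.ord
    (isConj_iff.2 ⟨t, f.inv⟩)
  have c3 : d = m + 2 * m' := by exact_mod_cast b.dχ.symm.trans c1
  have c4 : 1 = (m : ℤ) - m' := by exact_mod_cast b.xχ.symm.trans c2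
  obtain ⟨e, rfl⟩ : 3 ∣ e := by
    have h1 : 3 ∣ d * (d + 1) * e := he ▸ h.ord ▸ orderOf_dvd_natCard x
    rw [Nat.prime_three.dvd_mul, Nat.prime_three.dvd_mul] at h1
    omega
  have d0 := b.dpos
  have key' : ∀ u w : G, orderOf u = 2 → orderOf w = 2 →
      nn t V u * cc u * (nn t V w * cc w) = e * Nat.card V * (δ u * δ w) := fun u w hu hw => by
    refine Nat.eq_of_mul_eq_mul_left (show 0 < 3 * (d * (d + 1)) by positivity) ?_
    have := key u w hu hw
    rw [he] at this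
    linear_combination this
  have δ0 : ∀ u : G, orderOf u = 2 → 0 < δ u := fun u hu => by have := (hδ u hu).2.2.1; omega
  obtain ⟨ν, hν⟩ : δ t ∣ nn t V t * cc t :=
    (Nat.pow_dvd_pow_iff two_ne_zero).1 ⟨e * Nat.card V, by linear_combination key' t t ht ht⟩
  have h1 : ν ^ 2 = e * Nat.card V := by
    refine Nat.eq_of_mul_eq_mul_left (Nat.mul_pos (δ0 t ht) (δ0 t ht)) ?_
    have := key' t t ht ht
    rw [hν] at this
    linear_combination this
  have ord : Nat.card V * Nat.card G = 3 * ν ^ 2 * (d * (d + 1)) := by rw [h1, he]; ring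
  have ν0 : 0 < ν := Nat.pos_of_ne_zero fun e => by simp [e, Nat.card_pos.ne'] at ord
  have nc : ∀ u : G, orderOf u = 2 → nn t V u * cc u = ν * δ u := fun u hu => by
    refine Nat.eq_of_mul_eq_mul_right (Nat.mul_pos (δ0 t ht) ν0) ?_
    have := key' u t hu ht
    rw [hν, ← h1] at this
    linear_combination this
  refine ⟨t, d, ν, δ, f, ord, b.dvd, nc, fun u hu => (hδ u hu).2.2.1, fun u hu => (hδ u hu).2.2.2,
    fun u hu => (hδ u hu).2.1, fun u hu => b.col h hs hn hu (by rw [(hδ u hu).1]; simp),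
    fun g hg h7 w hw => b.bound h hs hw hg h7 (hδ w hw).1 (δ0 w hw).ne' (nc w hw) ord,
    fun p q hp hq p7 q7 pd qd pν qν g pg qg => ?_⟩
  have nd : ∀ {r k : ℕ}, r.Prime → 7 ≤ r → ¬ r ∣ ν → ¬ r ∣ k → ¬ r ∣ k * (3 * e) := by
    intro r k hr r7 rν rk
    rw [hr.dvd_mul, hr.dvd_mul]
    rintro (c | c | c)
    · exact rk c
    · exact absurd (Nat.le_of_dvd (by norm_num) c) (by omega)
    · exact rν (hr.dvd_of_dvd_pow (h1 ▸ c.mul_right _))
  have z1 := @Block.irr_eq_zero_of_defect_zero G _ _ p ⟨hp⟩ χ b.iχ d ((d + 1) * (3 * e)) b.dχ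
    (by rw [he]; ring) (nd hp p7 pν fun c => hp.one_lt.ne' (Nat.dvd_one.1
      ((Nat.dvd_add_right pd).1 c))) g pg
  have z2 := @Block.irr_eq_zero_of_defect_zero G _ _ q ⟨hq⟩ ψ b.iψ (d + 1) (d * (3 * e)) b.dψ
    (by rw [he]; ring) (nd hq q7 qν fun c => hq.one_lt.ne' (Nat.dvd_one.1
      ((Nat.dvd_add_right c).1 qd))) g qg
  have g3 : ¬ 3 ∣ orderOf g := fun c => by
    obtain ⟨n, c⟩ := exists_three c
    obtain ⟨k, -, h2⟩ := h.of_ord (mem_top _) c
    have h4 := pg.trans (orderOf_dvd_card_of_mem (show g ∈ ⊤ ⊓ 𝐂[g ^ n] from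
      ⟨mem_top g, mem_cent1.2 (Commute.pow_self g n).eq⟩))
    obtain ⟨j, hj⟩ := PG.card_eq_pow h2.pg
    rw [h2.card_cent, hj, hp.dvd_mul] at h4
    rcases h4 with c | c
    · exact absurd (Nat.le_of_dvd (by norm_num) c) (by omega)
    · exact absurd (Nat.le_of_dvd (by norm_num) (hp.dvd_of_dvd_pow c)) (by omega)
  have := b.reg h g3
  rw [z1, z2] at this
  simp at this

end Cfsg.Agent.Z6
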