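import Cfsg.Agent.Z6.Defs
import Cfsg.Agent.PSL2Rec.PrimeDeg

/-!
# Identification of the quotient by the largest normal `3'`-subgroup
-/

set_option autoImplicit false
set_option linter.unusedSectionVars false

namespace Cfsg.Agent.Z6

open Subgroup Cfsg.Agent.Local Cfsg.Agent.FT Cfsg.Agent.Char MulAction
open scoped Pointwise

universe u

theorem perm3_dih : Nonempty (Equiv.Perm (Fin 3) ≃* DihedralGroup 3) :=
  ⟨(MulEquiv.ofBijective (MonoidHom.mk' (fun d : DihedralGroup 3 => match d with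
    | .r i => (finRotate 3) ^ i.val
    | .sr i => Equiv.swap 1 2 * (finRotate 3) ^ i.val) (by decide)) (by decide)).symm⟩

variable {G : Type u} [Group G] [Finite G]

theorem exists_th (h5 : ¬ 5 ∣ Nat.card G) {x : G} (hx : orderOf x = 3) (hC : Nat.card 𝐂[x] = 12)
    (hab : ∀ a ∈ 𝐂[x], ∀ b ∈ 𝐂[x], a * b = b * a) (he : ∀ a ∈ 𝐂[x], a ^ 6 = 1) :
    ∃ V, TH ⊤ x V ∧ Nat.card V = 4 := by
  let T : ℕ → Subgroup G := fun n =>
    { carrier := {a | a ∈ 𝐂[x] ∧ a ^ n = 1}
      mul_mem' := fun {a b} ha hb => ⟨mul_mem ha.1 hb.1, by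
        rw [Commute.mul_pow (hab a ha.1 b hb.1), ha.2, hb.2, mul_one]⟩
      one_mem' := ⟨one_mem _, one_pow _⟩
      inv_mem' := fun {a} ha => ⟨inv_mem ha.1, by rw [inv_pow, ha.2, inv_one]⟩ }
  have hxx : x ∈ 𝐂[x] := mem_cent1.2 rfl
  have h3 : T 3 ≤ zpowers x := by
    obtain ⟨n, hn⟩ := IsPGroup.exists_card_eq (p := 3) (G := T 3) fun a =>
      ⟨1, Subtype.ext (by simpa using a.2.2)⟩
    have h1 : 3 ^ n ∣ 12 := hn ▸ hC ▸ card_dvd_of_le fun a ha => ha.1
    have h2 : n ≤ 1 := by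
      by_contra! e
      exact absurd ((pow_dvd_pow 3 e).trans h1) (by norm_num)
    refine (eq_of_le_of_card_ge (zpowers_le.2 (show x ∈ T 3 from ⟨hxx, cube_of hx⟩)) ?_).ge
    rw [hn, card_zp hx]
    exact (Nat.pow_le_pow_right (by norm_num) h2).trans (by norm_num)
  have h : TH ⊤ x (T 2) := ⟨trivial, le_top, hx, fun v hv => by rw [← sq, hv.2],
    fun v hv => (mem_cent1.1 hv.1).symm, fun g _ e => by
      have hg : g ∈ 𝐂[x] := mem_cent1.2 e.symm
      have e' : Commute g x := e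
      rcases mem_zpowers_three hx (h3 (show g ^ 2 ∈ T 3 from ⟨pow_mem hg 2, by
        rw [← pow_mul, he g hg]⟩)) with e1 | e1 | e1
      · exact Or.inl ⟨hg, e1⟩
      · exact Or.inr (Or.inl ⟨mul_mem hg hxx, by rw [e'.mul_pow, e1, ← pow_succ', cube_of hx]⟩)
      · exact Or.inr (Or.inr ⟨mul_mem hg (inv_mem hxx), by
          rw [e'.inv_right.mul_pow, e1, ← pow_succ', inv_pow, cube_of hx, inv_one]⟩),
    by rwa [card_top]⟩
  have := h.card_cent
  rw [top_inf_eq, hC] at this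
  exact ⟨_, h, by omega⟩

theorem psl_pgl {p k : ℕ} [Fact p.Prime] (hp : p = 7 ∨ p = 13) (hk : k = 6 ∨ k = 12)
    (hG : Nat.card G = p * k * (p + 1))
    (h1 : ∀ N : Subgroup G, N.Normal → N = ⊥ ∨ 168 ≤ Nat.card N) :
    Nonempty (G ≃* GL (Fin 2) (ZMod p) ⧸ center (GL (Fin 2) (ZMod p))) ∧ k + 1 = p ∨
      Nonempty (G ≃* Matrix.ProjectiveSpecialLinearGroup (Fin 2) (ZMod p)) ∧ 2 * k + 1 = p := by
  obtain ⟨P⟩ : Nonempty (Sylow p G) := inferInstance
  have hP : Nat.card (P : Subgroup G) = p := by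
    rw [P.card_eq_multiplicity, hG]
    rcases hp with rfl | rfl <;> rcases hk with rfl | rfl <;> simp [Nat.factorization_def] <;>
      decide +kernel
  have h4 : ¬ (P : Subgroup G).Normal := fun hN => (h1 _ hN).elim
    (fun e => by rw [e, card_bot] at hP; omega) fun e => by omega
  have h5 : Nat.card (Sylow p G) = p + 1 := by
    have h2 : Nat.card (Sylow p G) ≠ 1 := fun e => by
      have := (Nat.card_eq_one_iff_unique.mp e).1
      exact h4 P.normal_of_subsingleton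
    have h3 := card_sylow_modEq_one p G
    have h5 := (P : Subgroup G).card_mul_index
    rw [hP, hG, mul_assoc] at h5
    have h6 := Nat.eq_of_mul_eq_mul_left (by omega) h5 ▸ P.card_dvd_index
    generalize Nat.card (Sylow p G) = n at *
    have h7 := Nat.le_of_dvd (by rcases hk with rfl | rfl <;> omega) h6
    rw [Nat.ModEq] at h3
    rcases hp with rfl | rfl <;> rcases hk with rfl | rfl <;>
    · obtain ⟨j, rfl⟩ : ∃ j, n = _ * j + 1 := ⟨_, by rw [← Nat.div_add_mod n _, h3]⟩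
      have : j ≤ 13 := by omega
      interval_cases j <;> simp_all
  have h6 : (toPermHom G (Sylow p G)).ker = ⊥ := (h1 _ inferInstance).resolve_right fun e => by
    have h6 := (normalizer (P : Set G)).card_mul_index
    have h7 := card_le_of_le (show (toPermHom G (Sylow p G)).ker ≤ normalizer (P : Set G) from
      fun g hg => Sylow.smul_eq_iff_mem_normalizer.mp (DFunLike.congr_fun (MonoidHom.mem_ker.mp hg) P))
    rw [← P.card_eq_index_normalizer, h5] at h6
    rcases hp with rfl | rfl <;> rcases hk with rfl | rfl <;> omega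
  have : FaithfulSMul G (Sylow p G) := ⟨fun {g g'} e =>
    (MonoidHom.ker_eq_bot_iff _).mp h6 (Equiv.ext e)⟩
  obtain ⟨g, hg⟩ : ∃ g : G, g • P ≠ P := by
    by_contra h
    push Not at h
    exact h4 (normal_of_forall_mem_normalizer fun g => Sylow.smul_eq_iff_mem_normalizer.mp (h g))
  obtain ⟨b, w, hZ, h7, h8⟩ := PSL2Rec.exists_zdata_of_prime h5 P.2
    (by intro e; rw [e, card_bot] at hP; omega) (fun x hx => PSL2Rec.smul_self_of_mem hx)
    (fun g hg x hx => conj_mem_of_mem_normalizer (Sylow.smul_eq_iff_mem_normalizer.mp hg) hx) hg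
  have h9 := hZ.card_eq
  rw [h7, hG] at h9
  have h10 : Nat.card ↥(stabilizer G P ⊓ stabilizer G b) = k := by
    rcases hp with rfl | rfl <;> omega
  have := hZ.recognition_of_even (F := ZMod p) (by rw [ZMod.card, h7]) (by rw [ZMod.card]; omega) h8
    (by rcases hk with rfl | rfl <;> rw [h10] <;> decide)
  rw [h10, ZMod.card] at this
  refine this.imp (fun e => ⟨e.1, e.2.2⟩) fun e => ⟨e.1, ?_⟩
  rcases hp with rfl | rfl <;> exact e.2

theorem TH.bot_case {x : G} (h : TH ⊤ x ⊥)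
    (hO : ∀ N : Subgroup G, N.Normal → ¬ 3 ∣ Nat.card N → N = ⊥) :
    (Nat.card G = 3 ∨ Nonempty (G ≃* DihedralGroup 3)) ∨
      Nonempty (G ≃* Matrix.ProjectiveSpecialLinearGroup (Fin 2) (ZMod 7)) := by
  have h1 := h.cent_eq
  rw [top_inf_eq, bot_sup_eq, ← cent_zpowers] at h1
  rcases S3331.result _ (card_zp h.ord) h1 with ⟨N, hN, -, a, b⟩ | ⟨N, hN, -, -, ⟨e⟩⟩ | e
  · obtain rfl := hO N hN ((Nat.Prime.coprime_iff_not_dvd Nat.prime_three).1 a.symm)
    exact Or.inl (b.imp (fun e => (Nat.card_congr QuotientGroup.quotientBot.toEquiv).symm.trans e)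
      fun ⟨e⟩ => perm3_dih.elim fun e' => ⟨(QuotientGroup.quotientBot.symm.trans e).trans e'⟩)
  · refine absurd (Dvd.dvd.trans ?_ N.card_quotient_dvd_card) (card_top (G := G) ▸ h.five)
    rw [Nat.card_congr e.toEquiv, Nat.card_eq_fintype_card, card_alternatingGroup]
    simp [Nat.factorial]
  · exact Or.inr e

theorem TH.exists_simple {x : G} {V : Subgroup G} (h : TH ⊤ x V) (hV : V ≠ ⊥)
    (hO : ∀ N : Subgroup G, N.Normal → ¬ 3 ∣ Nat.card N → N = ⊥) :
    ∃ X : Subgroup G, X.Normal ∧ x ∈ X ∧ IsSimpleGroup X ∧ ¬ IsMulCommutative X ∧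
      ∀ N : Subgroup G, N.Normal → N = ⊥ ∨ X ≤ N := by
  have h1 : ∀ N : Subgroup G, N.Normal → N = ⊥ ∨ normalClosure {x} ≤ N := fun N hN =>
    or_iff_not_imp_left.2 fun e => normalClosure_le_normal (Set.singleton_subset_iff.2
      (h.mem_of_dvd le_top (normalizer_eq_top N ▸ mem_top _) (by_contra fun e' => e (hO N hN e'))))
  have hx : x ∈ normalClosure {x} := subset_normalClosure rfl
  set X := normalClosure ({x} : Set G)
  have hX : X ⊴ ⊤ := ⟨le_top, (normalizer_eq_top X).ge⟩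
  have : Nontrivial X := ⟨⟨⟨x, hx⟩, 1, fun e => ne_one_of h.ord (congrArg Subtype.val e)⟩⟩
  refine ⟨X, inferInstance, hx, ⟨fun N hN => ?_⟩, fun e => hV ?_, h1⟩
  · have h2 : N.map X.subtype ⊴ X := (nrm_iff_normal_subgroupOf (map_subtype_le N)).2 (by
      rwa [subgroupOf, comap_map_eq_self_of_injective X.subtype_injective])
    by_cases h3 : 3 ∣ Nat.card (N.map X.subtype)
    · refine Or.inr (map_injective X.subtype_injective (le_antisymm (map_mono le_top) ?_))
      refine (map_subtype_le _).trans ((closure_le _).2 fun y hy => ?_)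
      obtain ⟨_, e, hy'⟩ := Group.mem_conjugatesOfSet_iff.1 hy
      obtain ⟨g, rfl⟩ := isConj_iff.1 (Set.mem_singleton_iff.1 e ▸ hy')
      obtain ⟨n, -, h4⟩ := h.of_ord (mem_top (g * x * g⁻¹)) (by rw [Local.orderOf_conj', h.ord])
      exact h4.mem_of_dvd le_top (h2.norm (hX.conj_mem trivial hx)) h3
    · refine Or.inl (map_injective X.subtype_injective ?_)
      rw [Subgroup.map_bot, eq_bot_iff, ← hO _ (normalizer_eq_top_iff.1 (top_le_iff.1
        ((core_nrm_of_nrm _ hX : core {3}ᶜ X ⊴ ⊤).norm))) (core_ndvd X)]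
      exact le_core3 h2 h3
  · refine hO V ⟨fun v hv g => h.mem_V trivial ?_ (by
      rw [Local.orderOf_conj']; exact ndvd_ord_of_sq (h.sq v hv))⟩ h.ndvd
    have h2 : X ≤ V ⊔ zpowers x := fun y hy =>
      h.cent_eq.le ⟨trivial, mem_cent1.2 (FT.isMulCommutative_iff.1 e x hx y hy)⟩
    have h3 : V ⊔ zpowers x ≤ 𝐂[v] := sup_le (fun w hw => mem_cent1.2 (comm_of_sq h.sq hv hw))
      (zpowers_le.2 (mem_cent1.2 (h.comm v hv)))
    have h4 := mem_cent1.1 (h3 (h2 (hX.conj_mem (g := g⁻¹) trivial hx)))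
    calc _ = g * (v * (g⁻¹ * x * g⁻¹⁻¹)) * g⁻¹ := by group
      _ = _ := by rw [h4]; group

theorem TH.card_le_two (h4 : FourHyp.{u}) {x : G} {V : Subgroup G} (h : TH ⊤ x V)
    (hs : IsSimpleGroup G) (ha : ¬ IsMulCommutative G) (hV : Nat.card V ≤ 4) :
    V = ⊥ ∨ Nat.card V = 2 := by
  obtain ⟨n, hn⟩ := h.pg.exists_card_eq
  have h1 := h4 G x V hs ha h
  have h2 : n ≤ 2 := (Nat.pow_le_pow_iff_right one_lt_two).1 (hn ▸ hV)
  rw [← card_eq_one]
  interval_cases n <;> omega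

theorem TH.ident (hc : CharHyp.{u}) (h6 : SixHyp.{u}) (h4 : FourHyp.{u}) {x : G} {V : Subgroup G}
    (h : TH ⊤ x V) (hV : Nat.card V ≤ 4)
    (hO : ∀ N : Subgroup G, N.Normal → ¬ 3 ∣ Nat.card N → N = ⊥) :
    (Nat.card G = 3 ∨ Nonempty (G ≃* DihedralGroup 3)) ∨
    (Nonempty (G ≃* Matrix.ProjectiveSpecialLinearGroup (Fin 2) (ZMod 7)) ∨
      Nonempty (G ≃* Matrix.ProjectiveSpecialLinearGroup (Fin 2) (ZMod 13))) ∨
    ((Nonempty (G ≃* GL (Fin 2) (ZMod 7) ⧸ center (GL (Fin 2) (ZMod 7))) ∨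
      Nonempty (G ≃* GL (Fin 2) (ZMod 13) ⧸ center (GL (Fin 2) (ZMod 13)))) ∧
      ∃ K : Subgroup G, K.Normal ∧ K.index = 2 ∧ K ⊔ V = ⊤) := by
  have : Fact (Nat.Prime 7) := ⟨by norm_num⟩
  have : Fact (Nat.Prime 13) := ⟨by norm_num⟩
  by_cases h0 : V = ⊥
  · exact (TH.bot_case (h0 ▸ h) hO).imp_right fun e => Or.inl (Or.inl e)
  obtain ⟨X, hX, hx, hs, ha, h1⟩ := h.exists_simple h0 hO
  have h2 := h.sub le_top hx
  have h3 := h2.toType
  have c3 : Nat.card ((V ⊓ X).subgroupOf X) = Nat.card ↥(V ⊓ X) :=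
    Nat.card_congr (subgroupOfEquivOfLe inf_le_right).toEquiv
  have c4 := c3.le.trans ((card_le_of_le inf_le_left).trans hV)
  obtain ⟨t, _, _, _, ht⟩ := hc X _ _ hs ha h3 c4
  have ht' : t * x * (t : G)⁻¹ = x⁻¹ := congrArg Subtype.val ht.inv
  have h5 : X ⊔ V = ⊤ := eq_top_iff.2 fun g _ => by
    have key : ∀ n ∈ X, n * x * n⁻¹ = g * x * g⁻¹ → g ∈ X ⊔ V := fun n hn e => by
      have : n⁻¹ * g ∈ V ⊔ zpowers x := h.cent_eq.le ⟨trivial, mem_cent1.2 (by
        calc _ = n⁻¹ * (n * x * n⁻¹) * g := by group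
          _ = _ := by rw [e]; group)⟩
      exact (mul_mem_cancel_left (inv_mem (mem_sup_left hn))).1
        (sup_le le_sup_right (zpowers_le.2 (mem_sup_left hx)) this)
    obtain ⟨n, hn, e | e⟩ := h2.exists_conj (hX.conj_mem x hx g) (by rw [Local.orderOf_conj', h.ord])
    · exact key n hn e
    · exact key (n * t) (mul_mem hn t.2) (by
        calc _ = n * (t * x * (t : G)⁻¹) * n⁻¹ := by group
          _ = (n * x * n⁻¹)⁻¹ := by rw [ht']; group
          _ = _ := by rw [e, inv_inv])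
  have h7 := card_sup_mul_card_inf (N := X) (A := V) (normalizer_eq_top X ▸ le_top)
  rw [h5, card_top, inf_comm, ← c3] at h7
  have h8 := X.card_mul_index
  have h9 : Nat.card V = 2 ∨ Nat.card V = 4 := by
    obtain ⟨n, hn⟩ := h.pg.exists_card_eq
    have h2 : n ≤ 2 := (Nat.pow_le_pow_iff_right one_lt_two).1 (hn ▸ hV)
    rw [← card_eq_one] at h0
    interval_cases n <;> omega
  have h10 : 168 ≤ Nat.card X → ∀ N : Subgroup G, N.Normal → N = ⊥ ∨ 168 ≤ Nat.card N :=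
    fun e N hN => (h1 N hN).imp_right fun e' => e.trans (card_le_of_le e')
  right
  rcases h3.card_le_two h4 hs ha c4 with e | e
  · have cX : Nat.card X = 168 := by
      rcases TH.bot_case (e ▸ h3) (fun N hN h3 => (hs.eq_bot_or_eq_top_of_normal N hN).resolve_right
        fun e => h3 (e ▸ h2.toType.ord ▸ orderOf_dvd_card_of_mem (mem_top _))) with (e | ⟨⟨e⟩⟩) | ⟨⟨e⟩⟩
      · exact absurd (isCyclic_of_prime_card e).isMulCommutative ha
      · have := solv_six X (by rw [Nat.card_congr e.toEquiv, DihedralGroup.nat_card])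
        exact absurd ⟨⟨IsSimpleGroup.comm_iff_isSolvable.2 this⟩⟩ ha
      · have c := PSL2Rec.card_psl2 (F := ZMod 7)
        rw [ZMod.card, ← Nat.card_congr e.toEquiv] at c
        norm_num [-Nat.card_eq_fintype_card] at c
        omega
    rw [e, card_bot, cX] at h7
    rcases psl_pgl (G := G) (p := 7) (k := 3 * Nat.card V) (Or.inl rfl) (by omega) (by omega)
      (h10 cX.ge) with e | e
    · exact Or.inr ⟨Or.inl e.1, X, hX, by rw [cX] at h8; omega, h5⟩
    · omega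
  · have cX := h6 X _ _ hs ha h3 e
    rw [e, cX] at h7
    rcases psl_pgl (G := G) (p := 13) (k := 3 * Nat.card V) (Or.inr rfl) (by omega) (by omega)
      (h10 (by omega)) with e | e
    · exact Or.inr ⟨Or.inr e.1, X, hX, by rw [cX] at h8; omega, h5⟩
    · exact Or.inl (Or.inr e.1)

theorem s3714_of (hc : CharHyp.{u}) (h6 : SixHyp.{u}) (h4 : FourHyp.{u})
    (h5 : ¬ 5 ∣ Nat.card G) (x : G) (hx : orderOf x = 3)
    (hC : Nat.card ↥(Subgroup.centralizer ({x} : Set G)) = 12)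
    (hCab : ∀ a ∈ Subgroup.centralizer ({x} : Set G), ∀ b ∈ Subgroup.centralizer ({x} : Set G),
      a * b = b * a)
    (hCexp : ∀ a ∈ Subgroup.centralizer ({x} : Set G), a ^ 6 = 1) :
    ((Nat.card (G ⧸ Cfsg.pPrimeCore 3 G) = 3 ∨
      Nonempty (G ⧸ Cfsg.pPrimeCore 3 G ≃* DihedralGroup 3)) ∧ Group.IsSolvable G) ∨
    (Nonempty (G ⧸ Cfsg.pPrimeCore 3 G ≃* Matrix.ProjectiveSpecialLinearGroup (Fin 2) (ZMod 7)) ∨
      Nonempty (G ⧸ Cfsg.pPrimeCore 3 G ≃* Matrix.ProjectiveSpecialLinearGroup (Fin 2) (ZMod 13))) ∨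
    ((Nonempty (G ⧸ Cfsg.pPrimeCore 3 G ≃*
        (GL (Fin 2) (ZMod 7) ⧸ Subgroup.center (GL (Fin 2) (ZMod 7)))) ∨
      Nonempty (G ⧸ Cfsg.pPrimeCore 3 G ≃*
        (GL (Fin 2) (ZMod 13) ⧸ Subgroup.center (GL (Fin 2) (ZMod 13))))) ∧
      ∃ K : Subgroup G, K.Normal ∧ K.index = 2 ∧ K ⊔ Subgroup.centralizer ({x} : Set G) = ⊤) := by
  obtain ⟨V, h, hV⟩ := exists_th h5 hx hC hCab hCexp
  set O := Cfsg.pPrimeCore 3 G
  have hO : ¬ 3 ∣ Nat.card O :=
    (Nat.Prime.coprime_iff_not_dvd Nat.prime_three).1 (coprime_card_pPrimeCore 3).symm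
  have hs := QuotientGroup.mk'_surjective O
  have h1 := h.im (Mor.ofHom (QuotientGroup.mk' O)) le_top fun e => hO (e.trans (card_dvd_of_le
    fun g hg => (QuotientGroup.eq_one_iff g).1 ((Mor.mem_ker _).1 hg.1).2))
  rw [Mor.ofHom_im, Mor.ofHom_im, map_top_of_surjective _ hs] at h1
  refine (h1.ident hc h6 h4 (hV ▸ Nat.le_of_dvd Nat.card_pos (card_map_dvd _ _)) fun N hN e =>
    eq_bot_iff.2 (pPrimeCore_quotient_eq_bot (G := G) 3 ▸ le_pPrimeCore hN (cop3 e))).imp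
    (fun e => ⟨e, ?_⟩) (Or.imp_right fun ⟨e, K, hK, e1, e2⟩ =>
      ⟨e, K.comap (QuotientGroup.mk' O), hK.comap _, (K.index_comap_of_surjective hs).trans e1, ?_⟩)
  · have := h.solv le_top hO
    have : Group.IsSolvable (G ⧸ O) := by
      rcases e with e | ⟨⟨e⟩⟩
      · have := isCyclic_of_prime_card e
        exact isSolvable_of_isMulCommutative inferInstance
      · exact solv_six _ (by rw [Nat.card_congr e.toEquiv, DihedralGroup.nat_card])
    exact solvable_of_ker_le_range O.subtype (QuotientGroup.mk' O) (by simp)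
  · refine eq_top_iff.2 (le_trans ?_ (sup_le_sup_left h.le_cent _))
    rw [← comap_top (QuotientGroup.mk' O), ← e2, ← comap_sup_eq _ _ _ hs, comap_map_eq]
    exact sup_le le_sup_left (sup_le le_sup_right ((ker_le_comap _ K).trans le_sup_left))

theorem s3715_of (h4 : FourHyp.{u}) [hs : IsSimpleGroup G] (hG : ¬ IsMulCommutative G)
    (h5 : ¬ 5 ∣ Nat.card G) (x : G) (hx : orderOf x = 3)
    (hC : Nat.card ↥(Subgroup.centralizer ({x} : Set G)) = 12)
    (hCab : ∀ a ∈ Subgroup.centralizer ({x} : Set G), ∀ b ∈ Subgroup.centralizer ({x} : Set G),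
      a * b = b * a)
    (hCexp : ∀ a ∈ Subgroup.centralizer ({x} : Set G), a ^ 6 = 1) : False :=
  (exists_th h5 hx hC hCab hCexp).elim fun V h => h4 G x V hs hG h.1 h.2

end Cfsg.Agent.Z6
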