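import Cfsg.Agent.Z6.NSb

/-!
# Insoluble groups with an element of order three with centraliser of order at most six
-/

set_option autoImplicit false
set_option linter.unusedSectionVars false

namespace Cfsg.Agent.Z6

open Subgroup Cfsg.Agent.Local Cfsg.Agent.FT Cfsg.Agent.Char
open scoped Pointwise

universe u

variable {G : Type u} [Group G] [Finite G]

namespace TH

variable {H V K X N : Subgroup G} {x t : G} (h : TH H x V)
include h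

/-- The case where every normal `3'`-subgroup meets `V`. -/
theorem red (hc : CharHyp.{u}) (h6 : SixHyp.{u}) (hV : Nat.card V ≤ 2) (ht : t ∈ H)
    (h2 : t * t = 1) (e : t * x * t⁻¹ = x⁻¹) (hs : ¬ Group.IsSolvable H)
    (hm : ∀ C, C ⊴ H → ¬ 3 ∣ Nat.card C → C ⊓ V = ⊥ → C = ⊥) :
    (Nat.card H = 168 ∨ Nat.card H = 336 ∨ Nat.card H = 1344 ∨ Nat.card H = 1092) ∧
    (∃ Q ≤ H, (Nat.card Q = 7 ∨ Nat.card Q = 13) ∧ x ∈ 𝐍(Q) ∧
      ∀ C, C ⊴ H → ¬ 3 ∣ Nat.card C → ¬ Q ≤ C) ∧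
    ∀ C, C ⊴ H → ¬ 3 ∣ Nat.card C →
      ∃ K ≤ H, IsPGroup 2 K ∧ x ∈ 𝐍(K) ∧ K ⊓ V ≤ C ∧ ¬ K ≤ C := by
  by_cases ho : core {3}ᶜ H = ⊥
  · obtain ⟨a, ⟨Q, q1, q2, q3⟩, K, k1, k2, k3, k4, k5⟩ := h.almost hc h6 hV hs ho
    refine ⟨by omega, ⟨Q, q1, q2, q3, fun C hC h3 hle => ?_⟩, fun C hC h3 =>
      ⟨K, k1, k2, k4, k5 ▸ bot_le, fun hle => k3 (le_bot_iff.1 (ho ▸ hle.trans (le_core3 hC h3)))⟩⟩
    have := card_le_of_le (hle.trans (le_core3 hC h3))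
    rw [ho, card_bot] at this
    omega
  have key : ∀ C, C ⊴ H → ¬ 3 ∣ Nat.card C → C ≠ ⊥ → Nat.card V = 2 ∧ V ≤ C := fun C hC h3 h1 => by
    have a : C ⊓ V ≠ ⊥ := fun a => h1 (hm C hC h3 a)
    have b := (one_lt_card_iff_ne_bot _).2 a
    have c := card_le_of_le (inf_le_right : C ⊓ V ≤ V)
    exact ⟨by omega, (eq_of_le_of_card_ge inf_le_right (by omega) : C ⊓ V = V).ge.trans inf_le_left⟩
  obtain ⟨X, hX, hle⟩ := exists_minNormal ho (core_nrm {3}ᶜ H).norm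
  have x3 : ¬ 3 ∣ Nat.card X := fun d => core_ndvd H (d.trans (card_dvd_of_le hle))
  have XH := hle.trans (core_le _ H)
  have nX : X ⊴ H := ⟨XH, hX.norm⟩
  obtain ⟨cV, VX⟩ := key X nX x3 hX.ne_bot
  have eX : IsEA 2 X := hX.isEA_of_dvd (h.solv XH x3) (cV ▸ card_dvd_of_le VX)
  obtain ⟨a, ⟨Q, q1, q2, q3⟩, ⟨K, k1, k2, k3, k4, k5⟩, ⟨L, l1, l2, l3, l4⟩, hN⟩ :=
    h.mn2 hc cV ht h2 e hs hX XH eX VX
  have CX : ∀ C, C ⊴ H → ¬ 3 ∣ Nat.card C → C ≤ X := fun C hC h3 => by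
    rcases hN _ (core_nrm {3}ᶜ H) hle with b | b
    · exact b ▸ le_core3 hC h3
    · exact absurd (h.solv (core_le _ H) (core_ndvd H)) (by rwa [b])
  refine ⟨by omega, ⟨Q, q1, Or.inl q2, q3, fun C hC h3 hle => ?_⟩, fun C hC h3 => ?_⟩
  · obtain ⟨k, hk⟩ := PG.card_eq_pow (PG.isPGroup_of_expo eX.2)
    have d := card_dvd_of_le (hle.trans (CX C hC h3))
    rw [q2, hk] at d
    have := Nat.Prime.dvd_of_dvd_pow (by norm_num) d
    omega
  · by_cases h1 : C = ⊥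
    · exact ⟨K, k1, k2, k4, k5 ▸ bot_le, fun hle => k3 (le_bot_iff.1 (h1 ▸ hle))⟩
    · exact ⟨L, l1, l2, l3, inf_le_right.trans (key C hC h3 h1).2,
        fun hle => l4 (hle.trans (CX C hC h3))⟩

/-- Pulling back an invariant `q`-subgroup. -/
theorem pull (hN : N ⊴ H) (h3 : ¬ 3 ∣ Nat.card N) (q : ℕ) [Fact q.Prime] {Q : Subgroup (Quo N)}
    (hQ : Q ≤ FT.quo N H) (pQ : IsPGroup q Q) (q3 : ¬ 3 ∣ Nat.card Q) (xQ : cos N x ∈ 𝐍(Q)) :
    ∃ Q' ≤ H, IsPGroup q Q' ∧ x ∈ 𝐍(Q') ∧ FT.quo N Q' = Q := by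
  obtain ⟨P, hP, -, xP⟩ := h.exists_sylow q (coquo_le_of_le_quo hN hQ)
    ((cos N).mem_normalizer_pre (hN.norm h.mem) xQ) (by
      rw [card_coquo, Nat.prime_three.dvd_mul, not_or]
      exact ⟨h3, q3⟩) bot_le IsPGroup.of_bot (mem_norm_bot x)
  have h4 := isSylowIn_quo hP (coquo_le Q)
  rw [quo_coquo] at h4
  exact ⟨P, hP.le.trans (coquo_le_of_le_quo hN hQ), hP.isPGroup, xP,
    (h4.eq_of_le pQ h4.le le_rfl).symm⟩

end TH

theorem ns (hc : CharHyp.{u}) (h6 : SixHyp.{u}) {Y V : Subgroup G} {x τ : G} (h : TH Y x V)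
    (hV : Nat.card V ≤ 2) (hτ : τ ∈ Y) (h2 : τ * τ = 1) (e : τ * x * τ⁻¹ = x⁻¹)
    (hs : ¬ Group.IsSolvable Y) : NSC Y ⊥ x := by
  obtain ⟨N, -, hN⟩ := exists_maximal_ge_of_wellFoundedGT
    (fun N : Subgroup G => N ⊴ Y ∧ ¬ 3 ∣ Nat.card N ∧ N ⊓ V = ⊥) ⊥ ⟨Nrm.bot Y, by simp, by simp⟩
  obtain ⟨nN, N3, NV⟩ := hN.prop
  by_cases h0 : N = ⊥
  · obtain ⟨a, ⟨Q, q1, q2, q3, -⟩, -⟩ := h.red hc h6 hV hτ h2 e hs fun C hC h3 h1 =>
      le_bot_iff.1 (h0 ▸ hN.le_of_ge ⟨hC, h3, h1⟩ (h0 ▸ bot_le))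
    exact ⟨by simpa using a, Q, q1, q2, q3⟩
  exfalso
  have h1 := h.quo nN.norm N3
  have xN := nN.norm h.mem
  have tN := nN.norm hτ
  obtain ⟨-, ⟨Q, q1, q2, q3, q4⟩, hK⟩ := h1.red hc h6 ((Nat.le_of_dvd Nat.card_pos
    (card_quo_dvd N V)).trans hV) (cos_mem_quo tN hτ)
    (by rw [← (cos N).map_mul tN tN, h2, Mor.map_one])
    (by rw [← (cos N).map_conj tN xN, e, (cos N).map_inv xN])
    (fun a => hs (isSolvable_of_quo nN.norm (h.solv nN.le N3) a)) fun C hC h3 hCV => by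
      have a := quo_inf_coquo V C
      rw [inf_comm (quo N V), hCV, quo_eq_bot_iff (inf_le_right.trans (coquo_le C))] at a
      rw [← quo_coquo (N := N) C]
      refine quo_eq_bot (hN.le_of_ge ⟨coquo_nrm_of_nrm_quo nN hC, ?_, le_bot_iff.1 ?_⟩ (le_coquo C))
      · rw [card_coquo, Nat.prime_three.dvd_mul, not_or]
        exact ⟨N3, h3⟩
      · rw [← NV, inf_comm]
        exact le_inf a inf_le_left
  obtain ⟨P, hP, PN⟩ := exists_minNormal h0 nN.norm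
  have PY := PN.trans nN.le
  have P3 : ¬ 3 ∣ Nat.card P := fun d => N3 (d.trans (card_dvd_of_le PN))
  have PV : P ⊓ V = ⊥ := le_bot_iff.1 (NV ▸ inf_le_inf_right _ PN)
  have xP := hP.norm h.mem
  set C := Y ⊓ 𝐂(P)
  have nC : C ⊴ Y := Nrm.cent hP.norm
  have NC : N ⊴ C := nN.of_le (le_inf nN.le (hP.le_cent_of_nil nN PY (h.nil nN.le xN N3 NV))) nC.le
  have C3 : ¬ 3 ∣ Nat.card (quo N C) := fun d => hP.ne_bot (le_bot_iff.1 (PV ▸ le_inf le_rfl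
    (h.le_Vc PY P3 (h.mem_of_dvd nC.le (nC.norm h.mem) (d.trans (card_quo_dvd N C))).2)))
  obtain ⟨p, hp, eP⟩ := hP.isEA (h.solv PY P3)
  have := Fact.mk hp
  have pP : IsPGroup p P := PG.isPGroup_of_expo eP.2
  by_cases p2 : p = 2
  · subst p2
    have hq : (Nat.card Q).Prime := by rcases q2 with a | a <;> rw [a] <;> norm_num
    have := Fact.mk hq
    obtain ⟨R, r1, r2, r3, r4⟩ := h.pull nN N3 (Nat.card Q) q1
      (IsPGroup.of_card (n := 1) (by rw [pow_one])) (by omega) q3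
    obtain ⟨k, hk⟩ := PG.card_eq_pow r2
    have nd : ∀ r : ℕ, r.Prime → r ∣ Nat.card R → r = Nat.card Q := fun r hr d =>
      (Nat.prime_dvd_prime_iff_eq hr hq).1 (hr.dvd_of_dvd_pow (hk ▸ d))
    refine q4 _ (quo_nrm N nC) C3 (r4 ▸ quo_mono N (le_inf r1 (h.fm' r1 r3 (fun d => ?_)
      (fun d => ?_) PY pP xP (r1.trans hP.norm) PV)))
    · have := nd 2 Nat.prime_two d
      omega
    · have := nd 3 Nat.prime_three d
      omega
  · obtain ⟨K, k1, k2, k3, k4, k5⟩ := hK _ (quo_nrm N nC) C3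
    obtain ⟨R, r1, r2, r3, r4⟩ := h.pull nN N3 2 k1 k2 (ndvd_of_pg2 k2) k3
    obtain ⟨k, hk⟩ := PG.card_eq_pow pP
    refine k5 (r4 ▸ quo_mono N (le_inf r1 (h.fm PY xP (fun d => p2 ?_) P3 r1 r2 r3
      (r1.trans hP.norm) (le_trans (b := C) ?_ inf_le_right))))
    · exact ((Nat.prime_dvd_prime_iff_eq Nat.prime_two hp).1
        (Nat.prime_two.dvd_of_dvd_pow (hk ▸ d))).symm
    · rw [← quo_le_quo_iff_of_nrm (inf_le_left.trans (r1.trans nN.norm)) NC]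
      exact le_trans (le_inf (r4 ▸ quo_mono N inf_le_left) (quo_mono N inf_le_right)) k4

theorem ns' (hc : CharHyp.{u}) (h6 : SixHyp.{u}) {M K V : Subgroup G} {x τ : G} (h : TH M x V)
    (hV : Nat.card V ≤ 4) (hτ : τ ∈ M) (h2 : τ * τ = 1) (e : τ * x * τ⁻¹ = x⁻¹)
    (hK : K ⊴ M) (pK : IsPGroup 2 K) (hu : K ⊓ V ≠ ⊥) (hs : ¬ Group.IsSolvable M) :
    NSC M K x := by
  have xN := hK.norm h.mem
  have tN := hK.norm hτ
  have c1 := (cos K).card_ker_inf_mul_card_im (h.le.trans hK.norm)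
  rw [ker_cos] at c1
  have c2 := (one_lt_card_iff_ne_bot _).2 hu
  obtain ⟨a, Q, q1, q2, q3⟩ := ns hc h6 (h.quo hK.norm (ndvd_of_pg2 pK))
    (by change Nat.card ((cos K).im V) ≤ 2; nlinarith) (cos_mem_quo tN hτ)
    (by rw [← (cos K).map_mul tN tN, h2, Mor.map_one])
    (by rw [← (cos K).map_conj tN xN, e, (cos K).map_inv xN])
    fun a => hs (isSolvable_of_quo hK.norm (isSolvable_of_isPGroup' pK) a)
  have c3 := card_mul_card_quo hK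
  have hq : (Nat.card Q).Prime := by rcases q2 with a | a <;> rw [a] <;> norm_num
  have := Fact.mk hq
  obtain ⟨R, r1, r2, r3, -⟩ := h.pull_Q hK pK (q := Nat.card Q) (by omega) (by omega) q1 rfl q3
  refine ⟨?_, R, r1, r2 ▸ q2, r3⟩
  simp only [card_bot, mul_one] at a
  rcases a with a | a | a | a <;> rw [a] at c3 <;> omega

end Cfsg.Agent.Z6
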