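import Cfsg.Agent.Z6.Lem
import Cfsg.Agent.Z6.NumA

/-!
# The numerical elimination
-/

set_option autoImplicit false
set_option linter.unusedSectionVars false

namespace Cfsg.Agent.Z6

open Subgroup Cfsg.Agent.Local Cfsg.Agent.FT Cfsg.Agent.Char Cfsg.Agent.Z6.Num
open scoped Pointwise

universe u

variable {G : Type u} [Group G] [Finite G]

theorem Num.sylow_zp {H : Subgroup G} {p : ℕ} {g : G} (hg : orderOf g = p) (hH : g ∈ H)
    (h2 : ¬ p * p ∣ Nat.card H) : IsSylowIn p (zpowers g) H :=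
  ⟨zpowers_le.2 hH, IsPGroup.of_card (n := 1) (by rw [Nat.card_zpowers, hg, pow_one]), fun e => h2 (by
    rw [← card_mul_relIndex (zpowers_le.2 hH), Nat.card_zpowers, hg]; exact Nat.mul_dvd_mul_left _ e)⟩

theorem Num.card_dec (g : G) (H : Subgroup G) : Nat.card H =
    Nat.card ↥(H ⊓ 𝐂[g]) * 𝐂(zpowers g).relIndex (H ⊓ 𝐍(zpowers g)) * 𝐍(zpowers g).relIndex H := by
  rw [← card_inf_mul_relIndex 𝐍(zpowers g) H, ← card_inf_mul_relIndex 𝐂(zpowers g) (𝐍(zpowers g) ⊓ H), ← inf_assoc,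
    inf_eq_left.2 (centralizer_le_normalizer' _), inf_comm H, inf_comm H, cent_zpowers]

namespace Fus

variable {x t : G} {V : Subgroup G} (h : Fus x V t)
include h

theorem not_comm : x * t ≠ t * x := fun e => by
  have := h.inv
  rw [← e, mul_inv_cancel_right, ← sq_of h.th.ord, left_eq_mul] at this
  exact ne_one_of h.th.ord this

theorem V_le_t : V ≤ 𝐂[t] := fun v hv => mem_cent1.2 (h.tV v hv)

theorem two_dvd {w : G} (hw : orderOf w = 2) : 2 * Nat.card V ∣ cc w := by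
  obtain ⟨v, hv, e⟩ := h.cls w hw
  have h' := h.shift hv
  rw [← cc_conj e, ← PG.card_sup_zpowers (centralizer_le_normalizer' V fun a ha => (h'.tV a ha).symm)
    (fun e => h'.not_comm (h.th.comm _ e).symm) (by rw [pow_two, h'.t2]; exact one_mem _)]
  exact card_dvd_of_le (sup_le h'.V_le_t (zpowers_le.2 (mem_cent1.2 rfl)))

theorem cc_V {v : G} (hv : v ∈ V) : ∃ k, cc v = 6 * Nat.card V * k ∧ k % 3 = 1 := by
  have h1 := relIndex_cent_dvd_pred (A := 𝐂[v] ⊓ 𝐍(zpowers x)) (by rw [card_zp h.th.ord]; norm_num) inf_le_right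
  rw [card_zp h.th.ord] at h1
  refine ⟨_, ?_, sylow_count (h.thC hv).sylow⟩
  rw [cc, card_dec x, (h.thC hv).card_cent, ((Nat.dvd_prime Nat.prime_two).1 h1).resolve_left fun e =>
    h.not_comm (mem_cent1.1 (cent_zpowers x ▸ relIndex_eq_one.1 e ⟨h.t_mem hv, norm_zp_of_inv h.inv⟩))]
  ring

theorem exists_full : ∃ w : G, orderOf w = 2 ∧ ¬ 2 * cc w ∣ Nat.card G := by
  obtain ⟨S, hS, h1⟩ := exists_isSylowIn_ge (N := ⊤) (Q := zpowers (t * 1)) (IsPGroup.of_card (p := 2) (n := 1)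
    (by rw [Nat.card_zpowers, (h.ord' (one_mem V)), pow_one])) le_top
  obtain ⟨z, -, h2, h3, h4⟩ := PG.exists_central_mod hS.isPGroup (K := ⊥) ⟨bot_le, fun a _ => mem_norm_bot a⟩
    (Nrm.refl S) fun e => ne_one_of_two (h.ord' (one_mem V)) (e (h1 (mem_zpowers _)))
  refine ⟨z, orderOf_eq_prime h3 h2, fun e => hS.not_dvd ?_⟩
  rw [← 𝐂[z].index_mul_card, Nat.mul_dvd_mul_iff_right Nat.card_pos] at e
  rw [relIndex_top_right]
  exact e.trans (index_dvd_of_le fun g hg => mem_cent1.2 (by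
    rw [← mul_inv_eq_one.1 (h4 g hg), inv_mul_cancel_right, mul_inv_eq_one.1 (h4 g hg)]))

theorem nn_two (hs : ∀ w : G, orderOf w = 2 → ∃ v ∈ V, IsConj v w) : ∃ v ∈ V, v ≠ 1 ∧ nn t V v = 2 := by
  by_contra! hn
  choose f f1 f2 using fun w : V => hs _ (h.ord' w.2)
  have f3 : ∀ w, f w ≠ 1 := fun w e => ne_one_of_two (h.ord' w.2) (isConj_one_right.1 (e ▸ f2 w))
  obtain ⟨w, e⟩ := Finite.injective_iff_surjective.1 (show Function.Injective fun w => (⟨f w, f1 w⟩ : V) from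
    fun w w' e => Subtype.ext ((Set.ncard_le_one (Set.toFinite _)).1 (show nn t V (f w) ≤ 1 by
      have := hn _ (f1 w) (f3 w)
      have := h.nn_le_two (f1 w) (f3 w)
      omega) _ ⟨w.2, (f2 w).symm⟩ _ ⟨w'.2, by rw [Subtype.mk.inj e]; exact (f2 w').symm⟩)) 1
  exact f3 w (congrArg Subtype.val e)

theorem nn_one (hV : Nat.card V = 4) : ∃ v ∈ V, v ≠ 1 ∧ nn t V v = 1 := by
  classical
  by_contra! hn
  have := Fintype.ofFinite G
  have h1 : ∀ a, a ∈ (V : Set G).toFinset.erase 1 ↔ a ≠ 1 ∧ a ∈ V := by simp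
  have h2 := (Finset.card_nsmul_le_sum _ _ 2 fun a ha => ?_).trans (h.sum_nn_le ((V : Set G).toFinset.erase 1)
    fun a ha b hb => h.eq_of_conj ((h1 a).1 ha).2 ((h1 b).1 hb).2)
  · rw [Finset.card_erase_of_mem (by simpa using one_mem V), ← Nat.card_eq_card_toFinset, SetLike.coe_sort_coe, hV] at h2
    simp at h2
  · obtain ⟨h2, h3⟩ := (h1 a).1 ha
    have := hn a h3 h2
    have := h.nn_pos (h.ord2 h3 h2)
    omega

theorem k4 (hV : Nat.card V = 4) {w : G} (hw : orderOf w = 2) {q : ℕ} (hq : q = 11 ∨ q = 43) (hc : cc w = 64 * q) :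
    ∃ v ∈ V, v ≠ 1 ∧ q ∣ cc v := by
  have hp : Fact q.Prime := ⟨by rcases hq with rfl | rfl <;> norm_num⟩
  obtain ⟨v, hv, e⟩ := h.cls w hw
  rw [← cc_conj e] at hc
  obtain ⟨g, hg, gq⟩ := exists_mem_orderOf_eq_of_dvd_card hp.out (Dvd.intro_left _ hc.symm)
  have h1 := sylow_count (sylow_zp gq hg (by rw [← cc, hc]; rcases hq with rfl | rfl <;> omega))
  have h2 := relIndex_dvd_of_le_left 𝐂[t * v] (le_normalizer (H := zpowers g))
  have h3 := card_mul_relIndex (zpowers_le.2 hg)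
  rw [Nat.card_zpowers, gq, ← cc, hc, mul_comm] at h3
  rw [Nat.eq_of_mul_eq_mul_right hp.out.pos h3] at h2
  have h4 := relIndex_cent_dvd_pred (Nat.card_zpowers g ▸ gq ▸ hp.out) ((h.shift hv).V_le_t.trans (relIndex_eq_one.1 (by
    generalize 𝐍(zpowers g).relIndex _ = r at h1 h2
    have := Nat.le_of_dvd (by norm_num) h2
    rcases hq with rfl | rfl <;> interval_cases r <;> omega)))
  have h5 := card_inf_mul_relIndex 𝐂(zpowers g) V
  by_contra! hn
  rw [(eq_bot_iff_forall (𝐂(zpowers g) ⊓ V)).2 fun a ha => by_contra fun e => hn a ha.2 e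
    (gq ▸ orderOf_dvd_card_of_mem (mem_cent1.2 (ha.1 g (mem_zpowers g)).symm)), card_bot, one_mul, hV] at h5
  rw [h5, Nat.card_zpowers, gq] at h4
  omega

end Fus

namespace CD

variable {x t : G} {V : Subgroup G} {d ν : ℕ} {δ : G → ℕ} (h : CD x V t d ν δ)
include h

theorem adm {w : G} (hw : orderOf w = 2) : Adm (Nat.card V) ν d (Nat.card G) (nn t V w) (cc w) := by
  obtain ⟨j, e⟩ := h.four w hw
  have h1 := h.lo w hw
  have h2 := h.hi w hw
  have h3 := h.col w hw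
  refine ⟨j, e ▸ h.nc w hw, by omega, by omega, ?_, card_subgroup_dvd_card _, h.toFus.two_dvd hw⟩
  rw [e] at h3
  zify
  push_cast at h3
  linarith

theorem surv {p : ℕ} (hp : p.Prime) (h7 : 7 ≤ p) (h1 : p ∣ Nat.card G) (h2 : ¬ p * p ∣ Nat.card G)
    (hc : ∀ w : G, orderOf w = 2 → ¬ p ∣ cc w) {w : G} (hw : orderOf w = 2) {nm : ℕ} (hn : nn t V w ≤ nm) :
    Surv ν d (Nat.card G) nm p := by
  have := Fact.mk hp
  have := h.simple
  obtain ⟨g, hg⟩ := exists_prime_orderOf_dvd_card' p h1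
  have hS := sylow_zp hg (mem_top g) (by rwa [card_top])
  obtain ⟨k, hk⟩ : p ∣ cc g := hg ▸ orderOf_dvd_card_of_mem (mem_cent1.2 rfl)
  have hd : ∀ q, q ∣ k → q ∣ Nat.card 𝐂[g] := fun q e => e.trans (Dvd.intro_left _ hk.symm)
  have nd : ∀ q, q.Prime → q < 7 → ¬ q ∣ orderOf g := fun q hq h3 e => by
    have := (Nat.prime_dvd_prime_iff_eq hq hp).1 (hg ▸ e)
    omega
  have g1 : g ≠ 1 := by rintro rfl; rw [orderOf_one] at hg; omega
  have hV : (Nat.card V).Coprime p := cop_pg2 h.th.pg (hg ▸ nd 2 Nat.prime_two (by omega))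
  have hν : ¬ p ∣ ν := fun ⟨a, e⟩ => h2 ((hV.mul_right hV).symm.dvd_of_dvd_mul_left
    ⟨3 * a ^ 2 * (d * (d + 1)), by rw [h.ord, e]; ring⟩)
  refine ⟨k, 𝐂(zpowers g).relIndex (⊤ ⊓ 𝐍(zpowers g)), 𝐍(zpowers g).relIndex ⊤, ?_, ?_, ?_, fun e => ?_, fun e => ?_,
    fun e => ?_, ?_, fun q hq e e' => by_contra fun e'' => ?_⟩
  · rw [← hk, ← card_top, card_dec g, top_inf_eq]
  · rw [sylow_count hS, Nat.mod_eq_of_lt hp.one_lt]
  · exact hk ▸ (h.bound g (hg ▸ hp) (hg ▸ h7) w hw).trans (Nat.mul_le_mul_left _ hn)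
  · obtain ⟨u, hu, u2⟩ := exists_mem_orderOf_eq_of_dvd_card Nat.prime_two (hd 2 e)
    exact hc u u2 (hg ▸ orderOf_dvd_card_of_mem (mem_cent1.2 (mem_cent1.1 hu).symm))
  · exact h.th.cent_ndvd g1 (nd 2 Nat.prime_two (by omega)) (nd 3 Nat.prime_three (by omega)) (mem_top g)
      (by rw [top_inf_eq]; exact hd 3 e)
  · have h3 := Burnside_normal_complement hS (relIndex_eq_one.1 e)
    rcases (nrm_top_iff.1 (core_nrm {p}ᶜ (⊤ : Subgroup G))).eq_bot_or_eq_top with e | e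
    · have h4 := h3.sup
      rw [e, bot_sup_eq] at h4
      exact h.nonab ⟨⟨fun a b => (mul_comm_of_mem_isMulCommutative _ (h4.ge (mem_top a)) (h4.ge (mem_top b)))⟩⟩
    · have h4 := h3.inf
      rw [e, top_inf_eq] at h4
      exact g1 (zpowers_eq_bot.1 h4)
  · simpa only [Nat.card_zpowers, hg] using relIndex_cent_dvd_pred (A := ⊤ ⊓ 𝐍(zpowers g))
      (Nat.card_zpowers g ▸ hg ▸ hp) inf_le_right
  · obtain ⟨hq, q7⟩ := prs_prime q hq
    obtain ⟨u, hu, uq⟩ := exists_mem_orderOf_eq_of_dvd_card hq (hd q e)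
    have h3 := (show Commute g u from mem_cent1.1 hu).orderOf_mul_eq_mul_orderOf_of_coprime (by
      rw [hg, uq, Nat.coprime_primes hp hq]
      rintro rfl
      exact h2 ((hk ▸ Nat.mul_dvd_mul_left _ e).trans (card_subgroup_dvd_card 𝐂[g])))
    rw [hg, uq] at h3
    split_ifs at e' with h4
    · exact h.side p q hp hq h7 q7 (Nat.dvd_of_mod_eq_zero h4) e' hν e'' _ (Dvd.intro _ h3.symm)
        (Dvd.intro_left _ h3.symm)
    · have h5 := h1.mul_left (Nat.card V)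
      rw [h.ord, hp.dvd_mul, hp.dvd_mul, hp.dvd_mul] at h5
      rcases h5 with (h5 | h5) | h5 | h5
      · have := Nat.le_of_dvd (by omega) h5
        omega
      · exact hν (hp.dvd_of_dvd_pow h5)
      · exact h4 (Nat.mod_eq_zero_of_dvd h5)
      · exact h.side q p hq hp q7 h7 e' h5 e'' hν _ (Dvd.intro_left _ h3.symm) (Dvd.intro _ h3.symm)

theorem not_fin {cs : List ℕ} (hc : ∀ w : G, orderOf w = 2 → cc w ∈ cs) {w : G} (hw : orderOf w = 2) {nm : ℕ}
    (hn : nn t V w ≤ nm) : finB ν d (Nat.card G) nm cs ≠ true := fun e => by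
  rcases finB_sound e with e | ⟨p, hp, h1, h2, h3, h4⟩
  · obtain ⟨z, h1, h2⟩ := h.toFus.exists_full
    exact h2 (e _ (hc z h1))
  · exact h4 (h.surv (prs_prime p hp).1 (prs_prime p hp).2 h1 h2 (fun u hu => h3 _ (hc u hu)) hw hn)

theorem of_chk {m : ℕ} (hV : Nat.card V = m) {L : List ℕ} {f : ℕ → ℕ → ℕ → ℕ → ℕ → Bool}
    (e : (L.all fun c => [1, 2].all fun n => chk m n c (f n c)) = true) {v : G} (hv : v ∈ V) (h1 : v ≠ 1)
    (hc : cc v ∈ L) (hL : cc v ≤ 7000) : f (nn t V v) (cc v) ν d (Nat.card G) = true := by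
  have h2 := h.toFus.ord2 hv h1
  have := h.toFus.nn_pos h2
  have := h.toFus.nn_le_two hv h1
  exact chk_sound (List.all_eq_true.1 (List.all_eq_true.1 e _ hc) _ (by simp; omega)) (hV ▸ h.adm h2) hL h.nu_pos
    (hV ▸ Nat.card_pos) (hV ▸ h.ord) (card_top (G := G) ▸ h.th.not_nine le_rfl) (card_top (G := G) ▸ h.th.five)

theorem num2 (hV : Nat.card V = 2) {v : G} (hv : v ∈ V) (h1 : v ≠ 1)
    (hc : cc v ∈ ({12, 48, 192, 768, 3072, 336} : Finset ℕ)) : Nat.card G = 1092 := by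
  have h2 := h.of_chk hV chk2 hv h1 (by simpa using hc) (by simp at hc; omega)
  have h3 : ∀ u ∈ V, u ≠ 1 → u = v := fun u hu e => by
    obtain ⟨y, -, e'⟩ := (Nat.card_eq_two_iff' (1 : V)).1 hV
    exact congrArg Subtype.val ((e' ⟨u, hu⟩ (by simpa using e)).trans (e' ⟨v, hv⟩ (by simpa using h1)).symm)
  have h4 : ∀ w : G, orderOf w = 2 → ∀ u ∈ V, IsConj u w → cc w = cc v := fun w hw u hu e =>
    h3 u hu (by rintro rfl; exact ne_one_of_two hw (isConj_one_right.1 e)) ▸ (cc_conj e).symm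
  have h5 := h.toFus.ord2 hv h1
  rw [f2, Bool.or_eq_true, beq_iff_eq] at h2
  refine h2.resolve_right fun h2 => ?_
  by_cases hs : ∀ w : G, orderOf w = 2 → ∃ v ∈ V, IsConj v w
  · obtain ⟨u, hu, u1, e⟩ := h.toFus.nn_two hs
    rw [if_pos (h3 u hu u1 ▸ e)] at h2
    refine h.not_fin (fun w hw => ?_) h5 (h.toFus.nn_le_two hv h1) h2
    obtain ⟨u, hu, e⟩ := hs w hw
    simp [h4 w hw u hu e]
  push Not at hs
  obtain ⟨w, hw, hs⟩ := hs
  obtain ⟨n1, n2⟩ := h.toFus.nn_sp hv h1 hw hs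
  rw [if_neg (by omega), List.all_eq_true] at h2
  have := h2 _ (mem_lst (hV ▸ n1 ▸ h.adm hw) one_pos)
  rw [Bool.or_eq_true, beq_iff_eq] at this
  rcases this with e | e
  · obtain ⟨u, hu, e⟩ := h.toFus.conj_V_of_dvd hw (Nat.dvd_of_mod_eq_zero e)
    exact hs u hu e
  refine h.not_fin (fun w' hw' => ?_) h5 (h.toFus.nn_le_two hv h1) e
  by_cases e : ∃ u ∈ V, IsConj u w'
  · obtain ⟨u, hu, e⟩ := e
    simp [h4 w' hw' u hu e]
  · simp [cc_conj (h.toFus.sp_conj (fun e => h1 (mem_bot.1 (e ▸ hv))) hw hs hw' fun u hu e' => e ⟨u, hu, e'⟩)]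

theorem not_f4 (hV : Nat.card V = 4) {al : ℕ → Bool} (ha : ∀ v ∈ V, v ≠ 1 → al (cc v) = true) {v : G} (hv : v ∈ V)
    (h1 : v ≠ 1) : f4 al (nn t V v) ν d (Nat.card G) ≠ true := fun h2 => by
  have h3 : ∀ u ∈ V, u ≠ 1 → cc u ∈ vl al ν d (Nat.card G) (nn t V u) := fun u hu e => by
    obtain ⟨k, e1, e2⟩ := h.toFus.cc_V hu
    rw [hV] at e1
    have := h.toFus.ord2 hu e
    exact List.mem_filter.2 ⟨mem_lst (hV ▸ h.adm this) (h.toFus.nn_pos this), by simp [ha u hu e]; omega⟩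
  have h4 : ∀ w : G, orderOf w = 2 → ∀ u ∈ V, IsConj u w → u ≠ 1 := by
    rintro w hw u hu e rfl
    exact ne_one_of_two hw (isConj_one_right.1 e)
  simp only [f4, Bool.and_eq_true, Bool.or_eq_true, List.all_eq_true, List.any_eq_true, beq_iff_eq, bne_iff_ne,
    List.isEmpty_iff] at h2
  obtain ⟨a, ha, a1, na⟩ := h.toFus.nn_one hV
  by_cases hs : ∀ w : G, orderOf w = 2 → ∃ v ∈ V, IsConj v w
  · obtain ⟨b, hb, b1, nb⟩ := h.toFus.nn_two hs
    rcases h2.1 with (e | e) | e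
    · exact List.ne_nil_of_mem (na ▸ h3 a ha a1) e
    · exact List.ne_nil_of_mem (nb ▸ h3 b hb b1) e
    refine h.not_fin (fun w hw => ?_) (h.toFus.ord2 ha a1) na.le e
    obtain ⟨u, hu, e⟩ := hs w hw
    have u1 := h4 w hw u hu e
    have h5 := h3 u hu u1
    have := h.toFus.nn_pos (h.toFus.ord2 hu u1)
    have := h.toFus.nn_le_two hu u1
    rw [← cc_conj e, List.mem_append]
    obtain e | e : nn t V u = 1 ∨ nn t V u = 2 := by omega
    exacts [.inl (e ▸ h5), .inr (e ▸ h5)]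
  push Not at hs
  obtain ⟨w, hw, hs⟩ := hs
  obtain ⟨n1, n2⟩ := h.toFus.nn_sp hv h1 hw hs
  have h5 : ∀ u ∈ V, u ≠ 1 → cc u ∈ vl al ν d (Nat.card G) 1 := fun u hu e =>
    (h.toFus.nn_sp hu e hw hs).2 ▸ h3 u hu e
  rcases h2.2.resolve_left (by omega) _ (mem_lst (hV ▸ n1 ▸ h.adm hw) one_pos) with (e | e) | ⟨q, hq, e, e'⟩
  · obtain ⟨u, hu, e⟩ := h.toFus.conj_V_of_dvd hw (Nat.dvd_of_mod_eq_zero e)
    exact hs u hu e
  · refine h.not_fin (fun w' hw' => ?_) hw n1.le e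
    by_cases e : ∃ u ∈ V, IsConj u w'
    · obtain ⟨u, hu, e⟩ := e
      exact List.mem_cons_of_mem _ (cc_conj e ▸ h5 u hu (h4 w' hw' u hu e))
    · simp [cc_conj (h.toFus.sp_conj (fun e => h1 (mem_bot.1 (e ▸ hv))) hw hs hw' fun u hu e' => e ⟨u, hu, e'⟩)]
  · obtain ⟨u, hu, u1, e⟩ := h.toFus.k4 hV hw (by simpa using hq) e
    exact e' _ (h5 u hu u1) (Nat.mod_eq_zero_of_dvd e)

theorem num4s (hV : Nat.card V = 4) (hc : ∀ v ∈ V, v ≠ 1 → cc v ∈ ({24, 96, 384, 1536, 6144} : Finset ℕ)) : False := by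
  obtain ⟨v, hv, h1, -⟩ := h.toFus.nn_one hV
  have := hc v hv h1
  exact h.not_f4 hV (fun u hu e => by simpa using hc u hu e) hv h1
    (h.of_chk hV (f := fun n _ => f4 _ n) chk4s hv h1 (by simpa using this) (by simp at this; omega))

theorem num4n (hV : Nat.card V = 4) {v : G} (hv : v ∈ V) (h1 : v ≠ 1)
    (hc : cc v ∈ ({336, 672, 2688, 2184} : Finset ℕ)) : False := by
  obtain ⟨k, e1, e2⟩ := h.toFus.cc_V hv
  rw [hV] at e1
  simp only [Finset.mem_insert, Finset.mem_singleton] at hc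
  exact h.not_f4 hV (fun _ _ _ => rfl) hv h1
    (h.of_chk hV (f := fun n _ => f4 _ n) chk4n hv h1 (by simp; omega) (by omega))

end CD

end Cfsg.Agent.Z6
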