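import Cfsg.Agent.Z6.OddA
import Cfsg.Agent.Sig.Main

/-!
# The odd cores of involution centralisers are trivial
-/

set_option autoImplicit false
set_option linter.unusedSectionVars false

namespace Cfsg.Agent.Z6

open Subgroup Cfsg.Agent.Local Cfsg.Agent.FT Cfsg.Agent.Char
open scoped Pointwise

universe u

variable {G : Type u} [Group G] [Finite G]

theorem mem_two {V : Subgroup G} (hV : Nat.card V = 2) {v w : G} (hv : v ∈ V) (h1 : v ≠ 1)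
    (h2 : v * v = 1) (hw : w ∈ V) : w = 1 ∨ w = v :=
  mem_zpowers_two (ord_two h2 h1) ((eq_of_le_of_card_ge (zpowers_le.2 hv) (by
    rw [hV, Nat.card_zpowers, ord_two h2 h1])).ge hw)

theorem exists_prime_mem {K : Subgroup G} (h : K ≠ ⊥) : ∃ g ∈ K, (orderOf g).Prime := by
  obtain ⟨⟨g, hg⟩, h1⟩ := ne_bot_iff_exists_ne_one.1 h
  obtain ⟨n, hn⟩ := exists_prime_pow (g := g) fun e => h1 (Subtype.ext e)
  exact ⟨_, pow_mem hg n, hn⟩

theorem TH.seven_le {H V K : Subgroup G} {x g : G} (h : TH H x V) (hK : K ≤ H)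
    (h2 : ¬ 2 ∣ Nat.card K) (h3 : ¬ 3 ∣ Nat.card K) (hg : g ∈ K) (h1 : g ≠ 1) : 7 ≤ orderOf g :=
  Z6.seven_le (mt orderOf_eq_one_iff.1 h1) (orderOf_pos g).ne' (odd_of_mem h2 hg)
    (fun d => h3 (d.trans (orderOf_dvd_card_of_mem hg)))
    fun d => h.five (d.trans (orderOf_dvd_card_of_mem (hK hg)))

theorem ne_one_of_prime {g : G} (h : (orderOf g).Prime) : g ≠ 1 := by
  rintro rfl
  simpa using h.one_lt

theorem sq_bound {n : ℕ} (h : IsSquare n) (h1 : n ≠ 1) (h0 : n ≠ 0) (h2 : ¬ 2 ∣ n) (h3 : ¬ 3 ∣ n)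
    (h5 : ¬ 5 ∣ n) : 49 ≤ n := by
  obtain ⟨k, rfl⟩ := h
  have := seven_le (n := k) (by rintro rfl; simp at h1) (by rintro rfl; simp at h0)
    (fun d => h2 (d.mul_left _)) (fun d => h3 (d.mul_left _)) fun d => h5 (d.mul_left _)
  nlinarith

theorem exists_third {V : Subgroup G} (hV : Nat.card V = 4) (h2 : ∀ v ∈ V, v * v = 1) {v : G}
    (hv : v ∈ V) (h1 : v ≠ 1) :
    ∃ u ∈ V, u ≠ 1 ∧ u ≠ v ∧ ∀ w ∈ V, w ∈ zpowers v ∨ w * u ∈ zpowers v := by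
  have c : Nat.card (zpowers v) = 2 := by rw [Nat.card_zpowers, ord_two (h2 v hv) h1]
  obtain ⟨u, hu, hn⟩ := SetLike.exists_of_lt (lt_of_le_of_ne (zpowers_le.2 hv) fun e => by
    rw [e, hV] at c; omega)
  refine ⟨u, hu, fun e => hn (e ▸ one_mem _), fun e => hn (e ▸ mem_zpowers _), fun w hw => ?_⟩
  by_cases e : w ∈ zpowers v
  · exact Or.inl e
  · exact Or.inr (mul_mem_two (zpowers_le.2 hv) (by rw [hV, c]) hw hu e hn)

theorem not_isCyclic_four {V : Subgroup G} (hV : Nat.card V = 4) (h2 : ∀ v ∈ V, v * v = 1) :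
    ¬ IsCyclic V := fun hc => by
  obtain ⟨g, hg⟩ := hc.exists_ofOrder_eq_natCard
  have := orderOf_dvd_of_pow_eq_one (x := g) (n := 2) (Subtype.ext (by
    simpa [pow_two] using h2 g g.2))
  rw [hg, hV] at this
  omega

namespace Fus

variable {x t : G} {V : Subgroup G} (h : Fus x V t)
include h

theorem signal (hV : Nat.card V = 4) (hs : ∀ v ∈ V, v ≠ 1 → Group.IsSolvable 𝐂[v]) :
    ∃ W : Subgroup G, ¬ 2 ∣ Nat.card W ∧ ¬ 3 ∣ Nat.card W ∧ V ≤ 𝐍(W) ∧ t ∈ 𝐍(W) ∧ x ∈ 𝐍(W) ∧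
      (∀ v ∈ V, v ≠ 1 → W ⊓ 𝐂[v] = WW v) ∧ ∀ v ∈ V, W ⊓ 𝐂[t * v] = WW (t * v) := by
  have tN : t ∈ 𝐍(V) := centralizer_le_normalizer' V fun w hw => (h.tV w hw).symm
  have t1 : t ∉ V := fun e => by
    have := h.inv
    rw [h.th.comm t e, mul_inv_cancel_right, ← sq_of h.th.ord, left_eq_mul] at this
    exact ne_one_of h.th.ord this
  have t2 : orderOf t = 2 := by simpa using h.ord' (one_mem V)
  have hsq : ∀ a ∈ V ⊔ zpowers t, a * a = 1 := fun a ha => by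
    obtain ⟨v, hv, s, hs, rfl⟩ := (mem_sup_of_right_le_normalizer (zpowers_le.2 tN)).1 ha
    rcases mem_zpowers_two t2 hs with rfl | rfl
    · rw [mul_one, h.th.sq v hv]
    · rw [← h.tV v hv, h.sq' hv]
  have hC : ∀ a ∈ V ⊔ zpowers t, V ⊔ zpowers t ≤ 𝐂[a] := fun a ha b hb =>
    mem_cent1.2 (comm_of_sq hsq ha hb)
  obtain ⟨W, h1, h2, h3, -⟩ := Sig.complete (V ⊔ zpowers t) hsq (by
    rw [PG.card_sup_zpowers (p := 2) tN t1 (by rw [pow_two, h.t2]; exact one_mem _), hV]) WW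
    (fun a _ _ => (WW_nrm a).le) (fun a _ _ => Nat.not_even_iff_odd.1
      (mt even_iff_two_dvd.1 (WW_odd a))) (fun a ha _ => (hC a ha).trans (WW_nrm a).norm)
    fun a ha a1 b hb b1 => by
      have X2 : ¬ 2 ∣ Nat.card ↥(WW a ⊓ 𝐂[b]) := fun e =>
        WW_odd a (e.trans (card_dvd_of_le inf_le_left))
      by_cases h3 : 3 ∣ cc b
      · obtain ⟨v, hv, e⟩ := h.conj_V_of_dvd (ord_two (hsq b hb) b1) h3
        have v1 : v ≠ 1 := fun e1 => b1 (by simpa [e1, eq_comm] using e)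
        exact (h.good (by omega) hv v1 (hs v hv v1)).conj e _ inf_le_right X2 fun e =>
          WW_ndvd a (e.trans (card_dvd_of_le inf_le_left))
      · have e : RR b = 𝐂[b] := le_antisymm (core_le _ _) (le_core3 (Nrm.refl _) h3)
        rw [show WW b = core {2}ᶜ 𝐂[b] by rw [WW, e]]
        refine le_trans ?_ (p'core_cent_pgroup (p := 2) (R := zpowers a) (zpowers_le.2 (hC b hb ha))
          (isPGroup_zpowers_of_orderOf_eq (ord_two (hsq a ha) a1)) (h.th.solv le_top h3))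
        rw [cent_zpowers, inf_comm (WW a)]
        exact le_core ((WW_nrm a).inf_inf _) ((piGrp_compl_singleton_iff Nat.prime_two).2
          (by rwa [inf_comm]))
  have W2 : ¬ 2 ∣ Nat.card W := mt even_iff_two_dvd.2 (Nat.not_even_iff_odd.2 h1)
  have h4 : ∀ v ∈ V, v ≠ 1 → W ⊓ 𝐂[v] = WW v := fun v hv => h3 v (mem_sup_left hv)
  have xW : x ∈ 𝐍(W) := by
    have := coprime_abelian_gen_cent1 (X := MulAut.conj x • W)
      ⟨⟨fun a b => Subtype.ext (comm_of_sq h.th.sq a.2 b.2)⟩⟩ (not_isCyclic_four hV h.th.sq)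
      (le_sup_left.trans h2) (cop_pg2 h.th.pg W2).symm fun v hv v1 => by
        rw [h4 v hv v1, ← mem_normalizer_iff_conj_smul_eq.1 ((WW_nrm v).norm (h.x_mem hv)),
          ← h4 v hv v1]
        exact pointwise_smul_le_pointwise_smul_iff.2 inf_le_left
    exact mem_normalizer_iff_conj_smul_eq.2 (eq_of_le_of_card_ge this (card_conj_smul _ _).le).symm
  refine ⟨W, W2, fun e => ?_, le_sup_left.trans h2, h2 (mem_sup_right (mem_zpowers t)), xW, h4,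
    fun v hv => h3 _ (mul_mem (mem_sup_right (mem_zpowers t)) (mem_sup_left hv))
      (ne_one_of_two (h.ord' hv))⟩
  obtain ⟨⟨v, hv⟩, v1⟩ := ne_bot_iff_exists_ne_one.1 ((one_lt_card_iff_ne_bot V).1 (by omega))
  exact not_mem_of h.th.ord (WW_ndvd v) ((h4 v hv fun e => v1 (Subtype.ext e)).le
    ⟨h.th.mem_of_dvd le_top xW e, h.x_mem hv⟩)

/-- Modulo `C(WW v)` the group `V` is central in the invariant Sylow `2`-subgroup. -/
theorem comm_mem_cent (hV : Nat.card V = 4) {v : G} (hv : v ∈ V) (h1 : v ≠ 1) {R : Subgroup G}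
    (hR : R ≤ 𝐂[v]) (pR : IsPGroup 2 R) (VR : V ≤ R) (xR : x ∈ 𝐍(R)) {u : G} (hu : u ∈ V)
    (h2 : ∀ w ∈ V, w ∈ zpowers v ∨ w * u ∈ zpowers v) {ρ : G} (hρ : ρ ∈ R) :
    u * ρ * u⁻¹ * ρ⁻¹ ∈ 𝐂(WW v) := by
  have hN := WW_nrm v
  have hC : R ⊓ 𝐂(WW v) ⊴ R := Nrm.cent (hR.trans hN.norm)
  have xW := hN.norm (h.x_mem hv)
  have xC : x ∈ 𝐍(R ⊓ 𝐂(WW v)) := zpowers_le.1 (le_normalizer_inf (zpowers_le.2 xR)
    (zpowers_le.2 (normalizer_le_normalizer_centralizer _ xW)))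
  set C := R ⊓ 𝐂(WW v)
  have hK : coquo C (cen (quo C R)) ≤ R := coquo_le_of_le_quo hC (cen_le _)
  have vC : zpowers v ≤ C := zpowers_le.2 ⟨VR hv, fun y hy => (mem_cent1.1 (hN.le hy)).symm⟩
  have uK : u ∈ coquo C (cen (quo C R)) := by
    by_contra hn
    have := h.th.fm le_top xW (WW_odd v) (WW_ndvd v) le_top (pR.to_le hK) (zpowers_le.1
      (le_normalizer_coquo (zpowers_le.2 xC) ((quo_le_normalizer C (zpowers_le.2 xR)).trans
        (cen_chr _).norm_le))) (hK.trans (hR.trans hN.norm)) fun w hw => by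
      rcases h2 w hw.2 with e | e
      · exact (vC e).2
      · exact absurd ((Subgroup.mul_mem_cancel_left _ hw.1).1 (le_coquo _ (vC e))) hn
    have e : cen (quo C R) = ⊥ := by
      rw [← quo_coquo (cen (quo C R))]
      exact quo_eq_bot (le_inf hK this)
    have e2 : quo C R = ⊥ := by_contra fun e2 =>
      cen_ne_bot (isPGroup_quo pR C).isNilpotent e2 e
    exact hn (le_coquo _ ((quo_eq_bot_iff hC.norm).1 e2 (VR hu)))
  have uN := hC.norm (VR hu)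
  have ρN := hC.norm hρ
  have := (mem_coquo.1 uK).2.2 _ (cos_mem_quo ρN hρ)
  rw [← (cos C).map_mul ρN uN, ← (cos C).map_mul uN ρN, eq_comm,
    cos_eq_iff (mul_mem uN ρN) (mul_mem ρN uN)] at this
  simpa [mul_assoc] using this.2

end Fus

namespace CD

variable {x t : G} {V : Subgroup G} {d ν : ℕ} {δ : G → ℕ} (h : CD x V t d ν δ)
include h

theorem odd2 (hV : Nat.card V = 2) {v : G} (hv : v ∈ V) (h1 : v ≠ 1)
    (hs : Group.IsSolvable 𝐂[v]) : IsPGroup 2 (RR v) := by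
  have hF := h.toFus
  refine isPGroup_of_quo (core_nrm _ _).norm ?_ (hF.pg_quo (by omega) hv h1 hs)
  by_contra hW
  have hW : WW v ≠ ⊥ := fun e => hW (by rw [← WW, e]; exact IsPGroup.of_bot)
  have hN := WW_nrm v
  have hg := hF.good (by omega) hv h1 hs
  have hZ := (cen_chr _).nrm_trans hN
  have Z2 : ¬ 2 ∣ Nat.card (cen (WW v)) := fun e => WW_odd v (e.trans (card_dvd_of_le (cen_le _)))
  have Z3 : ¬ 3 ∣ Nat.card (cen (WW v)) := fun e => WW_ndvd v (e.trans (card_dvd_of_le (cen_le _)))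
  have c1 := hF.th.odd_sq h.t2 h.inv le_top (hZ.norm (hF.x_mem hv)) (hZ.norm (hF.t_mem hv)) Z2 Z3
  obtain ⟨g, hg1, gp⟩ := exists_prime_mem (K := cen (WW v) ⊓ 𝐂[t]) fun e => cen_ne_bot
    (hF.th.nil le_top (hN.norm (hF.x_mem hv)) (WW_ndvd v) (hF.th.inf_odd (WW_odd v))) hW (by
      rwa [e, card_bot, one_pow, card_eq_one] at c1)
  have g7 := hF.th.seven_le le_top Z2 Z3 hg1.1 (ne_one_of_prime gp)
  obtain ⟨R, hR, pR, -, xR, hO⟩ := hF.exists_R (by omega) hv h1 hs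
  have vC : v ∈ 𝐂(WW v) := fun y hy => (mem_cent1.1 (hN.le hy)).symm
  have RC := hF.th.fm le_top (hN.norm (hF.x_mem hv)) (WW_odd v) (WW_ndvd v) le_top pR xR
    (hR.trans (core_nrm _ _).norm) fun w hw => by
      rcases mem_two hV hv h1 (hF.th.sq v hv) hw.2 with rfl | rfl
      exacts [one_mem _, vC]
  have S := hF.s3C hv hs
  have c2 : 2 * Nat.card (RR v) ≤ Nat.card ↥(𝐂[v] ⊓ 𝐂[g]) := by
    rw [← PG.card_sup_zpowers (p := 2) (S.nrm.norm S.tm) S.t_not (by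
      rw [pow_two, h.t2]; exact one_mem _)]
    exact card_le_of_le (sup_le (le_inf S.nrm.le (hO.trans (sup_le
      (fun y hy => mem_cent1.2 (hg1.1.2 y hy).symm) fun y hy => mem_cent1.2 (RC hy g hg1.1.1))))
      (zpowers_le.2 ⟨S.tm, mem_cent1.2 (mem_cent1.1 hg1.2).symm⟩))
  have key : ∀ w ∈ V, IsConj (t * w) v → ∃ y : G, 7 ≤ orderOf y ∧ ¬ 2 ∣ orderOf y ∧
      v * y * v⁻¹ = y⁻¹ ∧ t * w * y = y * (t * w) ∧ y ∈ 𝐂[g] := fun w hw e => by
    obtain ⟨y, a1, a2, a3, a4, a5⟩ := (hF.shift hw).exists_y hv hg hW e.symm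
    refine ⟨y, a1, a2, a3, a4, mem_cent1.2 (a5 g ⟨hg1.1.1, mul_mem (s := 𝐂[g]) ?_ ?_ |> fun e =>
      mem_cent1.2 (mem_cent1.1 e).symm⟩)⟩
    · exact mem_cent1.2 (mem_cent1.1 hg1.2).symm
    · rcases mem_two hV hv h1 (hF.th.sq v hv) hw with rfl | rfl
      exacts [one_mem _, mem_cent1.2 (vC g hg1.1.1)]
  have vg : v ∈ 𝐂[g] := mem_cent1.2 (vC g hg1.1.1)
  have b1 := h.bd gp g7 (hF.ord2 hv h1) (hF.ord2 hv h1)
  have p : 0 < Nat.card (RR v) := Nat.card_pos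
  rw [show cc v = 6 * Nat.card (RR v) from S.card] at b1
  by_cases hn : nn t V v ≤ 1
  · obtain ⟨w, hw, e⟩ := h.cls v (hF.ord2 hv h1)
    obtain ⟨y, a1, a2, a3, -, a5⟩ := key w hw e
    have := card_ge_of_inv (σ := v) (z := 1) vg a5 (one_mem _) a2 (by simp) a3 (by simp) a3 (by simp)
    rw [orderOf_one, mul_one] at this
    have := Nat.mul_le_mul c2 a1
    have := Nat.mul_le_mul (Nat.mul_le_mul_right (6 * Nat.card (RR v)) hn) hn
    unfold cc at b1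
    nlinarith
  · have e : {w | w ∈ V ∧ IsConj (t * w) v} = (V : Set G) := Set.eq_of_subset_of_ncard_le
      (fun _ hw => hw.1) (by
        rw [← Nat.card_coe_set_eq]
        change Nat.card V ≤ nn t V v
        omega)
    obtain ⟨y, a1, a2, a3, a4, a5⟩ := key 1 (one_mem _) (e.ge (one_mem V)).2
    obtain ⟨z, b1, b2, b3, b4, b5⟩ := key v hv (e.ge hv).2
    rw [mul_one] at a4
    have := card_ge_of_inv (σ := t * v) vg a5 b5 a2 b2 a3 b3 (by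
      calc _ = t * (v * y * v⁻¹) * t⁻¹ := by group
        _ = (t * y * t⁻¹)⁻¹ := by rw [a3]; group
        _ = _ := by rw [a4, mul_inv_cancel_right]) b4
    have := Nat.mul_le_mul c2 (Nat.mul_le_mul a1 b1)
    have hn := hF.nn_le_two hv h1
    have := Nat.mul_le_mul (Nat.mul_le_mul_right (6 * Nat.card (RR v)) hn) hn
    unfold cc at *
    nlinarith

theorem odd4 (hV : Nat.card V = 4) (hs : ∀ v ∈ V, v ≠ 1 → Group.IsSolvable 𝐂[v]) {v₀ : G}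
    (hv₀ : v₀ ∈ V) (h₀ : v₀ ≠ 1) : IsPGroup 2 (RR v₀) := by
  have hF := h.toFus
  have hT := hF.th
  refine isPGroup_of_quo (core_nrm _ _).norm ?_ (hF.pg_quo (by omega) hv₀ h₀ (hs _ hv₀ h₀))
  obtain ⟨W, W2, W3, VW, tW, xW, h4, h5⟩ := hF.signal hV hs
  by_contra hW
  have hW : W ≠ ⊥ := fun e => hW (by
    rw [← WW, ← h4 _ hv₀ h₀, e, bot_inf_eq]; exact IsPGroup.of_bot)
  have c1 : ∀ v ∈ V, v ≠ 1 → Nat.card W = Nat.card (WW v) ^ 2 := fun v hv v1 => by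
    obtain ⟨w, hw, e⟩ := h.cls v (hF.ord2 hv v1)
    rw [hT.odd_sq (hF.sq' hw) (hF.inv' hw) le_top xW (mul_mem tW (VW hw)) W2 W3, h5 w hw, card_WW e]
  have Zc := cen_chr W
  have Z2 : ¬ 2 ∣ Nat.card (cen W) := fun e => W2 (e.trans (card_dvd_of_le (cen_le _)))
  obtain ⟨v, hv, v1, hZ⟩ : ∃ v ∈ V, v ≠ 1 ∧ cen W ⊓ 𝐂[v] ≠ ⊥ := by
    by_contra hn
    push Not at hn
    exact cen_ne_bot (hT.nil le_top xW W3 (hT.inf_odd W2)) hW (le_bot_iff.1
      (coprime_abelian_gen_cent1 ⟨⟨fun a b => Subtype.ext (comm_of_sq hT.sq a.2 b.2)⟩⟩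
        (not_isCyclic_four hV hT.sq) (Zc.le_norm VW) (cop_pg2 hT.pg Z2).symm
        fun v hv v1 => (hn v hv v1).le))
  obtain ⟨u, hu, u1, uv, h6⟩ := exists_third hV hT.sq hv v1
  have hN := WW_nrm v
  -- orders
  have vu1 : v * u ≠ 1 := fun e => uv (by rw [← inv_self (hT.sq v hv), eq_inv_iff_mul_eq_one,
    comm_of_sq hT.sq hu hv, e])
  have c2 := wiel4 (hT.sq v hv) (hT.sq u hu) v1 u1 uv.symm (comm_of_sq hT.sq hv hu) (VW hv) (VW hu)
    W2 (hT.solv le_top W3)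
  rw [h4 v hv v1, h4 u hu u1, h4 _ (mul_mem hv hu) vu1,
    Nat.pow_left_injective two_ne_zero ((c1 u hu u1).symm.trans (c1 v hv v1)),
    Nat.pow_left_injective two_ne_zero ((c1 _ (mul_mem hv hu) vu1).symm.trans (c1 v hv v1)),
    c1 v hv v1, ← pow_two] at c2
  replace c2 := Nat.eq_of_mul_eq_mul_left (pow_pos Nat.card_pos 2) c2
  have DN : ∀ a ∈ 𝐂[v] ⊓ 𝐂[u], a ∈ 𝐍(WW v ⊓ 𝐂[u]) := fun a ha =>
    zpowers_le.1 (le_normalizer_inf (zpowers_le.2 (hN.norm ha.1))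
      (zpowers_le.2 (le_normalizer ha.2)))
  have D2 : ¬ 2 ∣ Nat.card ↥(WW v ⊓ 𝐂[u]) := fun e => WW_odd v (e.trans (card_dvd_of_le inf_le_left))
  have D3 : ¬ 3 ∣ Nat.card ↥(WW v ⊓ 𝐂[u]) := fun e =>
    WW_ndvd v (e.trans (card_dvd_of_le inf_le_left))
  have c3 := hT.odd_sq h.t2 h.inv le_top (DN x ⟨hF.x_mem hv, hF.x_mem hu⟩)
    (DN t ⟨hF.t_mem hv, hF.t_mem hu⟩) D2 D3
  have c4 := sq_bound ⟨_, c3.trans (pow_two _)⟩ (fun e => hW (by
    rw [← card_eq_one, c1 v hv v1, ← c2, e]; rfl)) Nat.card_pos.ne' D2 D3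
    fun d => hT.five (d.trans (card_dvd_of_le le_top))
  -- the element `g`
  obtain ⟨g, hg, gp, gu⟩ : ∃ g ∈ cen W ⊓ 𝐂[v], (orderOf g).Prime ∧
      (u * g * u⁻¹ = g ∨ u * g * u⁻¹ = g⁻¹) := by
    obtain ⟨⟨g, hg⟩, g1⟩ := ne_bot_iff_exists_ne_one.1 hZ
    have g1 : g ≠ 1 := fun e => g1 (Subtype.ext e)
    have hg' : u * g * u⁻¹ ∈ cen W ⊓ 𝐂[v] := ⟨conj_mem_of_mem_normalizer (Zc.norm_le (VW hu)) hg.1,
      (Nrm.refl 𝐂[v]).conj_mem (hF.V_le hv hu) hg.2⟩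
    by_cases e : g * (u * g * u⁻¹) = 1
    · obtain ⟨n, hn⟩ := exists_prime_pow g1
      exact ⟨_, pow_mem hg n, hn, Or.inr (inv_pow_of (eq_inv_of_mul_eq_one_right e) n)⟩
    · obtain ⟨n, hn⟩ := exists_prime_pow e
      refine ⟨_, pow_mem (mul_mem hg hg') n, hn, Or.inl ?_⟩
      rw [← conj_pow]
      congr 1
      calc _ = u * g * u⁻¹ * (u * u * g * (u * u)⁻¹) := by group
        _ = _ := by rw [hT.sq u hu, one_mul, inv_one, mul_one, hg.1.2 _ hg'.1.1]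
  have gW : g ∈ WW v := (h4 v hv v1).le ⟨hg.1.1, hg.2⟩
  have g7 := hT.seven_le le_top W2 W3 hg.1.1 (ne_one_of_prime gp)
  obtain ⟨R, hR, pR, VR, xR, hO⟩ := hF.exists_R (by omega) hv v1 (hs v hv v1)
  have RC := hR.trans (core_le _ _)
  have c5 : 𝐂[g].relIndex R ≤ Nat.card ↥(WW v ⊓ 𝐂[u]) := by
    rw [← ncard_conjIn]
    have key : ∀ ρ ∈ R, ρ * g * ρ⁻¹ ∈ WW v ∧
        u * (ρ * g * ρ⁻¹) * u⁻¹ = ρ * (u * g * u⁻¹) * ρ⁻¹ := fun ρ hρ => by
      refine ⟨hN.conj_mem (RC hρ) gW, ?_⟩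
      have := hF.comm_mem_cent hV hv v1 RC pR VR xR hu h6 hρ _
        (hN.conj_mem (RC hρ) (hN.conj_mem (hF.V_le hv hu) gW))
      calc _ = u * ρ * u⁻¹ * ρ⁻¹ * (ρ * (u * g * u⁻¹) * ρ⁻¹) * (u * ρ * u⁻¹ * ρ⁻¹)⁻¹ := by group
        _ = _ := by rw [← this, mul_inv_cancel_right]
    rcases gu with e | e
    · refine Set.ncard_le_ncard (t := ((WW v ⊓ 𝐂[u] : Subgroup G) : Set G)) ?_
      rintro _ ⟨ρ, hρ, rfl⟩
      exact ⟨(key ρ hρ).1, mem_cent1.2 (mul_inv_eq_iff_eq_mul.1 (by rw [(key ρ hρ).2, e]))⟩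
    · refine (Set.ncard_le_ncard (t := {w | w ∈ WW v ∧ u * w * u⁻¹ = w⁻¹}) ?_).trans
        (Nat.le_of_mul_le_mul_right ((ncard_inv_le (WW_odd v) u).trans (by rw [← c2, pow_two]))
          Nat.card_pos)
      rintro _ ⟨ρ, hρ, rfl⟩
      exact ⟨(key ρ hρ).1, by rw [(key ρ hρ).2, e, conj_inv']⟩
  have c6 := card_inf_mul_relIndex 𝐂[g] R
  have c7 : Nat.card ↥(𝐂[g] ⊓ R) * Nat.card W ≤ cc g := Nat.le_of_dvd Nat.card_pos
    ((cop_pg2 pR.to_inf_right W2).mul_dvd_of_dvd_of_dvd (card_dvd_of_le inf_le_left)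
      (card_dvd_of_le fun y hy => mem_cent1.2 (hg.1.2 y hy).symm))
  have c8 : Nat.card (RR v) ≤ Nat.card (WW v) * Nat.card R := (card_le_of_le hO).trans
    (Nat.le_of_dvd (Nat.mul_pos Nat.card_pos Nat.card_pos) (card_sup_dvd (RC.trans hN.norm)))
  have b1 := h.bd gp g7 (hF.ord2 hv v1) (hF.ord2 hv v1)
  rw [show cc v = 6 * Nat.card (RR v) from (hF.s3C hv (hs v hv v1)).card] at b1
  have hn := hF.nn_le_two hv v1
  have b2 := Nat.mul_le_mul (Nat.mul_le_mul_right (6 * Nat.card (RR v)) hn) hn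
  rw [c1 v hv v1, ← c2] at c7
  rw [← c2, ← c6] at c8
  have p : 0 < Nat.card ↥(𝐂[g] ⊓ R) := Nat.card_pos
  generalize Nat.card ↥(WW v ⊓ 𝐂[u]) = o at *
  generalize Nat.card ↥(𝐂[g] ⊓ R) = a at *
  have b3 : Nat.card (RR v) ≤ o ^ 2 * (a * o) :=
    c8.trans (Nat.mul_le_mul_left _ (Nat.mul_le_mul_left _ c5))
  have b4 : a * o ^ 3 * 49 ≤ a * o ^ 3 * o := Nat.mul_le_mul_left _ c4
  have b5 : 0 < a * o ^ 3 := Nat.mul_pos p (pow_pos (by omega) 3)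
  nlinarith

end CD

end Cfsg.Agent.Z6
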