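import Cfsg.Agent.Z6.PZ1
import Cfsg.Agent.Z6.Odd
import Cfsg.Agent.Z6.Num

/-!
# The path argument for `|V| = 2`: a special involution in the second centre
-/

set_option autoImplicit false
set_option linter.unusedSectionVars false

namespace Cfsg.Agent.Z6

open Subgroup Cfsg.Agent.Local Cfsg.Agent.FT Cfsg.Agent.Char PZ
open scoped Pointwise

universe u

variable {G : Type u} [Group G] [Finite G]

namespace P3

theorem cent_or_inv {q : ℕ} (hq : q.Prime) {g d : G} (hg : g ^ q = 1)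
    (h : d * g * d⁻¹ ∈ zpowers g) (h2 : d * d = 1) : d * g * d⁻¹ = g ∨ d * g * d⁻¹ = g⁻¹ := by
  have := Fact.mk hq
  by_cases h1 : g = 1
  · simp [h1]
  refine or_iff_not_imp_right.2 fun e => ?_
  have c : Nat.card (zpowers g) = q := by rw [Nat.card_zpowers, orderOf_eq_prime hg h1]
  have h3 := zpowers_eq_of_card_prime (c.symm ▸ hq) (mul_mem h (mem_zpowers g))
    fun e' => e (eq_inv_of_mul_eq_one_left e')
  have h4 : g * (d * g * d⁻¹) = d * g * d⁻¹ * g :=
    mem_cent1.1 (zpowers_le.2 (mem_cent1.2 rfl) h)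
  have h5 : zpowers (d * g * d⁻¹ * g) ≤ 𝐂[d] := zpowers_le.2 (mem_cent1.2 (by
    calc _ = d * d * g * d⁻¹ * g := by group
      _ = g * (d * g * d⁻¹) * d := by rw [h2, inv_self h2]; simp [mul_assoc, h2]
      _ = _ := by rw [h4]))
  rw [mem_cent1.1 (h5 (h3.ge (mem_zpowers g))), mul_inv_cancel_right]

omit [Finite G] in
theorem per4 {g v c : G} (hv : v * v = 1) (hc : c * c = 1) (cg : g * c = c * g)
    (e : g * v * g⁻¹ * (g⁻¹ * v * g) = c) : g ^ 12 ∈ 𝐂[v] := by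
  have h1 : g * v * g⁻¹ = c * (g⁻¹ * v * g) := by
    rw [← e]
    calc _ = g * v * g⁻¹ * (g⁻¹ * (v * v) * g) := by rw [hv]; group
      _ = _ := by group
  have h2 : g * g * v * (g * g)⁻¹ = c * v := by
    calc _ = g * (g * v * g⁻¹) * g⁻¹ := by group
      _ = g * c * g⁻¹ * v := by rw [h1]; group
      _ = _ := by rw [cg]; group
  have h3 : g * g * (g * g) * v = v * (g * g * (g * g)) := by
    calc _ = g * g * (g * g * v * (g * g)⁻¹) * (g * g) := by simp [mul_assoc]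
      _ = g * (g * c) * v * (g * g)⁻¹ * (g * g * (g * g)) := by rw [h2]; simp [mul_assoc]
      _ = c * (g * g * v * (g * g)⁻¹) * (g * g * (g * g)) := by
        rw [cg, ← mul_assoc g c, cg]; simp [mul_assoc]
      _ = _ := by rw [h2, ← mul_assoc c, hc, one_mul]
  convert pow_mem (mem_cent1.2 h3.symm) 3 using 1
  simp only [← sq g, ← pow_add, ← pow_mul]

omit [Finite G] in
theorem per3 {g v c : G} (hv : v * v = 1) (hc : c * c = 1) (cg : g * c = c * g)
    (cv : v * c = c * v) (hw : v * (g⁻¹ * v * g) = g⁻¹ * v * g * v)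
    (e : g * v * g⁻¹ * (g⁻¹ * v * g) = c * v) : g ^ 12 ∈ 𝐂[v] := by
  have h1 : g * v * g⁻¹ = c * v * (g⁻¹ * v * g) := by
    rw [← e]
    calc _ = g * v * g⁻¹ * (g⁻¹ * (v * v) * g) := by rw [hv]; group
      _ = _ := by group
  have h2 : g * g * v * (g * g)⁻¹ = g⁻¹ * v * g := by
    calc _ = g * (g * v * g⁻¹) * g⁻¹ := by group
      _ = g * (c * v * (g⁻¹ * v * g)) * g⁻¹ := by rw [h1]
      _ = g * c * g⁻¹ * (g * v * g⁻¹) * v := by group
      _ = c * c * (v * (g⁻¹ * v * g)) * v := by rw [cg, h1]; simp [mul_assoc]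
      _ = _ := by rw [hc, hw, one_mul, mul_assoc _ v, hv, mul_one]
  have h3 : g * g * g * v = v * (g * g * g) := by
    calc _ = g * (g * g * v * (g * g)⁻¹) * (g * g) := by simp [mul_assoc]
      _ = _ := by rw [h2]; simp [mul_assoc]
  convert pow_mem (mem_cent1.2 h3.symm) 4 using 1
  simp only [← pow_three', ← pow_mul]

/-- the structure of a soluble group of order `2 ^ k q` with a Sylow `2`-subgroup `D` -/
theorem exists_E {X D : Subgroup G} (hs : Group.IsSolvable X) (hD : D ≤ X) (pD : IsPGroup 2 D)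
    {q : ℕ} (hq : q = 7 ∨ q = 11) (c : Nat.card X = Nat.card D * q) :
    ∃ E : Subgroup G, ∃ g ∈ X, orderOf g = q ∧ E ⊴ X ∧ E ≤ D ∧ (∀ d ∈ D, d * d ∈ E) ∧
      ∀ d ∈ D, d * g * d⁻¹ * g⁻¹ ∈ E ∨ d * g * d⁻¹ * g ∈ E := by
  have hp : Fact q.Prime := ⟨by rcases hq with rfl | rfl <;> norm_num⟩
  obtain ⟨k, hk⟩ := pD.exists_card_eq
  have cop : q.Coprime (Nat.card D) := hk ▸ Nat.Coprime.pow_right k (by
    rcases hq with rfl | rfl <;> norm_num)
  obtain ⟨g, gX, hg⟩ := exists_mem_orderOf_eq_of_dvd_card hp.out (Dvd.intro_left _ c.symm)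
  obtain ⟨h1, -, h2⟩ := solv_prime hs hg (Num.sylow_zp hg gX fun e =>
    (hp.out.coprime_iff_not_dvd.1 cop) (Nat.dvd_of_mul_dvd_mul_right hp.out.pos (c ▸ e)))
  set E := core {q}ᶜ X
  have hN : E ⊴ X := core_nrm _ _
  have hE : (Nat.card E).Coprime q := (hp.out.coprime_iff_not_dvd.2
    ((piGrp_compl_singleton_iff hp.out).1 (piGrp_core _ _))).symm
  have h3 := card_sup_mul_card_inf (N := E) (zpowers_le.2 (hN.norm gX))
  rw [inf_eq_bot_of_coprime (by rwa [Nat.card_zpowers, hg]), card_bot, Nat.card_zpowers, hg,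
    mul_one] at h3
  have h4 := card_mul_relIndex h1.le
  rw [h3, c, mul_right_comm] at h4
  replace h4 := Nat.eq_of_mul_eq_mul_right hp.out.pos h4
  have h5 : E ≤ D := IsSylowIn.le_of_le_normalizer ⟨hD, pD, by
      have := card_mul_relIndex hD
      rw [c] at this
      rw [Nat.eq_of_mul_eq_mul_left Nat.card_pos this]
      rcases hq with rfl | rfl <;> norm_num⟩
    (IsPGroup.of_card_dvd_pow (Dvd.intro _ (h4.trans hk))) hN.le (hD.trans hN.norm)
  have h6 : ∀ d ∈ D, d * d ∈ E := fun d hd => by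
    generalize (E ⊔ zpowers g).relIndex X = i at *
    obtain ⟨j, -, rfl⟩ := (Nat.dvd_prime_pow Nat.prime_two).1 (Dvd.intro_left _ (h4.trans hk))
    have : j ≤ 1 := by
      by_contra! e
      have := (pow_dvd_pow 2 e).trans h2
      rcases hq with rfl | rfl <;> norm_num at this
    by_cases e : d ∈ E
    · exact mul_mem e e
    interval_cases j
    · exact absurd ((eq_of_le_of_card_ge h5 (by omega)).ge hd) e
    · exact mul_mem_two h5 (by omega) hd hd e e
  refine ⟨E, g, gX, hg, hN, h5, h6, fun d hd => ?_⟩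
  have dN := hN.norm (hD hd)
  have gN := hN.norm gX
  have h7 := cos_mem_quo (hN.norm (h1.le (h1.conj_mem (hD hd) (mem_sup_right (mem_zpowers g)))))
    (h1.conj_mem (hD hd) (mem_sup_right (mem_zpowers g)))
  have h8 : cos E (d * g * d⁻¹) = cos E d * cos E g * (cos E d)⁻¹ := by
    rw [(cos E).map_mul (mul_mem dN gN) (inv_mem dN), (cos E).map_mul dN gN, (cos E).map_inv dN]
  rw [quo_sup_left (zpowers_le.2 gN), quo_zpowers gN, h8] at h7
  have h9 := mul_mem (mul_mem dN gN) (inv_mem dN)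
  refine (cent_or_inv hp.out (by rw [← (cos E).map_pow gN, ← hg, pow_orderOf_eq_one, Mor.map_one]) h7
    (by rw [← (cos E).map_mul dN dN, (cos_eq_one_iff (mul_mem dN dN)).2 (h6 d hd)])).imp
    (fun e => (cos_eq_iff h9 gN).1 (h8.trans e)) fun e => ?_
  have := (cos_eq_iff h9 (inv_mem gN)).1 (h8.trans (e.trans ((cos E).map_inv gN).symm))
  rwa [inv_inv] at this

end P3

open P3

theorem PS.pathP3 {x t : G} {V : Subgroup G} {r : ℕ} (h : PS x V t r) (hV : Nat.card V = 2) {v : G}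
    (hv : v ∈ V) (h1 : v ≠ 1) (hS : ¬ 4 * r ∣ Nat.card G)
    (hZ : ∀ w ∈ RR v, w ∈ 𝐂(RR v) → w * w = 1 → w = 1 ∨ w = v) {b : G} (hb : b ∈ RR v)
    (b2 : b * b = 1) (b1 : b ≠ 1) (bv : b ≠ v)
    (bS : ∀ s ∈ RR v ⊔ zpowers t, b * s * b⁻¹ * s⁻¹ ∈ zpowers v) (hsp : ¬ IsConj v b) : r ≤ 8 := by
  have hR := h.s3 v hv h1
  have pR := h.pg v hv h1
  have cR := h.card v hv h1
  have vR := h.V_le_R hv h1 hv
  have v2 := h.th.sq v hv
  set R := RR v
  set S := R ⊔ zpowers t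
  have SH : S ≤ 𝐂[v] := sup_le hR.nrm.le (zpowers_le.2 hR.tm)
  have cS : Nat.card S = 2 * r := by
    have := card_sup_mul_card_inf (N := R) (zpowers_le.2 (hR.nrm.norm hR.tm))
    have e : R ⊓ zpowers t = ⊥ := eq_bot_iff.2 fun y hy =>
      mem_bot.2 ((mem_zp2 h.t2 hy.2).resolve_right fun e => hR.t_not (e ▸ hy.1))
    rw [e, card_bot, Nat.card_zpowers, ord_two h.t2 (ne_one_of_inv h.th.ord h.inv), cR,
      mul_one] at this
    exact this.trans (mul_comm _ _)
  obtain ⟨ρ, ρR, hρ⟩ : ∃ ρ ∈ R, ρ ∉ 𝐂[b] := by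
    by_contra! e
    exact (hZ b hb (mem_cent.2 fun y hy => (mem_cent1.1 (e y hy)).symm) b2).elim b1 bv
  have hvb : ∀ s ∈ S, s ∉ 𝐂[b] → b * s = v * s * b := fun s hs e => by
    rw [← (mem_zp2 v2 (bS s hs)).resolve_left fun e' => e (mem_cent1.2 (by
      rwa [mul_inv_eq_one, mul_inv_eq_iff_eq_mul] at e'))]
    group
  have hρ' := hvb ρ (mem_sup_left ρR) hρ
  have hmul : ∀ s ∈ S, s * ρ ∈ 𝐂[b] ∨ s ∈ 𝐂[b] := fun s hs =>
    or_iff_not_imp_right.2 fun e => mem_cent1.2 (by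
      calc _ = v * s * (b * ρ) := by rw [← mul_assoc, hvb s hs e, mul_assoc]
        _ = v * (s * v) * ρ * b := by rw [hρ']; group
        _ = _ := by rw [← mem_cent1.1 (SH hs), ← mul_assoc v, v2, one_mul])
  have hidx : ∀ Y ≤ S, ρ ∈ Y → Nat.card Y = 2 * Nat.card ↥(𝐂[b] ⊓ Y) := fun Y hY e => by
    rw [← card_inf_mul_relIndex 𝐂[b] Y, relIndex_eq_two_iff_exists_notMem_and.2
      ⟨ρ, e, hρ, fun s hs => hmul s (hY hs)⟩, mul_comm]
  have cD := hidx S le_rfl (mem_sup_left ρR)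
  have cD0 := hidx R le_sup_left ρR
  set D := 𝐂[b] ⊓ S
  set D0 := 𝐂[b] ⊓ R
  have vb : v ∈ 𝐂[b] := mem_cent1.2 (mem_cent1.1 (hR.nrm.le hb)).symm
  -- the involutions of `Z(D₀)`
  have hΩ : ∀ z ∈ R, z * z = 1 → D0 ≤ 𝐂[z] → z = 1 ∨ z = v ∨ z = b ∨ z = b * v := by
    have key : ∀ z ∈ R, z * z = 1 → D0 ≤ 𝐂[z] → ρ ∈ 𝐂[z] → z = 1 ∨ z = v := fun z hz z2 e e' =>
      hZ z hz (mem_cent.2 fun y hy => (mem_cent1.1 ((hmul y (mem_sup_left hy)).elim
        (fun h2 => (mul_mem_cancel_right e').1 (e ⟨h2, mul_mem hy ρR⟩)) fun h2 => e ⟨h2, hy⟩)).symm) z2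
    intro z hz z2 e
    have n0 : D0 ⊴ R := nrm_two inf_le_right cD0.le
    have zb : z * b = b * z := mem_cent1.1 (e ⟨mem_cent1.2 rfl, hb⟩)
    have zD : z ∈ D0 := ⟨mem_cent1.2 zb.symm, hz⟩
    have e1 : D0 ≤ 𝐂[ρ * z * ρ⁻¹] := fun y hy => by
      rw [cent_conj, Local.mem_conj_smul_iff]
      simpa using e (n0.conj_mem (inv_mem ρR) hy)
    have c1 : ρ * z * ρ⁻¹ * z = z * (ρ * z * ρ⁻¹) := mem_cent1.1 (e1 zD)
    have c2 : z * (ρ * ρ) = ρ * ρ * z := mem_cent1.1 (e ⟨(hmul ρ (mem_sup_left ρR)).resolve_right hρ,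
      mul_mem ρR ρR⟩)
    rcases key (ρ * z * ρ⁻¹ * z) (mul_mem (mul_mem (mul_mem ρR hz) (inv_mem ρR)) hz) (by
        rw [mul_assoc _ z, ← mul_assoc z, ← c1, mul_assoc _ z z, z2, mul_one, conj_sq z2])
      (fun y hy => mem_cent1.2 (by
        rw [mul_assoc, mem_cent1.1 (e hy), ← mul_assoc, mem_cent1.1 (e1 hy), mul_assoc y]))
      (mem_cent1.2 (by
        calc _ = z * (ρ * z * ρ⁻¹) * ρ := by rw [c1]
          _ = z * (ρ * ρ) * ρ⁻¹ * z := by group
          _ = _ := by rw [c2]; group)) with e2 | e2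
    · refine (key z hz z2 e (mem_cent1.2 ?_)).imp_right Or.inl
      rw [mul_eq_one_iff_eq_inv, inv_self z2, mul_inv_eq_iff_eq_mul] at e2
      exact e2.symm
    · have e3 : z * ρ = v * ρ * z := by
        have : ρ * z = v * z * ρ := by rw [← e2, mul_assoc _ z z, z2]; group
        rw [mul_assoc v, this, ← mul_assoc, ← mul_assoc, v2, one_mul]
      rcases key (b * z) (mul_mem hb hz) (by
          rw [mul_assoc, ← mul_assoc z, zb, mul_assoc, z2, mul_one, b2])
        (fun y hy => mem_cent1.2 (by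
          rw [mul_assoc, mem_cent1.1 (e hy), ← mul_assoc, mem_cent1.1 hy.1, mul_assoc]))
        (mem_cent1.2 (by
          calc _ = b * v * ρ * z := by rw [mul_assoc, e3]; group
            _ = v * (b * ρ) * z := by rw [mem_cent1.1 vb]; group
            _ = _ := by rw [hρ', ← mul_assoc v, ← mul_assoc v, v2]; group)) with e4 | e4
      · exact Or.inr (Or.inr (Or.inl (by rw [← inv_self b2, eq_inv_of_mul_eq_one_right e4])))
      · exact Or.inr (Or.inr (Or.inr (by rw [← e4, ← mul_assoc, b2, one_mul])))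
  -- the centraliser of `b`
  have b2' := ord_two b2 b1
  have hsp' : ∀ w ∈ V, ¬ IsConj w b := fun w hw e => by
    rcases mem_two hV hv h1 v2 hw with rfl | rfl
    exacts [b1 (isConj_one_right.1 e), hsp e]
  have X3 : ¬ 3 ∣ cc b := fun e => (h.toFus.conj_V_of_dvd b2' e).elim fun w hw => hsp' w hw.1 hw.2
  have X5 : ¬ 5 ∣ cc b := fun e => h.th.five (e.trans (card_dvd_of_le le_top))
  obtain ⟨q, hq⟩ : Nat.card D ∣ cc b := card_dvd_of_le inf_le_left
  have cD' : Nat.card D = r := by omega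
  have hq' : q = 7 ∨ q = 11 := by
    obtain ⟨l1, l2⟩ := h.sp b b2' hsp'
    have l3 : ¬ 4 ∣ q := fun e => hS (((mul_comm r 4 ▸ mul_dvd_mul_left r e).trans
      (cD' ▸ hq.symm.dvd)).trans (card_subgroup_dvd_card 𝐂[b]))
    have l4 : ¬ 3 ∣ q := fun e => X3 (hq ▸ e.mul_left _)
    have l5 : ¬ 5 ∣ q := fun e => X5 (hq ▸ e.mul_left _)
    rw [hq, cD', mul_comm r] at l1 l2
    have := Nat.lt_of_mul_lt_mul_right l1
    have := Nat.lt_of_mul_lt_mul_right l2
    omega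
  obtain ⟨k, hk⟩ := pR.exists_card_eq
  obtain ⟨E, g, gX, hg, hE, ED, sqE, hgE⟩ := exists_E (h.th.solv le_top X3) inf_le_left
    (IsPGroup.of_card (cD'.trans (cR.symm.trans hk))) hq' hq
  by_cases vE : v ∈ E
  · have Ev : ∀ n ∈ 𝐂[b], ∀ y ∈ E, y * (n * v * n⁻¹) * y⁻¹ = n * v * n⁻¹ := fun n hn y hy => by
      have := mem_cent1.1 (SH (ED (hE.conj_mem (inv_mem hn) hy)).2)
      calc _ = n * (n⁻¹ * y * n⁻¹⁻¹ * v) * n⁻¹ * y⁻¹ := by group
        _ = _ := by rw [← this]; group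
    have gX' := inv_mem gX
    have hw : v * (g⁻¹ * v * g) = g⁻¹ * v * g * v := by
      have := Ev _ gX' v vE
      rwa [inv_inv, mul_inv_eq_iff_eq_mul] at this
    have hw' : g * v * g⁻¹ * (g⁻¹ * v * g) = g⁻¹ * v * g * (g * v * g⁻¹) := by
      have := Ev _ gX' _ (hE.conj_mem gX vE)
      rwa [inv_inv, mul_inv_eq_iff_eq_mul] at this
    set e := g * v * g⁻¹ * (g⁻¹ * v * g) with he
    have e2 : e * e = 1 := by
      calc _ = g * v * g⁻¹ * (g⁻¹ * v * g * (g * v * g⁻¹)) * (g⁻¹ * v * g) := by rw [he]; group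
        _ = g * (v * v) * g⁻¹ * (g⁻¹ * (v * v) * g) := by rw [← hw', he]; group
        _ = 1 := by rw [v2]; group
    have eD : D ≤ 𝐂[e] := fun d hd => by
      have dv : d⁻¹ * v * d = v := by rw [mul_assoc, mem_cent1.1 (SH hd.2), inv_mul_cancel_left]
      have k1 : ∀ n ∈ 𝐂[b], ∀ m ∈ 𝐂[b], d * n * d⁻¹ * m⁻¹ ∈ E →
          d * (n * v * n⁻¹) * d⁻¹ = m * v * m⁻¹ := fun n hn m hm e => by
        rw [← Ev m hm _ e]
        calc _ = d * (n * (d⁻¹ * v * d) * n⁻¹) * d⁻¹ := by rw [dv]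
          _ = _ := by group
      have k2 : ∀ m ∈ 𝐂[b], d * g * d⁻¹ * m⁻¹ ∈ E → d * g⁻¹ * d⁻¹ * m⁻¹⁻¹ ∈ E := fun m hm e => by
        convert hE.conj_mem (inv_mem hm) (inv_mem e) using 1
        group
      refine mem_cent1.2 (mul_inv_eq_iff_eq_mul.1 ?_).symm
      rw [he, show d * (g * v * g⁻¹ * (g⁻¹ * v * g)) * d⁻¹ =
        d * (g * v * g⁻¹) * d⁻¹ * (d * (g⁻¹ * v * g⁻¹⁻¹) * d⁻¹) by group]
      rcases hgE d hd with e' | e'
      · rw [k1 g gX g gX e', k1 _ gX' _ gX' (k2 g gX e'), inv_inv]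
      · rw [← inv_inv g] at e'
        rw [inv_inv g] at e'
        have e'' : d * g * d⁻¹ * g⁻¹⁻¹ ∈ E := by rwa [inv_inv]
        rw [k1 g gX _ gX' e'', k1 _ gX' _ (inv_mem gX') (k2 _ gX' e''), inv_inv, ← hw', he]
    have eE : e ∈ E := mul_mem (hE.conj_mem gX vE) (by simpa using hE.conj_mem gX' vE)
    by_cases eR : e ∈ R
    · have g12 : g ^ 12 ∈ 𝐂[v] := by
        have gb := (mem_cent1.1 gX).symm
        rcases hΩ e eR e2 (le_trans (inf_le_inf_left _ le_sup_left) eD) with e' | e' | e' | e'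
        · exact per4 v2 (mul_one 1) (by simp) e'
        · exact per3 v2 (mul_one 1) (by simp) (by simp) hw (e'.trans (one_mul v).symm)
        · exact per4 v2 b2 gb e'
        · exact per3 v2 b2 gb (mem_cent1.1 vb).symm hw e'
      have := orderOf_dvd_card_of_mem (zpowers_le.2 g12 (mem_zpowers_pow_iff.2 (by
        rw [hg]; rcases hq' with rfl | rfl <;> norm_num)))
      rw [hg, hR.card, hk] at this
      have hp : q.Prime := by rcases hq' with rfl | rfl <;> norm_num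
      rcases (Nat.Prime.dvd_mul hp).1 this with e' | e'
      · rcases hq' with rfl | rfl <;> omega
      · have := hp.dvd_of_dvd_pow e'
        rcases hq' with rfl | rfl <;> omega
    · have l1 := hR.upper h.th le_top (SH (ED eE).2) eR e2 le_top hR.nrm.norm hR.ndvd
      have l2 : Nat.card D0 ≤ Nat.card ↥(R ⊓ 𝐂[e]) := card_le_of_le
        (le_inf inf_le_right (le_trans (inf_le_inf_left _ le_sup_left) eD))
      rw [hV, cD0] at l1
      have := Nat.card_pos (α := D0)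
      have : Nat.card D0 ≤ 4 := by nlinarith
      omega
  · let N : Subgroup G :=
      { carrier := {y | y ∈ R ∧ ∀ a ∈ R, a * y * a⁻¹ ∈ E}
        one_mem' := ⟨one_mem _, fun a _ => by simp⟩
        mul_mem' := fun {y z} hy hz => ⟨mul_mem hy.1 hz.1, fun a ha => by
          simpa [mul_assoc] using mul_mem (hy.2 a ha) (hz.2 a ha)⟩
        inv_mem' := fun {y} hy => ⟨inv_mem hy.1, fun a ha => by
          simpa [mul_assoc] using inv_mem (hy.2 a ha)⟩ }
    have hN : N = ⊥ := by_contra fun e => by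
      obtain ⟨z, hz, z1⟩ := exists_ZZ (R := N ⊓ 𝐂(R)) (pR.to_le fun y hy => hy.1.1)
        (PG.inf_cen_ne_bot pR (N := N) ⟨fun y hy => hy.1, fun a ha =>
          mem_normalizer_of_conj_mem fun y hy => ⟨mul_mem (mul_mem ha hy.1) (inv_mem ha),
            fun c hc => by simpa [mul_assoc] using hy.2 _ (mul_mem hc ha)⟩⟩ e)
      rcases hZ z hz.1.1.1 hz.1.2 hz.2.2 with e' | e'
      · exact z1 e'
      · exact vE (by simpa [e'] using hz.1.1.2 1 (one_mem _))
    have n0 : D0 ⊴ R := nrm_two inf_le_right cD0.le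
    have sq0 : ∀ y ∈ D0, y * y = 1 := fun y hy => mem_bot.1 (hN.le ⟨mul_mem hy.2 hy.2, fun a ha => by
      have h2 := n0.conj_mem ha hy
      simpa [mul_assoc] using sqE _ ⟨h2.1, mem_sup_left h2.2⟩⟩)
    have : Nat.card D0 ≤ 4 := by
      classical
      refine (Set.ncard_le_ncard (s := (D0 : Set G)) (t := ({1, v, b, b * v} : Finset G))
        fun y hy => ?_).trans (by rw [Set.ncard_coe_finset]; exact Finset.card_le_four)
      simpa using hΩ y hy.2 (sq0 y hy) fun z hz => mem_cent1.2 (comm_of_sq sq0 hy hz)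
    omega

end Cfsg.Agent.Z6
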