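import Cfsg.Agent.Z6.PZ3

/-!
# The path argument, part 4: the insoluble case and the main theorem
-/

set_option autoImplicit false
set_option linter.unusedSectionVars false

namespace Cfsg.Agent.Z6

open Subgroup Cfsg.Agent.Local Cfsg.Agent.FT Cfsg.Agent.Char
open scoped Pointwise

universe u

variable {G : Type u} [Group G] [Finite G]

namespace PZ

theorem exists_not_mem {A B C : Subgroup G} (h1 : ¬ C ≤ A) (h2 : ¬ C ≤ B) :
    ∃ c ∈ C, c ∉ A ∧ c ∉ B := by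
  obtain ⟨a, ha, a1⟩ := SetLike.not_le_iff_exists.1 h1
  obtain ⟨b, hb, b1⟩ := SetLike.not_le_iff_exists.1 h2
  by_cases e1 : a ∈ B
  · by_cases e2 : b ∈ A
    · exact ⟨a * b, mul_mem ha hb, fun e => a1 ((mul_mem_cancel_right e2).1 e),
        fun e => b1 ((mul_mem_cancel_left e1).1 e)⟩
    · exact ⟨b, hb, e2, b1⟩
  · exact ⟨a, ha, a1, e1⟩

theorem comm_of_sq3 {a b : G} (ha : a * a = 1) (hb : b * b = 1) (h : a * b * (a * b) = 1) :
    a * b = b * a := by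
  rw [← inv_self h, mul_inv_rev, inv_self ha, inv_self hb]

namespace PB

variable {x t : G} {V : Subgroup G} {r : ℕ} (h : PB x V t r)
include h

theorem mem_K {u α : G} (hu : VT V u) (c : Cmp V u α) : α ∈ KK V u :=
  c.Z_le (h.vd (c.vt hu)).mem_Z

theorem V_le_K (h4 : ¬ 4 * r ∣ Nat.card G) {u : G} (hu : u ∈ V) (h1 : u ≠ 1) : V ≤ KK V u := by
  intro v hv
  by_cases v1 : v = 1
  · rw [v1]; exact one_mem _
  by_cases vu : v = u
  · rw [vu]; exact h.mem_K (VT.of_mem hu h1) (Cmp.refl V u)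
  obtain ⟨w, e, a, -⟩ := h.edge2 h4 hu h1 hv v1 vu
  have d := h.vd a.r
  obtain ⟨y, s, hs⟩ := d.s3
  obtain ⟨n, hn, T⟩ := (h.thM hu (Cmp.refl V u).norm).of_ord (a.cmp.norm hs.xm) hs.ord
  have wK := h.mem_K a.l a.cmp
  have h2 := Local.mem_conj_smul_iff.1 (T.mem_V (le_normalizer wK) (mem_cent1.1 hs.xm)
    (ndvd_ord_of_sq d.sq))
  rw [h.toFus.eq_of_conj hv h2 (e.trans (isConj_iff.2 ⟨n⁻¹, by rw [inv_inv]⟩))]
  exact inv_conj_mem_of_mem_normalizer hn wK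

theorem alpha1 (h4 : ¬ 4 * r ∣ Nat.card G) {u w : G} (hu : u ∈ V) (h1 : u ≠ 1) (a : Adj V u w)
    (hS : RR u ⊔ zpowers t ≤ 𝐂[w]) : Group.IsSolvable 𝐍(KK V u) := by
  have cu := Cmp.refl V u
  have TM := h.thM hu cu.norm
  have pK := h.K_pg u
  have hVK := h.V_le_K h4 hu h1
  have hK := nrm_normalizer (KK V u)
  have rp := h.r_pos
  have kp : 0 < Nat.card (KK V u) := Nat.card_pos
  have cS := h.S_card hu h1
  refine (TM.ft3 hK (ndvd_of_pg2 pK) hVK).elim id fun ⟨c168, hmax⟩ => False.elim ?_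
  have r4 : r = 4 * Nat.card (KK V u) := by
    have e1 := card_dvd_of_le ((h.S_le hu).trans cu.norm)
    obtain ⟨k, hk⟩ := h.r_pow
    obtain ⟨l, hl⟩ := PG.card_eq_pow pK
    rw [cS, c168, show 168 * Nat.card (KK V u) = 21 * (8 * Nat.card (KK V u)) by ring] at e1
    obtain ⟨j, hj⟩ := Nat.Coprime.dvd_of_dvd_mul_left (by
      rw [hk, ← pow_succ']; exact Nat.Coprime.pow_left _ (by norm_num)) e1
    rcases dvd_two_pow (k := l + 3) (j := j) ⟨2 * r, by rw [mul_comm j, ← hj, hl]; ring⟩ with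
      rfl | ⟨i, rfl⟩
    · omega
    · refine absurd (Dvd.dvd.trans ⟨21 * i, ?_⟩ (card_subgroup_dvd_card 𝐍(KK V u))) h4
      rw [c168, show 168 * Nat.card (KK V u) = 21 * (8 * Nat.card (KK V u)) by ring, hj]; ring
  have cQ : ∀ α, Cmp V u α → Nat.card (quo (KK V u) (RR α)) = 4 := fun α c => by
    have d := h.vd (c.vt a.l)
    have := card_mul_card_quo (hK.of_le (h.K_le c) (d.nrm.le.trans c.norm))
    rw [d.card, r4, mul_comm 4] at this
    exact Nat.eq_of_mul_eq_mul_left kp this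
  have sqK : ∀ α, Cmp V u α → ∀ q ∈ quo (KK V u) (RR α), q * q = 1 := fun α c => by
    have d := h.vd (c.vt a.l)
    obtain ⟨y, s, hs⟩ := d.s3
    obtain ⟨n, hn, T⟩ := TM.of_ord (c.norm hs.xm) hs.ord
    have T' := T.quo le_rfl (ndvd_of_pg2 pK)
    rw [quo_eq_bot (conj_smul_le_of_mem_normalizer hn hVK)] at T'
    have e1 := T'.modEq ((ZZ_le _).trans (quo_mono _ (d.nrm.le.trans c.norm)))
      (norm_ZZ _ ((cos _).apply_mem_normalizer (c.norm hs.xm) hs.xn)) (ndvd_of_pg2 (ZZ_pg _))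
    have e2 := card_dvd_of_le (ZZ_le (quo (KK V u) (RR α)))
    obtain ⟨z, hz, z1⟩ := exists_ZZ (isPGroup_quo d.pg (KK V u))
      ((one_lt_card_iff_ne_bot _).1 (by rw [cQ α c]; norm_num))
    have e3 := (one_lt_card_iff_ne_bot (ZZ (quo (KK V u) (RR α)))).2 fun e => z1 (mem_bot.1 (e ▸ hz))
    rw [inf_bot_eq, card_bot] at e1
    rw [cQ α c] at e2
    have e4 := eq_of_le_of_card_ge (ZZ_le (quo (KK V u) (RR α))) (by
      have := Nat.le_of_dvd four_pos e2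
      rw [cQ α c]
      omega)
    exact fun q hq => (e4.ge hq).2.2
  have Rne : ∀ α β, Cmp V u α → Cmp V u β → α ≠ β → ¬ RR α ≤ RR β := fun α β c c' hne e => by
    have d := h.vd (c.vt a.l)
    have d' := h.vd (c'.vt a.l)
    have e := eq_of_le_of_card_ge e (by rw [d.card, d'.card])
    have i7 : (𝐂[α]).relIndex 𝐍(KK V u) = 7 := by
      have := card_mul_relIndex c.norm
      rw [show Nat.card 𝐂[α] = _ from d.cc, c168, r4] at this
      exact Nat.eq_of_mul_eq_mul_left (by omega : 0 < 6 * (4 * Nat.card (KK V u))) (by omega)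
    rcases eq_or_eq_of_relIndex_prime (K := 𝐍(KK V u) ⊓ 𝐍(RR α)) (by rw [i7]; norm_num)
      (le_inf c.norm d.nrm.norm) inf_le_left with e1 | e1
    · exact hne (d'.eq_of_le d.sq d.ne ((le_inf c'.norm (e ▸ d'.nrm.norm)).trans e1.le))
    · have e2 := d.card
      rcases hmax (RR α) ⟨d.nrm.le.trans c.norm, e1.ge.trans inf_le_right⟩ (h.K_le c) with e3 | e3
      · rw [e3] at e2; omega
      · rw [e3] at e2; omega
  have du := h.vd a.l
  have dw := h.vd a.r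
  have uw : u * w = w * u := mem_cent1.1 (a.rl dw.mem_R)
  have hS' : RR u ⊔ zpowers t ≤ 𝐂[u * w] := fun g hg => mem_cent1.2 (by
    rw [mul_assoc, mem_cent1.1 (hS hg), ← mul_assoc, mem_cent1.1 (h.S_le hu hg), mul_assoc])
  have o' : orderOf (u * w) = 2 := ord_two (by
    rw [mul_assoc, ← mul_assoc w, ← uw, mul_assoc, dw.sq, mul_one, du.sq]) fun e => a.ne (by
      rw [mul_eq_one_iff_eq_inv, inv_self dw.sq] at e; exact e)
  have a' : Adj V u (u * w) := h.adj_of hu h1 (h.vt_of h4 o' cS hS')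
    (fun e => dw.ne (by simpa using e)) hS'
  have pS := h.pg_of_card cS
  have lA : RR u ≤ RR u ⊔ zpowers t := le_sup_left
  have lB := dw.R_le hS pS cS
  have lC := (h.vd a'.r).R_le hS' pS cS
  obtain ⟨c, hc, cA, cB⟩ := exists_not_mem (Rne _ _ a'.cmp cu a'.ne.symm)
    (Rne _ _ a'.cmp a.cmp fun e => h1 (by simpa using e))
  obtain ⟨b, hb, bA⟩ := SetLike.not_le_iff_exists.1 (Rne _ _ a.cmp cu a.ne.symm)
  have a1 : c * b⁻¹ ∈ RR u := mul_mem_two lA (by rw [cS, du.card]) (lC hc) (inv_mem (lB hb)) cA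
    fun e => bA (inv_mem_iff.1 e)
  have a2 : c * b⁻¹ ∉ RR w := fun e => cB ((mul_mem_cancel_right (inv_mem hb)).1 e)
  have SN := (h.S_le hu).trans cu.norm
  have bN := SN (lB hb)
  have b2 := sqK w a.cmp _ (cos_mem_quo bN hb)
  obtain ⟨a0, ha0⟩ : ∃ a0, a0 = c * b⁻¹ := ⟨_, rfl⟩
  rw [← ha0] at a1 a2
  have aN := SN (lA a1)
  have c1 : cos _ a0 * cos _ b = cos _ b * cos _ a0 :=
    comm_of_sq3 (sqK u cu _ (cos_mem_quo aN a1)) b2 (by
      rw [← (cos _).map_mul aN bN, ha0, inv_mul_cancel_right]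
      exact sqK _ a'.cmp _ (cos_mem_quo (SN (lC hc)) hc))
  have c2 : quo (KK V u) (RR u) ≤ 𝐂[cos (KK V u) b] := fun q hq => by
    obtain ⟨k, kN, hk, rfl⟩ := mem_quo.1 hq
    have key : ∀ k ∈ RR w, cos (KK V u) k ∈ 𝐂[cos (KK V u) b] := fun k hk =>
      mem_cent1.2 (comm_of_sq (sqK w a.cmp) (cos_mem_quo bN hb) (cos_mem_quo (SN (lB hk)) hk))
    by_cases e : k ∈ RR w
    · exact key k e
    · have := key _ (mul_mem_two lB (by rw [cS, dw.card]) (lA hk) (lA a1) e a2)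
      rw [(cos _).map_mul kN aN] at this
      exact (mul_mem_cancel_right (mem_cent1.2 c1.symm)).1 this
  have s := S3.quo (h.s3 u hu h1) (hK.of_le ((h.K_le cu).trans du.nrm.le) cu.norm) (h.K_le cu)
  have T' := TM.quo le_rfl (ndvd_of_pg2 pK)
  rw [quo_eq_bot hVK] at T'
  have c3 := s.upper T' (quo_mono _ cu.norm) (cos_mem_quo bN (h.S_le hu (lB hb)))
    (fun e => bA (mem_of_cos_mem_quo (hK.of_le (h.K_le cu) (lA.trans SN)) bN e)) b2
    (quo_mono _ (lA.trans SN)) s.nrm.norm s.ndvd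
  rw [inf_eq_left.2 c2, cQ u cu, card_bot] at c3
  omega

theorem sp4 (h4 : 4 * r ∣ Nat.card G) {w : G} (hw : orderOf w = 2) : cc w ∣ 24 * r := by
  by_cases hn : VT V w
  · exact ⟨4, by rw [(h.vd hn).cc]; ring⟩
  obtain ⟨P, hP⟩ := exists_isSylowIn 2 (⊤ : Subgroup G)
  have e := h.four_dvd h4 hP
  obtain ⟨z, hz, z1⟩ := exists_ZZ hP.isPGroup fun e1 => by
    rw [e1, card_bot] at e
    have := Nat.le_of_dvd one_pos e
    have := h.r_pos
    omega
  have e1 : 4 * r ∣ cc z := e.trans (card_dvd_of_le ((le_cent_ZZ P).trans (cent_le_cent1 hz)))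
  have zo := ord_two hz.2.2 z1
  have zn := h.not_vt e1
  rw [cc_conj (h.toFus.sp_conj h.V_ne hw (h.spec hw hn) zo (h.spec zo zn))]
  rcases h.sp2 zo zn (Dvd.dvd.trans ⟨2, by ring⟩ e1) with e2 | e2
  · exact ⟨6, by rw [e2]; ring⟩
  · exact ⟨3, by rw [e2]; ring⟩

theorem alpha2 (h4 : 4 * r ∣ Nat.card G) {u : G} (hu : u ∈ V) (h1 : u ≠ 1) {M K : Subgroup G}
    (hM : 𝐂[u] ≤ M) (hK : K ⊴ M) (sK : ∀ k ∈ K, k * k = 1) : ¬ NSC M K x := by
  rintro ⟨c, Q, hQ, cQ, xQ⟩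
  have pK := pg2_of_sq sK
  obtain ⟨k, hk⟩ := h.r_pow
  have e1 : K ⊓ 𝐂(Q) = ⊥ := eq_bot_iff.2 fun f hf => by
    by_contra f1
    have e := (card_dvd_of_le ((le_centralizer_comm.1 (zpowers_le.2 hf.2)).trans
      (cent_zpowers f).le)).trans (h.sp4 h4 (ord_two (sK f hf.1) f1))
    rw [hk] at e
    rcases cQ with e2 | e2 <;> rw [e2] at e <;>
      exact absurd (Nat.Coprime.dvd_of_dvd_mul_right (Nat.Coprime.pow_right _ (by norm_num)) e)
        (by norm_num)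
  have e2 := h.th.wiel le_top xQ (by omega) (by omega) le_top pK
    (hK.norm (hM (h.toFus.x_mem hu))) (hQ.trans hK.norm)
  rw [e1, eq_bot_iff.2 ((inf_le_inf_right _ inf_le_left).trans e1.le), card_bot] at e2
  have e3 := card_le_of_le (inf_le_right : K ⊓ V ≤ V)
  have e4 := card_dvd_of_le ((h.S_le hu).trans hM)
  rw [h.S_card hu h1] at e4
  have e5 : Nat.card M ∣ 273 * (64 * Nat.card K) := by
    rcases c with c | c | c | c <;> rw [c, ← mul_assoc] <;>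
      exact Nat.mul_dvd_mul_right (by norm_num) _
  have e6 := Nat.le_of_dvd (Nat.mul_pos (by norm_num) Nat.card_pos)
    (Nat.Coprime.dvd_of_dvd_mul_left (by
      rw [hk, ← pow_succ']; exact Nat.Coprime.pow_left _ (by norm_num)) (e4.trans e5))
  have e7 := Nat.pow_le_pow_left e3 3
  have big := h.big
  rcases h.cardV with e | e <;> rw [e] at e7 big <;> omega

end PB

end PZ

open PZ

theorem PS.pathZ {x t : G} {V : Subgroup G} {r : ℕ} (h : PS x V t r) {u : G} (hu : u ∈ V)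
    (h1 : u ≠ 1) (hI : ∀ v ∈ V, v ≠ 1 → V ⊓ 𝐂(RR v) ≤ zpowers v)
    (hZ : 4 * r ∣ Nat.card G ∨ Nat.card V = 4 ∨
      ∃ w ∈ RR u, w ∈ 𝐂(RR u) ∧ w * w = 1 ∧ w ≠ 1 ∧ w ≠ u)
    (hNS : ∀ M K : Subgroup G, K ⊴ M → IsPGroup 2 K → u ∈ K → 𝐂[u] ≤ M → ¬ Group.IsSolvable M →
      NSC M K x) : r < 1024 * Nat.card V := by
  by_contra hr
  have h : PB x V t r := ⟨h, hI, not_lt.1 hr⟩
  have cu := Cmp.refl V u
  have uT := VT.of_mem hu h1
  obtain ⟨w, a, hS⟩ : ∃ w, Adj V u w ∧ RR u ⊔ zpowers t ≤ 𝐂[w] := by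
    by_cases h4 : 4 * r ∣ Nat.card G
    · exact h.edge1 h4 hu h1
    rcases hZ with e | e | ⟨w, a, b, c, d, e⟩
    · exact absurd e h4
    · obtain ⟨v, hv, v1⟩ := SetLike.not_le_iff_exists.1 (show ¬ V ≤ zpowers u from fun e1 => by
        have := (card_le_of_le e1).trans (card_zp2 (h.th.sq u hu))
        omega)
      obtain ⟨w, -, a⟩ := h.edge2 h4 hu h1 hv (fun e => v1 (e ▸ one_mem _))
        fun e => v1 (e ▸ mem_zpowers v)
      exact ⟨w, a⟩
    · exact h.edge3 h4 hu h1 ⟨a, b, c⟩ d e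
  have hK := nrm_normalizer (KK V u)
  have uK := h.mem_K uT cu
  have hs : Group.IsSolvable 𝐍(KK V u) := by
    by_cases h4 : 4 * r ∣ Nat.card G
    · by_contra hs
      exact h.alpha2 h4 hu h1 cu.norm hK (h.K_sq u) (hNS _ _ hK (h.K_pg u) uK cu.norm hs)
    · exact h.alpha1 h4 hu h1 a hS
  have s := (h.thM hu cu.norm).s3 hs (cu.norm (h.toFus.t_mem hu)) h.inv
  have e := h.gamma hu h1 cu.norm s (h.beta hu h1 cu.norm hK (h.K_pg u) uK s)
  exact a.ne ((h.vd a.r).eq_of_le (h.th.sq u hu) h1 (a.cmp.norm.trans e))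

end Cfsg.Agent.Z6
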