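import Cfsg.Agent.Z6.PS
import Cfsg.Agent.Z6.PathP3
import Cfsg.Agent.Z6.PathZ
import Cfsg.Agent.Z6.Num
import Cfsg.Agent.Z6.NS
import Cfsg.Agent.Z6.Char
import Cfsg.Agent.Z6.Ident

/-!
# Simple groups with `C(x) = 3 × 2` or `3 × 2 × 2`
-/

set_option autoImplicit false
set_option linter.unusedSectionVars false

namespace Cfsg.Agent.Z6

open Subgroup Cfsg.Agent.Local Cfsg.Agent.FT Cfsg.Agent.Char
open scoped Pointwise

universe u

variable {G : Type u} [Group G] [Finite G]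

theorem PS.pathP {x t v : G} {V : Subgroup G} {r : ℕ} (h : PS x V t r) (hV : Nat.card V = 2)
    (hv : v ∈ V) (h1 : v ≠ 1) (hS : ¬ 4 * r ∣ Nat.card G)
    (hZ : ∀ w ∈ RR v, w ∈ 𝐂(RR v) → w * w = 1 → w = 1 ∨ w = v) : r ≤ 512 := by
  by_contra hr
  have hL := h.lc hV hv h1 hZ
  obtain ⟨β, a1, a2, a3, a4⟩ := hL.exists_beta h.t2 (by omega)
  by_cases e : IsConj v β
  · exact GS.elim ⟨hL, h.t2, a1, a2, a3, a4, e, by omega⟩ hS
  · have := h.pathP3 hV hv h1 hS hZ a1 a2 (fun e => a3 (e ▸ one_mem _))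
      (fun e => a3 (e ▸ mem_zpowers _)) a4 e
    omega

theorem sixHyp : SixHyp.{u} := fun G _ _ x V hs ha hT hV => by
  obtain ⟨t, d, ν, δ, h⟩ := charHyp G x V hs ha hT (by omega)
  have hF := h.toFus
  obtain ⟨v, hv, h1⟩ := exists_ne_one (V := V) (by omega)
  have eV := eq_zp hV hv h1 (hT.sq v hv)
  refine h.num2 hV hv h1 ?_
  rcases (hF.thC hv).ft3 (K := V) ⟨hF.V_le hv, eV ▸ zp_le_norm v⟩ hT.ndvd le_rfl with hs | ⟨c, -⟩
  · have hs' : ∀ w ∈ V, w ≠ 1 → Group.IsSolvable 𝐂[w] := fun w hw w1 =>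
      (mem_two hV hv h1 (hT.sq v hv) hw).resolve_left w1 ▸ hs
    have hP := h.ps (Or.inl hV) hs' (fun w hw w1 => h.odd2 hV hw w1 (hs' w hw w1)) hv h1
    have a1 : Nat.card (RR v) < 2048 := by
      by_cases hZ : 4 * Nat.card (RR v) ∣ Nat.card G ∨ Nat.card V = 4 ∨
        ∃ w ∈ RR v, w ∈ 𝐂(RR v) ∧ w * w = 1 ∧ w ≠ 1 ∧ w ≠ v
      · have := hP.pathZ hv h1 (fun w hw w1 => inf_le_left.trans
          (eq_zp hV hw w1 (hT.sq w hw)).le) hZ fun M K hK pK vK hM hn => by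
          have VK : V ≤ K := eV ▸ zpowers_le.2 vK
          have hT' := hT.sub' le_top (hM (hF.x_mem hv)) (VK.trans hK.le)
          exact hT'.nsc168 hK pK ((hT'.ft3 hK (ndvd_of_pg2 pK) VK).resolve_left hn).1
        omega
      · push Not at hZ
        have := hP.pathP hV hv h1 hZ.1 fun w hw hc e => or_iff_not_imp_left.2 (hZ.2.2 w hw hc e)
        omega
    obtain ⟨a, ha⟩ := PG.card_eq_pow (hP.pg v hv h1)
    have a2 := hF.card_mod hv hs
    rw [show cc v = 6 * Nat.card (RR v) from (hP.s3 v hv h1).card]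
    rw [ha] at a1 a2 ⊢
    have : a < 11 := (Nat.pow_lt_pow_iff_right one_lt_two).1 a1
    rw [hV] at a2
    interval_cases a <;> simp_all
  · rw [show cc v = 336 by rw [cc, c, hV]]; simp

theorem fourHyp : FourHyp.{u} := fun G _ _ x V hs ha hT hV => by
  obtain ⟨t, d, ν, δ, h⟩ := charHyp G x V hs ha hT (by omega)
  have hF := h.toFus
  have hNS : ∀ v ∈ V, v ≠ 1 → ∀ M K : Subgroup G, K ⊴ M → IsPGroup 2 K → v ∈ K → 𝐂[v] ≤ M →
      ¬ Group.IsSolvable M → NSC M K x := fun v hv v1 M K hK pK vK hM hn =>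
    ns' charHyp sixHyp (hT.sub' le_top (hM (hF.x_mem hv)) ((hF.V_le hv).trans hM)) hV.le
      (hM (hF.t_mem hv)) h.t2 h.inv hK pK (fun e => v1 (mem_bot.1 (e ▸ ⟨vK, hv⟩))) hn
  by_cases hs : ∀ v ∈ V, v ≠ 1 → Group.IsSolvable 𝐂[v]
  · obtain ⟨u, hu, h1⟩ := exists_ne_one (V := V) (by omega)
    have hP := h.ps (Or.inr hV) hs (fun w hw w1 => h.odd4 hV hs hw w1) hu h1
    have a1 : Nat.card (RR u) < 4096 := by
      by_cases hI : ∃ v ∈ V, v ≠ 1 ∧ V ≤ 𝐂(RR v)
      · obtain ⟨v, hv, v1, e⟩ := hI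
        have := hP.caseI hV hv v1 e
        omega
      · have := hP.pathZ hu h1 (fun v hv v1 w hw => by_contra fun hn => hI ⟨v, hv, v1, fun a ha => by
          have vC : zpowers v ≤ 𝐂(RR v) := zpowers_le.2 fun g hg =>
            (mem_cent1.1 (core_le _ _ hg)).symm
          by_cases e : a ∈ zpowers v
          · exact vC e
          · exact (Subgroup.mul_mem_cancel_right _ hw.2).1 (vC (mul_mem_two (zpowers_le.2 hv)
              (by rw [hV, Nat.card_zpowers, hF.ord2 hv v1]) ha hw.1 e hn))⟩) (Or.inr (Or.inl hV))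
          (hNS u hu h1)
        omega
    refine h.num4s hV fun v hv v1 => ?_
    obtain ⟨a, ha⟩ := PG.card_eq_pow (hP.pg u hu h1)
    have a2 := hF.card_mod hu (hs u hu h1)
    have a3 := card_le_of_le (hF.V_le_RR hu (hs u hu h1))
    rw [show cc v = 6 * Nat.card (RR v) from (hP.s3 v hv v1).card, hP.card v hv v1]
    rw [ha] at a1 a2 a3 ⊢
    have : a < 12 := (Nat.pow_lt_pow_iff_right one_lt_two).1 a1
    rw [hV] at a2 a3
    interval_cases a <;> simp_all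
  · push Not at hs
    obtain ⟨v, hv, v1, hn⟩ := hs
    have c2 : Nat.card (zpowers v) = 2 := by rw [Nat.card_zpowers, hF.ord2 hv v1]
    have := (hNS v hv v1 𝐂[v] (zpowers v) ⟨zpowers_le.2 (mem_cent1.2 rfl), zp_le_norm v⟩
      (hT.pg.to_le (zpowers_le.2 hv)) (mem_zpowers v) le_rfl hn).1
    rw [c2] at this
    exact h.num4n hV hv v1 (by simpa using this)

end Cfsg.Agent.Z6
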