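import Cfsg.Agent.S3331
import Cfsg.Agent.Three.Main
import Cfsg.Agent.FT.Pf.Wielandt
import Cfsg.Agent.FT.Pf.BG1

/-!
# Elements of order three whose centraliser is `3 × 2 ^ k`: basic facts
-/

set_option autoImplicit false
set_option linter.unusedSectionVars false

namespace Cfsg.Agent.Z6

open Subgroup Cfsg.Agent.Local Cfsg.Agent.FT Cfsg.Agent.Char
open scoped Pointwise

universe u

instance : Fact (Nat.Prime 3) := ⟨Nat.prime_three⟩
instance : Fact (Nat.Prime 2) := ⟨Nat.prime_two⟩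

theorem cop3 {n : ℕ} (h : ¬ 3 ∣ n) : n.Coprime 3 :=
  ((Nat.Prime.coprime_iff_not_dvd Nat.prime_three).mpr h).symm

theorem solv_aux (n : ℕ) : ∀ (G : Type u) [Group G] [Finite G], Nat.card G = n →
    ¬ 3 ∣ n → ¬ 5 ∣ n → Group.IsSolvable G := by
  induction n using Nat.strong_induction_on with
  | _ n ih =>
  intro G _ _ hn h3 h5
  by_cases h : ∃ N : Subgroup G, N.Normal ∧ N ≠ ⊥ ∧ N ≠ ⊤
  · obtain ⟨N, hN, h1, h2⟩ := h
    have e := N.card_mul_index
    rw [hn] at e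
    have a1 : 1 < Nat.card N := (one_lt_card_iff_ne_bot N).2 h1
    have a2 : 1 < N.index := one_lt_index_of_ne_top h2
    have s1 := ih (Nat.card N) (by nlinarith) N rfl (fun d => h3 (e ▸ d.mul_right _))
      (fun d => h5 (e ▸ d.mul_right _))
    have s2 := ih N.index (by nlinarith) (G ⧸ N) rfl (fun d => h3 (e ▸ d.mul_left _))
      (fun d => h5 (e ▸ d.mul_left _))
    exact solvable_of_ker_le_range N.subtype (QuotientGroup.mk' N) (by simp)
  · by_cases hc : IsMulCommutative G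
    · exact isSolvable_of_isMulCommutative hc
    · have : Nontrivial G := by
        by_contra h0
        have := not_nontrivial_iff_subsingleton.mp h0
        exact hc ⟨⟨fun a b => Subsingleton.elim _ _⟩⟩
      have : IsSimpleGroup G := ⟨fun N hN => by by_contra h0; push Not at h0; exact h ⟨N, hN, h0⟩⟩
      obtain ⟨k, -, hk⟩ := Three.suz G hc (hn ▸ h3)
      exact absurd (hn ▸ hk.card ▸ ((CIT.suz_dvd k).1.mul_left _).mul_right _) h5

variable {G : Type u} [Group G] [Finite G]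

/-- `C_H(x) = ⟨x⟩ × V` with `x` of order three and `V` an elementary abelian `2`-group. -/
structure TH (H : Subgroup G) (x : G) (V : Subgroup G) : Prop where
  mem : x ∈ H
  le : V ≤ H
  ord : orderOf x = 3
  sq : ∀ v ∈ V, v * v = 1
  comm : ∀ v ∈ V, v * x = x * v
  cent : ∀ g ∈ H, g * x = x * g → g ∈ V ∨ g * x ∈ V ∨ g * x⁻¹ ∈ V
  five : ¬ 5 ∣ Nat.card H

theorem cube_of {x : G} (h : orderOf x = 3) : x ^ 3 = 1 := by rw [← h, pow_orderOf_eq_one]

theorem sq_of {x : G} (h : orderOf x = 3) : x * x = x⁻¹ := by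
  rw [eq_inv_iff_mul_eq_one, ← cube_of h, pow_three']

theorem ne_one_of {x : G} (h : orderOf x = 3) : x ≠ 1 := by rintro rfl; simp at h

theorem card_zp {x : G} (h : orderOf x = 3) : Nat.card (zpowers x) = 3 := by
  rw [Nat.card_zpowers, h]

theorem pg3 {x : G} (h : orderOf x = 3) : IsPGroup 3 (zpowers x) :=
  isPGroup_zpowers_of_orderOf_eq h

theorem cop_zp {x : G} (h : orderOf x = 3) {K : Subgroup G} (hK : ¬ 3 ∣ Nat.card K) :
    (Nat.card K).Coprime (Nat.card (zpowers x)) := by rw [card_zp h]; exact cop3 hK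

theorem not_mem_of {x : G} (h : orderOf x = 3) {K : Subgroup G} (hK : ¬ 3 ∣ Nat.card K) : x ∉ K :=
  fun e => hK (h ▸ orderOf_dvd_card_of_mem e)

theorem inv_self {a : G} (h : a * a = 1) : a⁻¹ = a := inv_eq_of_mul_eq_one_right h

theorem comm_of_sq {V : Subgroup G} (h : ∀ v ∈ V, v * v = 1) {a b : G} (ha : a ∈ V) (hb : b ∈ V) :
    a * b = b * a := by
  rw [← inv_self (h _ (mul_mem ha hb)), mul_inv_rev, inv_self (h a ha), inv_self (h b hb)]

theorem pg2_of_sq {V : Subgroup G} (h : ∀ v ∈ V, v * v = 1) : IsPGroup 2 V :=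
  PG.isPGroup_of_expo fun v hv => by rw [sq, h v hv]

theorem ndvd_of_pg2 {K : Subgroup G} (h : IsPGroup 2 K) : ¬ 3 ∣ Nat.card K := by
  obtain ⟨n, hn⟩ := PG.card_eq_pow h
  rw [hn]
  exact fun e => by simpa using Nat.le_of_dvd two_pos (Nat.prime_three.dvd_of_dvd_pow e)

theorem exists_three {y : G} (h : 3 ∣ orderOf y) : ∃ n : ℕ, orderOf (y ^ n) = 3 :=
  ⟨_, orderOf_pow_orderOf_div (orderOf_pos y).ne' h⟩

namespace TH

variable {H V K : Subgroup G} {x : G} (h : TH H x V)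
include h

theorem pg : IsPGroup 2 V := pg2_of_sq h.sq

theorem ndvd : ¬ 3 ∣ Nat.card V := ndvd_of_pg2 h.pg

theorem le_cent : V ≤ 𝐂[x] := fun v hv => mem_cent1.2 (h.comm v hv).symm

theorem inv : TH H x⁻¹ V :=
  ⟨inv_mem h.mem, h.le, by rw [orderOf_inv, h.ord], h.sq,
    fun v hv => (Commute.inv_right (h.comm v hv)).eq, fun g hg e => by
      rw [inv_inv]
      exact (h.cent g hg (Commute.inv_right_iff.mp e)).imp_right Or.symm, h.five⟩

theorem mem_V {a : G} (ha : a ∈ H) (hc : a * x = x * a) (h3 : ¬ 3 ∣ orderOf a) : a ∈ V := by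
  have key : ∀ y : G, orderOf y = 3 → Commute a y → a * y * (a * y) ≠ 1 := fun y hy c e => h3 (by
    have e1 : a ^ 2 = y := by
      have : a * a * (y * y) = 1 := by rw [← e, c.mul_mul_mul_comm]
      rwa [sq_of hy, mul_inv_eq_one, ← pow_two] at this
    exact hy ▸ e1 ▸ orderOf_pow_dvd 2)
  rcases h.cent a ha hc with e | e | e
  · exact e
  · exact absurd (h.sq _ e) (key x h.ord hc)
  · exact absurd (h.sq _ e) (key _ h.inv.ord (Commute.inv_right hc))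

theorem fix (hK : K ≤ H) (h3 : ¬ 3 ∣ Nat.card K) {a : G} (ha : a ∈ K) (hc : x * a = a * x) :
    a ∈ V := h.mem_V (hK ha) hc.symm fun e => h3 (e.trans (orderOf_dvd_card_of_mem ha))

theorem inf_cent (hK : K ≤ H) (h3 : ¬ 3 ∣ Nat.card K) : K ⊓ 𝐂[x] = K ⊓ V :=
  le_antisymm (fun _ ha => ⟨ha.1, h.fix hK h3 ha.1 (mem_cent1.1 ha.2)⟩)
    (inf_le_inf_left _ h.le_cent)

theorem inf_cent' (hK : K ≤ H) (h3 : ¬ 3 ∣ Nat.card K) : K ⊓ 𝐂(zpowers x) = K ⊓ V := by
  rw [cent_zpowers, h.inf_cent hK h3]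

theorem cent_eq : H ⊓ 𝐂[x] = V ⊔ zpowers x := by
  refine le_antisymm (fun g hg => ?_) (sup_le (le_inf h.le h.le_cent)
    (zpowers_le.2 ⟨h.mem, mem_cent1.2 rfl⟩))
  have hx : x ∈ V ⊔ zpowers x := mem_sup_right (mem_zpowers x)
  rcases h.cent g hg.1 (mem_cent1.1 hg.2).symm with e | e | e
  · exact mem_sup_left e
  · exact (mul_mem_cancel_right hx).1 (mem_sup_left e)
  · exact (mul_mem_cancel_right (inv_mem hx)).1 (mem_sup_left e)

theorem card_cent : Nat.card ↥(H ⊓ 𝐂[x]) = 3 * Nat.card V := by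
  rw [h.cent_eq, PG.card_sup_zpowers (p := 3) (centralizer_le_normalizer' V fun v hv => h.comm v hv)
    (not_mem_of h.ord h.ndvd) (by rw [cube_of h.ord]; exact one_mem _)]

theorem sylow : IsSylowIn 3 (zpowers x) H := by
  refine isSylowIn_iff_normalizer.1 ⟨zpowers_le.2 ⟨h.mem, le_normalizer (mem_zpowers x)⟩,
    pg3 h.ord, fun e => ?_⟩
  have h1 := relIndex_cent_dvd_pred (X := zpowers x) (A := H ⊓ 𝐍(zpowers x))
    (by rw [card_zp h.ord]; norm_num) inf_le_right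
  have h2 := card_inf_mul_relIndex 𝐂(zpowers x) (H ⊓ 𝐍(zpowers x))
  have h3 : 𝐂(zpowers x) ⊓ (H ⊓ 𝐍(zpowers x)) = H ⊓ 𝐂[x] := by
    rw [← cent_zpowers]
    exact le_antisymm (fun g hg => ⟨hg.2.1, hg.1⟩)
      fun g hg => ⟨hg.2, hg.1, centralizer_le_normalizer' _ hg.2⟩
  have h4 := card_mul_relIndex (show zpowers x ≤ H ⊓ 𝐍(zpowers x) from
    zpowers_le.2 ⟨h.mem, le_normalizer (mem_zpowers x)⟩)
  rw [h3, h.card_cent, ← h4, card_zp h.ord, mul_assoc] at h2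
  rw [card_zp h.ord] at h1
  rw [← Nat.eq_of_mul_eq_mul_left (by norm_num) h2, Nat.prime_three.dvd_mul] at e
  rcases e with e | e
  · exact h.ndvd e
  · exact absurd (e.trans h1) (by norm_num)

theorem not_nine (hK : K ≤ H) : ¬ 9 ∣ Nat.card K := fun h9 => by
  have h1 := h.sylow.not_dvd
  have h2 := card_mul_relIndex h.sylow.le
  have h3 := h9.trans (card_dvd_of_le hK)
  rw [card_zp h.ord] at h2
  omega

theorem exists_conj {y : G} (hy : y ∈ H) (h3 : orderOf y = 3) :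
    ∃ n ∈ H, n * x * n⁻¹ = y ∨ n * x * n⁻¹ = y⁻¹ := by
  obtain ⟨n, hn, h1⟩ := h.sylow.exists_le_conj (pg3 h3) (zpowers_le.mpr hy)
  refine ⟨n, hn, ?_⟩
  rcases mem_zpowers_three h.ord (mem_conj_smul_iff.mp (h1 (mem_zpowers y))) with e | e | e
  · exact absurd (by simpa [mul_assoc] using congrArg (fun z => n * z * n⁻¹) e) (ne_one_of h3)
  · left; rw [← e]; group
  · right; rw [← inv_inv x, ← e]; group

theorem sub (hK : K ≤ H) (hx : x ∈ K) : TH K x (V ⊓ K) :=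
  ⟨hx, inf_le_right, h.ord, fun v hv => h.sq v hv.1, fun v hv => h.comm v hv.1, fun g hg e =>
    (h.cent g (hK hg) e).imp (fun a => ⟨a, hg⟩) (Or.imp (fun a => ⟨a, mul_mem hg hx⟩)
      fun a => ⟨a, K.mul_mem hg (K.inv_mem hx)⟩), fun e => h.five (e.trans (card_dvd_of_le hK))⟩

theorem sub' (hK : K ≤ H) (hx : x ∈ K) (hV : V ≤ K) : TH K x V := by
  simpa only [inf_eq_left.2 hV] using h.sub hK hx

theorem im {D : Subgroup G} {G' : Type u} [Group G'] [Finite G'] (f : Mor D G') (hD : H ≤ D)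
    (h3 : ¬ 3 ∣ Nat.card ↥(f.ker ⊓ H)) : TH (f.im H) (f x) (f.im V) := by
  have hx := hD h.mem
  have e := f.im_inf_cent_of_coprime (A := zpowers x) (H := H) (zpowers_le.2 hx) hD
    (zpowers_le.2 (le_normalizer h.mem)) (cop_zp h.ord h3) (Or.inr (isSolvable_zpowers x))
  rw [f.im_zpowers hx, cent_zpowers, cent_zpowers] at e
  refine ⟨f.mem_im_of_mem hx h.mem, f.im_mono h.le, orderOf_eq_prime (by
    rw [← f.map_pow hx, cube_of h.ord, f.map_one]) fun e1 => not_mem_of h.ord h3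
      ⟨f.mem_ker.2 ⟨hx, e1⟩, h.mem⟩, fun v hv => ?_, fun v hv => ?_, fun g hg e1 => ?_,
    fun e1 => h.five (e1.trans (f.card_im_dvd H))⟩
  · obtain ⟨v, a, b, rfl⟩ := f.mem_im.1 hv
    rw [← f.map_mul a a, h.sq v b, f.map_one]
  · obtain ⟨v, a, b, rfl⟩ := f.mem_im.1 hv
    rw [← f.map_mul a hx, h.comm v b, f.map_mul hx a]
  · obtain ⟨g, a, b, rfl⟩ := f.mem_im.1 (e.ge ⟨hg, mem_cent1.2 e1.symm⟩)
    rw [← f.map_inv hx, ← f.map_mul a hx, ← f.map_mul a (inv_mem hx)]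
    exact (h.cent g b.1 (mem_cent1.1 b.2).symm).imp (f.mem_im_of_mem a) (Or.imp
      (f.mem_im_of_mem (mul_mem a hx)) (f.mem_im_of_mem (mul_mem a (inv_mem hx))))

theorem quo {N : Subgroup G} (hN : H ≤ 𝐍(N)) (h3 : ¬ 3 ∣ Nat.card N) :
    TH (quo N H) (cos N x) (quo N V) :=
  h.im (cos N) hN fun e => h3 (e.trans (card_dvd_of_le (by rw [ker_cos]; exact inf_le_left)))

theorem conj (g : G) : TH (MulAut.conj g • H) (g * x * g⁻¹) (MulAut.conj g • V) := by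
  have := h.im (Mor.ofHom (MulAut.conj g).toMonoidHom) le_top (by
    rw [(conj_inj g).ker_inf]; simp)
  rwa [conj_im, conj_im] at this

theorem toType : TH (⊤ : Subgroup H) ⟨x, h.mem⟩ (V.subgroupOf H) := by
  have := h.im (toSub H) le_rfl (by rw [(toSub_inj H).ker_inf]; simp)
  rwa [toSub_im_self, toSub_im, toSub_apply h.mem] at this

theorem of_ord {y : G} (hy : y ∈ H) (h3 : orderOf y = 3) :
    ∃ n ∈ H, TH H y (MulAut.conj n • V) := by
  obtain ⟨n, hn, e⟩ := h.exists_conj hy h3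
  have := h.conj n
  rw [FT.conj_smul_eq_self_of_mem hn] at this
  rcases e with e | e
  · exact ⟨n, hn, e ▸ this⟩
  · exact ⟨n, hn, by simpa [e] using this.inv⟩

theorem mem_of_dvd (hK : K ≤ H) (hx : x ∈ 𝐍(K)) (h3 : 3 ∣ Nat.card K) : x ∈ K := by
  by_contra hn
  have h1 := PG.card_sup_zpowers (p := 3) hx hn (by rw [cube_of h.ord]; exact one_mem _)
  exact h.not_nine (sup_le hK (zpowers_le.2 h.mem)) (by omega)

theorem solv (hK : K ≤ H) (h3 : ¬ 3 ∣ Nat.card K) : Group.IsSolvable K :=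
  solv_aux _ K rfl h3 fun e => h.five (e.trans (card_dvd_of_le hK))

theorem modEq (hK : K ≤ H) (hx : x ∈ 𝐍(K)) (h3 : ¬ 3 ∣ Nat.card K) :
    Nat.card K % 3 = Nat.card ↥(K ⊓ V) % 3 := by
  rw [← h.inf_cent' hK h3]
  exact card_modEq_card_cent (pg3 h.ord) (zpowers_le.2 hx)

theorem nil (hK : K ≤ H) (hx : x ∈ 𝐍(K)) (h3 : ¬ 3 ∣ Nat.card K) (hV : K ⊓ V = ⊥) :
    Group.IsNilpotent K :=
  isNilpotent_of_fpf hx (h.ord ▸ Nat.prime_three) fun a ha e =>
    mem_bot.1 (hV ▸ ⟨ha, h.fix hK h3 ha e⟩)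

theorem inf_odd (hK : ¬ 2 ∣ Nat.card K) : K ⊓ V = ⊥ :=
  inf_eq_bot_of_coprime' (coprime_card_of_isPGroup h.pg
    ((Nat.Prime.coprime_iff_not_dvd Nat.prime_two).mpr hK).symm)

/-- An element of order prime to six has a centraliser of order prime to three. -/
theorem cent_ndvd {g : G} (h1 : g ≠ 1) (h2 : ¬ 2 ∣ orderOf g) (h3 : ¬ 3 ∣ orderOf g) (hg : g ∈ H) :
    ¬ 3 ∣ Nat.card ↥(H ⊓ 𝐂[g]) := fun e => by
  obtain ⟨y, hy, hy3⟩ := exists_mem_orderOf_eq_of_dvd_card Nat.prime_three e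
  obtain ⟨n, -, h4⟩ := h.of_ord hy.1 hy3
  have h5 := h4.sq g (h4.mem_V hg (mem_cent1.1 hy.2) h3)
  exact h2 (by rw [orderOf_eq_prime (p := 2) (by rw [pow_two, h5]) h1])

/-- An element normalising `⟨x⟩` normalises `V`. -/
theorem conj_V {g : G} (hg : g ∈ H) (e : g * x * g⁻¹ = x⁻¹) {v : G} (hv : v ∈ V) :
    g * v * g⁻¹ ∈ V := by
  refine h.mem_V (mul_mem (mul_mem hg (h.le hv)) (inv_mem hg)) ?_ (by
    rw [Local.orderOf_conj']; exact fun e => h.ndvd (e.trans (orderOf_dvd_card_of_mem hv)))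
  have : Commute (g * v * g⁻¹) x⁻¹ := by
    rw [← e]
    calc _ = g * (v * x) * g⁻¹ := by group
      _ = _ := by rw [h.comm v hv]; group
  exact Commute.inv_right_iff.mp this

/-- The basic upper bound for fixed points of an inverting involution. -/
theorem upper {y a : G} (hy : y ∈ H) (h3 : orderOf y = 3) (ha : a * a = 1)
    (e : a * y * a⁻¹ = y⁻¹) (hK : K ≤ H) (hn : y ∈ 𝐍(K)) (hd : ¬ 3 ∣ Nat.card K) :
    Nat.card ↥(K ⊓ 𝐂[a]) * Nat.card ↥(K ⊓ 𝐂[a]) ≤ Nat.card K * Nat.card V := by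
  obtain ⟨n, -, h1⟩ := h.of_ord hy h3
  have h2 := card_mul_card_le (H := K ⊓ 𝐂[a]) (K := MulAut.conj y • (K ⊓ 𝐂[a])) (L := K)
    inf_le_left (conj_smul_le_of_mem_normalizer hn inf_le_left)
  rw [card_conj_smul] at h2
  refine h2.trans (Nat.mul_le_mul_left _ ?_)
  rw [← card_conj_smul n V]
  refine card_le_of_le fun k hk => h1.fix hK hd hk.1.1 ?_
  have c1 : Commute a k := mem_cent1.1 hk.1.2
  have c2 : Commute (y * a * y⁻¹) k := by
    have := mem_cent1.1 (mem_conj_smul_iff.mp hk.2).2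
    calc _ = y * (a * (y⁻¹ * k * y)) * y⁻¹ := by group
      _ = _ := by rw [this]; group
  have c3 : a * (y * a * y⁻¹) = y := by
    calc _ = (a * y * a⁻¹) * (a * a) * y⁻¹ := by group
      _ = (y * y)⁻¹ := by rw [e, ha]; group
      _ = y := by rw [sq_of h3, inv_inv]
  exact c3 ▸ (c1.mul_left c2).eq

theorem sct (hV : V = ⊥) : SCT (⟨x, h.mem⟩ : H) :=
  ⟨by rw [← h.ord, ← orderOf_coe], fun g hg => by
    have : (g : G) ∈ zpowers x := by
      have := h.cent_eq.le ⟨g.2, mem_cent1.2 (congrArg Subtype.val hg).symm⟩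
      rwa [hV, bot_sup_eq] at this
    obtain ⟨n, hn⟩ := this
    exact ⟨n, Subtype.ext (by simpa using hn)⟩⟩

theorem inv3 (hK : K ≤ H) (hx : x ∈ 𝐍(K)) (h3 : ¬ 3 ∣ Nat.card K) :
    Inv3 (⟨x, h.mem⟩ : H) (K.subgroupOf H) :=
  ⟨mem_normalizer_of_conj_mem fun n hn => conj_mem_of_mem_normalizer (n := n.1) hx hn,
    by rwa [Nat.card_congr (subgroupOfEquivOfLe hK).toEquiv]⟩

theorem commute_conj (hV : V = ⊥) (hK : K ≤ H) (hx : x ∈ 𝐍(K)) (h3 : ¬ 3 ∣ Nat.card K) {a b : G}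
    (ha : a ∈ K) (hb : b ∈ K) (hab : Commute a b) : Commute a (x * b * x⁻¹) :=
  congrArg Subtype.val ((h.inv3 hK hx h3).commute_conj (h.sct hV) (a := ⟨a, hK ha⟩)
    (b := ⟨b, hK hb⟩) ha hb (Subtype.ext hab.eq)).eq

theorem commute_conj' (hV : V = ⊥) (hK : K ≤ H) (hx : x ∈ 𝐍(K)) (h3 : ¬ 3 ∣ Nat.card K)
    {a b k : G} (ha : a ∈ K) (hb : b ∈ K) (hk : k ∈ K) (hab : Commute a b) :
    Commute a (k * b * k⁻¹) :=
  congrArg Subtype.val ((h.inv3 hK hx h3).commute_conj' (h.sct hV) (a := ⟨a, hK ha⟩)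
    (b := ⟨b, hK hb⟩) (k := ⟨k, hK hk⟩) ha hb hk (Subtype.ext hab.eq)).eq

end TH

end Cfsg.Agent.Z6
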