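import Cfsg.Agent.Z6.Defs
import Cfsg.Agent.Small.Rows
import Cfsg.Agent.Block.DefZero
import Cfsg.Agent.Char.FT3Count

/-!
# The principal `3`-block when `C(x) = 3 × 2 ^ k`
-/

set_option autoImplicit false
set_option linter.unusedSectionVars false

namespace Cfsg.Agent.Z6

open Subgroup Cfsg.Agent.Local Cfsg.Agent.FT Cfsg.Agent.Char
open scoped Pointwise ComplexConjugate

universe u

variable {G : Type u} [Group G] [Finite G]

theorem int_three {ι : Type*} [Fintype ι] [DecidableEq ι] (k : ι → ℤ) (d : ι → ℕ)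
    (hd : ∀ i, 0 < d i) (h3 : ∑ i, k i * k i = 3) (h0 : ∑ i, (d i : ℤ) * k i = 0) {o : ι}
    (ho : d o = 1) (ho' : k o = 1) : ∃ i j, i ≠ o ∧ d j = d i + 1 ∧ k i = 1 ∧ k j = -1 ∧ ∀ l,
      k l = (if l = o then 1 else 0) + (if l = i then 1 else 0) - (if l = j then 1 else 0) := by
  rw [← Finset.add_sum_erase _ _ (Finset.mem_univ o)] at h3 h0
  simp only [ho, ho'] at h3 h0
  set s := Finset.univ.erase o with hs
  have hb : ∀ i ∈ s, -1 ≤ k i ∧ k i ≤ 1 := fun i hi => by
    have := Finset.single_le_sum (f := fun i => k i * k i) (fun _ _ => mul_self_nonneg _) hi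
    constructor <;> nlinarith
  have h4 : ∑ i ∈ s, k i * k i = ((s.filter (fun i => k i ≠ 0)).card : ℤ) := by
    rw [Finset.card_filter]
    push_cast
    refine Finset.sum_congr rfl (fun i hi => ?_)
    obtain ⟨b1, b2⟩ := hb i hi
    generalize k i = a at *
    interval_cases a <;> simp
  obtain ⟨i, j, hij, h5⟩ := Finset.card_eq_two.mp (by omega :
    (s.filter (fun i => k i ≠ 0)).card = 2)
  have hi : i ∈ s.filter (fun i => k i ≠ 0) := by rw [h5]; simp
  have hj : j ∈ s.filter (fun i => k i ≠ 0) := by rw [h5]; simp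
  have hz : ∀ l, l ≠ o → l ≠ i → l ≠ j → k l = 0 := fun l a b c => by
    by_contra e
    have : l ∈ s.filter (fun i => k i ≠ 0) := by simp [hs, a, e]
    rw [h5] at this
    simp [b, c] at this
  rw [Finset.mem_filter] at hi hj
  rw [← Finset.sum_filter_of_ne (p := fun i => k i ≠ 0) (fun i _ h e => h (by simp [e])), h5,
    Finset.sum_pair hij] at h0
  obtain ⟨b1, b2⟩ := hb i hi.1
  obtain ⟨b3, b4⟩ := hb j hj.1
  have d1 := hd i
  have d2 := hd j
  have io := Finset.ne_of_mem_erase hi.1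
  have jo := Finset.ne_of_mem_erase hj.1
  have key : ∀ i j, i ≠ j → i ≠ o → j ≠ o → k i = 1 → k j = -1 →
      (∀ l, l ≠ o → l ≠ i → l ≠ j → k l = 0) → ∀ l,
      k l = (if l = o then 1 else 0) + (if l = i then 1 else 0) - (if l = j then 1 else 0) := by
    intro i j a b c e f g l
    by_cases h1 : l = o
    · simp [h1, ho', b.symm, c.symm]
    by_cases h2 : l = i
    · simp [h2, e, a, b]
    by_cases h3 : l = j
    · simp [h3, f, a.symm, c]
    simp [h1, h2, h3, g l h1 h2 h3]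
  have hc : (k i = 1 ∧ k j = -1 ∧ d j = d i + 1) ∨ (k i = -1 ∧ k j = 1 ∧ d i = d j + 1) := by
    have := hi.2
    have := hj.2
    generalize k i = a at *
    generalize k j = b at *
    interval_cases a <;> interval_cases b <;> omega
  rcases hc with ⟨c1, c2, c3⟩ | ⟨c1, c2, c3⟩
  · exact ⟨i, j, io, c3, c1, c2, key i j hij io jo c1 c2 hz⟩
  · exact ⟨j, i, jo, c3, c2, c1, key j i hij.symm jo io c2 c1 fun l a b c => hz l a c b⟩

open Classical in
theorem sum_V {χ : G → ℂ} (hχ : IsIrrCharacter G χ) {x : G} (hx : x ^ 3 = 1)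
    (h : HasNPC 3 𝐂[x]) {V : Subgroup G} (e : h.compl = V) [Fintype V] :
    ∑ v : V, χ (x * v) = Nat.card V * if Block.InB0 3 χ then χ x else 0 := by
  subst e
  rw [Block.sum_compl_eq (n := 1) hχ (by simpa using hx) h]
  split_ifs <;> simp

theorem char_three {χ : G → ℂ} (hχ : IsCharacter G χ) {x : G} (h : orderOf x = 3)
    (hc : IsConj x x⁻¹) : ∃ m m' : ℕ, χ 1 = (m + 2 * m' : ℕ) ∧ χ x = ((m : ℤ) - m' : ℤ) := by
  obtain ⟨m, hm⟩ := char_param_mult hχ (fun v : ZMod 3 => x ^ v.val)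
    (fun u v => pow_val_add (cube_of h) u v) (fun _ => 1) (by simp)
  obtain ⟨m', hm'⟩ := char_param_mult hχ (fun v : ZMod 3 => x ^ v.val)
    (fun u v => pow_val_add (cube_of h) u v) omz omz_add
  have h2 : x ^ (2 : ZMod 3).val = x⁻¹ := by rw [← sq_of h, ← pow_two]; rfl
  simp only [sum_zmod3, ZMod.val_zero, ZMod.val_one, pow_zero, pow_one, h2, omz_zero, omz_one,
    omz_two, ← classFun_of_isConj (char_isClassFunction hχ) hc, ZMod.card] at hm hm'
  refine ⟨m, m', ?_, ?_⟩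
  · push_cast at hm hm' ⊢; linear_combination hm / 3 + 2 * hm' / 3
  · push_cast at hm hm' ⊢; linear_combination hm / 3 - hm' / 3

/-- The principal `3`-block consists of `1`, `χ`, `ψ`. -/
structure BD (x : G) (V : Subgroup G) [Fintype V] (χ ψ : G → ℂ) (d : ℕ) : Prop where
  iχ : IsIrrCharacter G χ
  iψ : IsIrrCharacter G ψ
  ne : χ ≠ 1
  dχ : χ 1 = d
  dψ : ψ 1 = (d + 1 : ℕ)
  xχ : χ x = 1
  xψ : ψ x = -1
  sum : ∀ F : (G → ℂ) → ℂ, ∑ φ : IrrCharacter G, F φ * ∑ v : V, φ.1 (x * v) =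
    Nat.card V * (F 1 + F χ - F ψ)
  real : ∀ φ : IrrCharacter G, conj (∑ v : V, φ.1 (x * v)) = ∑ v : V, φ.1 (x * v)

namespace TH

variable {V : Subgroup G} {x : G} (h : TH ⊤ x V)
include h

theorem npc : HasNPC 3 𝐂[x] :=
  hasNPC_of_forall_mem (cop3 h.ndvd) fun a ha h3 => h.mem_V (mem_top a) (mem_cent1.1 ha).symm
    ((Nat.Prime.coprime_iff_not_dvd Nat.prime_three).1 h3.symm)

theorem compl_eq : h.npc.compl = V := le_antisymm
  (fun a ha => h.mem_V (mem_top a) (mem_cent1.1 ha.1).symm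
    ((Nat.Prime.coprime_iff_not_dvd Nat.prime_three).1 ha.2.symm))
  fun _ hv => ⟨h.le_cent hv, (cop3 h.ndvd).coprime_dvd_left (orderOf_dvd_card_of_mem hv)⟩

theorem real (hs : IsSimpleGroup G) (hn : ¬ IsMulCommutative G) : ∃ g, g * x * g⁻¹ = x⁻¹ := by
  by_contra hN
  push Not at hN
  have key : ∀ g, g * x * g⁻¹ ∈ zpowers x → g * x * g⁻¹ = x := fun g hg => by
    rcases mem_zpowers_three h.ord hg with e | e | e
    · exact absurd (conj_eq_one_iff.1 e) (ne_one_of h.ord)
    · exact e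
    · exact absurd e (hN g)
  have h1 : HasNPC 3 (⊤ : Subgroup G) := hasNPC_of_fusion h.sylow fun y hy g _ hg =>
    ⟨1, one_mem _, by
      rcases mem_zpowers_three h.ord hy with rfl | rfl | rfl
      · simp
      · simp [key g hg]
      · rw [← conj_inv] at hg ⊢
        simp [key g (inv_mem_iff.1 hg)]⟩
  have hN : h1.compl.Normal :=
    normal_of_forall_mem_normalizer fun g => h1.le_normalizer (mem_top g)
  rcases hN.eq_bot_or_eq_top with e | e
  · have h2 := h1.sup_compl h.sylow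
    refine hn ⟨⟨fun a b => ?_⟩⟩
    have h3 : zpowers x = ⊤ := by simpa [e] using h2
    obtain ⟨i, rfl⟩ := h3.ge (mem_top a)
    obtain ⟨j, rfl⟩ := h3.ge (mem_top b)
    exact (Commute.zpow_zpow_self x i j).eq
  · have := (e.ge (mem_top x)).2
    rw [h.ord] at this
    simp at this

theorem pow4 {v : G} (hv : v ∈ V) : (x * v) ^ 4 = x := by
  rw [Commute.mul_pow (h.comm v hv).symm, pow_succ x, cube_of h.ord,
    show 4 = 2 * 2 from rfl, pow_mul, pow_two v, h.sq v hv]
  simp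

theorem comm_cent {v g : G} (hv : v ∈ V) (hg : g * x = x * g) : g * v = v * g := by
  have : g ∈ V ⊔ zpowers x := h.cent_eq.le ⟨mem_top _, mem_cent1.2 hg.symm⟩
  exact (mem_cent1.1 ((sup_le (fun w hw => mem_cent1.2 (comm_of_sq h.sq hv hw))
    (zpowers_le.2 (mem_cent1.2 (h.comm v hv))) : _ ≤ 𝐂[v]) this)).symm

theorem cent_mul {v : G} (hv : v ∈ V) : 𝐂[x * v] = 𝐂[x] := by
  ext g
  rw [mem_cent1, mem_cent1]
  refine ⟨fun e => ?_, fun e => ?_⟩
  · have := (Commute.pow_left e 4).eq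
    rwa [h.pow4 hv] at this
  · rw [mul_assoc, ← h.comm_cent hv e.symm, ← mul_assoc, e, mul_assoc]

theorem cc_mul {v : G} (hv : v ∈ V) : cc (x * v) = 3 * Nat.card V := by
  rw [cc, h.cent_mul hv, ← h.card_cent, top_inf_eq]

theorem eq_of_conj_mul {v w : G} (hv : v ∈ V) (hw : w ∈ V) (e : IsConj (x * v) (x * w)) :
    v = w := by
  obtain ⟨g, e⟩ := isConj_iff.1 e
  have h1 : g * x * g⁻¹ = x := by
    have := congrArg (· ^ 4) e
    simpa only [conj_pow, h.pow4 hv, h.pow4 hw] using this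
  rw [mul_inv_eq_iff_eq_mul] at h1
  rw [← mul_assoc, h1, mul_assoc x, h.comm_cent hv h1] at e
  simpa [mul_assoc] using e

theorem exists_bd (hs : IsSimpleGroup G) (hn : ¬ IsMulCommutative G) [Fintype V] :
    ∃ χ ψ d, BD x V χ ψ d := by
  classical
  have hc : IsConj x x⁻¹ := isConj_iff.2 (h.real hs hn)
  have hm : (Nat.card V : ℂ) ≠ 0 := card_ne_zero' V
  have hv : ∀ φ : IrrCharacter G, ∃ (d : ℕ) (k : ℤ), φ.1 1 = d ∧
      ∑ v : V, φ.1 (x * v) = Nat.card V * k ∧ (k ≠ 0 → φ.1 x = k) := fun φ => by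
    obtain ⟨m, m', e1, e2⟩ := char_three (irr_isCharacter φ.2) h.ord hc
    rw [sum_V φ.2 (cube_of h.ord) h.npc h.compl_eq]
    split_ifs
    · exact ⟨_, _, e1, by rw [e2], fun _ => e2⟩
    · exact ⟨_, 0, e1, by simp, by simp⟩
  choose d k hd hk hx using hv
  have hr : ∀ φ : IrrCharacter G, conj (∑ v : V, φ.1 (x * v)) = ∑ v : V, φ.1 (x * v) :=
    fun φ => by rw [hk]; simp
  have h3 : ∑ φ, k φ * k φ = 3 := by
    have h1 : ∑ φ : IrrCharacter G, (∑ v : V, φ.1 (x * v)) * conj (∑ v : V, φ.1 (x * v)) =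
        Nat.card V * (3 * Nat.card V) := by
      simp only [map_sum, Finset.sum_mul_sum]
      rw [Finset.sum_comm]
      refine (Finset.sum_congr rfl (g := fun _ => 3 * (Nat.card V : ℂ)) fun v _ => ?_).trans
        (by simp)
      rw [Finset.sum_comm]
      simp only [sum_irr_mul_conj]
      rw [Finset.sum_eq_single v, if_pos (IsConj.refl _)]
      · exact_mod_cast h.cc_mul v.2
      · exact fun w _ hw => if_neg fun e => hw (Subtype.ext (h.eq_of_conj_mul w.2 v.2 e))
      · simp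
    simp only [hr] at h1
    simp only [hk] at h1
    have h2 : (Nat.card V : ℂ) * Nat.card V * ∑ φ, (k φ : ℂ) * k φ =
        Nat.card V * Nat.card V * 3 := by
      rw [Finset.mul_sum, mul_assoc _ _ 3, mul_comm _ 3, ← h1]
      exact Finset.sum_congr rfl fun _ _ => by ring
    exact_mod_cast mul_left_cancel₀ (mul_ne_zero hm hm) h2
  have h0 : ∑ φ, (d φ : ℤ) * k φ = 0 := by
    have h1 : ∑ φ : IrrCharacter G, φ.1 1 * ∑ v : V, φ.1 (x * v) = 0 := by
      simp only [Finset.mul_sum]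
      rw [Finset.sum_comm]
      refine Finset.sum_eq_zero fun v _ => sum_degree_mul fun e => ne_one_of h.ord ?_
      rw [← h.pow4 v.2, e, one_pow]
    simp only [hd, hk] at h1
    have h2 : (Nat.card V : ℂ) * ∑ φ, (d φ : ℂ) * k φ = 0 := by
      rw [Finset.mul_sum, ← h1]
      exact Finset.sum_congr rfl fun _ _ => by ring
    exact_mod_cast (mul_eq_zero.1 h2).resolve_left hm
  obtain ⟨i, j, io, e1, e2, e3, e4⟩ := int_three k d (fun φ => Nat.pos_of_ne_zero fun e =>
    irr_one_ne_zero φ.2 (by rw [hd, e, Nat.cast_zero])) h3 h0 (o := ⟨1, irr_one⟩)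
    (by exact_mod_cast (show (d ⟨1, irr_one⟩ : ℂ) = 1 from (hd ⟨1, irr_one⟩).symm))
    (by
      have := hk ⟨1, irr_one⟩
      simp only [Pi.one_apply, Finset.sum_const, Finset.card_univ, nsmul_eq_mul,
        ← Nat.card_eq_fintype_card] at this
      exact_mod_cast (mul_left_cancel₀ hm this).symm)
  refine ⟨i.1, j.1, d i, i.2, j.2, fun e => io (Subtype.ext e), hd i, by rw [hd, e1],
    by rw [hx i (by omega), e2]; simp, by rw [hx j (by omega), e3]; simp, fun F => ?_, hr⟩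
  simp only [hk, e4]
  push_cast
  simp [mul_add, mul_sub, Finset.sum_add_distrib, Finset.sum_sub_distrib, mul_comm]

end TH

end Cfsg.Agent.Z6
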