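import Cfsg.Agent.Z6.CharA

/-!
# Class multiplication constants and fusion of involutions
-/

set_option autoImplicit false
set_option linter.unusedSectionVars false

namespace Cfsg.Agent.Z6

open Subgroup Cfsg.Agent.Local Cfsg.Agent.FT Cfsg.Agent.Char
open scoped Pointwise ComplexConjugate

universe u

variable {G : Type u} [Group G] [Finite G]

theorem char_s3 {φ : G → ℂ} (hφ : IsCharacter G φ) {x τ : G} (h3 : orderOf x = 3)
    (h2 : τ * τ = 1) (e : τ * x * τ⁻¹ = x⁻¹) {ε : ℂ} (hε : ε * ε = 1) :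
    ∃ n : ℕ, φ 1 + 2 * φ x + 3 * (ε * φ τ) = 6 * n := by
  have hc := char_isClassFunction hφ
  have e1 : τ * x = x⁻¹ * τ := mul_inv_eq_iff_eq_mul.1 e
  have e2 : τ * x⁻¹ = x * τ := mul_inv_eq_iff_eq_mul.1 (by rw [← conj_inv, e, inv_inv])
  have e3 : x⁻¹ * x⁻¹ = x := by rw [← mul_inv_rev, sq_of h3, inv_inv]
  have c1 : φ x⁻¹ = φ x := by rw [← e, hc]
  have c2 : φ (x * τ) = φ τ := by
    rw [← hc τ x⁻¹, inv_inv, mul_assoc, e1, ← mul_assoc, e3]
  have c3 : φ (x⁻¹ * τ) = φ τ := by rw [← hc τ x, mul_assoc, e2, ← mul_assoc, sq_of h3]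
  obtain ⟨n, ρ, rfl⟩ := hφ
  set S := 1 + ρ x + ρ x⁻¹ with hS
  have h1 : S * S = (3 : ℂ) • S := by
    simp only [hS, mul_add, add_mul, ← map_mul, sq_of h3, e3, mul_inv_cancel, inv_mul_cancel,
      map_one, one_mul, mul_one]
    module
  have h4 : ρ τ * S = S * ρ τ := by
    simp only [hS, mul_add, add_mul, ← map_mul, e1, e2, one_mul, mul_one]
    abel
  have h5 : ρ τ * ρ τ = 1 := by rw [← map_mul, h2, map_one]
  have h6 : (1 + ε • ρ τ) * (1 + ε • ρ τ) = (2 : ℂ) • (1 + ε • ρ τ) := by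
    simp only [mul_add, add_mul, one_mul, mul_one, smul_mul_smul_comm, hε, h5, one_smul]
    module
  have h7 : (1 + ε • ρ τ) * S = S * (1 + ε • ρ τ) := by
    simp only [mul_add, add_mul, one_mul, mul_one, smul_mul_assoc, mul_smul_comm, h4]
  have hE : IsIdempotentElem ((6 : ℂ)⁻¹ • (S * (1 + ε • ρ τ))) := by
    unfold IsIdempotentElem
    rw [smul_mul_smul_comm, mul_assoc S, ← mul_assoc _ S, h7, mul_assoc S, h6, ← mul_assoc, h1,
      smul_mul_smul_comm, smul_smul]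
    norm_num
  have h := (LinearMap.IsIdempotentElem.isProj_range _ hE).trace
  obtain ⟨m, hm⟩ : ∃ m : ℕ, _ = (m : ℂ) := ⟨_, h⟩
  refine ⟨m, ?_⟩
  simp only [Representation.character, map_one] at c1 c2 c3 ⊢
  simp only [hS, mul_add, add_mul, one_mul, mul_one, mul_smul_comm, ← map_mul, map_smul, map_add,
    smul_eq_mul, c1, c2, c3] at hm
  linear_combination 6 * hm

theorem conj_tw {t y w : G} (h3 : y ^ 3 = 1) (ht : t * y * t⁻¹ = y⁻¹) (hw : w * y = y * w) :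
    IsConj (t * w) (t * (y * w)) := by
  refine isConj_iff.2 ⟨y, ?_⟩
  have e1 : y * t = t * y⁻¹ := by
    have : t * y⁻¹ * t⁻¹ = y := by rw [← conj_inv, ht, inv_inv]
    rw [← mul_inv_eq_iff_eq_mul.1 this]
  have e2 : y⁻¹ * y⁻¹ = y := by
    rw [← mul_inv_rev, inv_eq_iff_mul_eq_one, ← pow_three', h3]
  have e3 : w * y⁻¹ = y⁻¹ * w := (Commute.inv_right hw).eq
  rw [← mul_assoc, e1, mul_assoc, mul_assoc, e3, ← mul_assoc y⁻¹, e2]

theorem zp_two {z a : G} (hz : z * z = 1) (ha : a ∈ zpowers z) : a = 1 ∨ a = z := by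
  obtain ⟨n, rfl⟩ := mem_powers_iff_mem_zpowers.2 ha
  simp only
  rw [pow_eq_pow_mod n (show z ^ 2 = 1 by rw [pow_two, hz])]
  rcases Nat.mod_two_eq_zero_or_one n with e | e <;> simp [e]

namespace TH

variable {V : Subgroup G} {x t : G} (h : TH ⊤ x V)
include h

theorem not_conj {v g : G} (hv : v ∈ V) (hg : ¬ 3 ∣ orderOf g) : ¬ IsConj g (x * v) := fun e => by
  obtain ⟨c, e⟩ := isConj_iff.1 e
  refine hg ?_
  rw [← Local.orderOf_conj' c, e, ← h.ord]
  conv_lhs => rw [← h.pow4 hv]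
  exact orderOf_pow_dvd 4

theorem inv_of_sq {u v : G} (hv : v ∈ V) (hu : u * u = 1)
    (e : u * (x * v) * (u * (x * v)) = 1) : u * x * u⁻¹ = x⁻¹ := by
  have h1 : u * (x * v) * u⁻¹ = (x * v)⁻¹ := by
    rw [inv_self hu, eq_inv_iff_mul_eq_one, mul_assoc, e]
  have := congrArg (· ^ 4) h1
  simpa only [conj_pow, inv_pow, h.pow4 hv] using this

theorem dec {u : G} (ht : t * x * t⁻¹ = x⁻¹) (hu : u * x * u⁻¹ = x⁻¹) :
    ∃ y ∈ zpowers x, ∃ w ∈ V, u = t * (y * w) := by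
  have h1 : t⁻¹ * u * x = x * (t⁻¹ * u) := by
    calc _ = t⁻¹ * (u * x * u⁻¹) * u := by group
      _ = t⁻¹ * (t * x * t⁻¹) * u := by rw [hu, ht]
      _ = _ := by group
  rcases h.cent _ (mem_top _) h1 with e | e | e
  · exact ⟨1, one_mem _, _, e, by group⟩
  · exact ⟨x⁻¹, inv_mem (mem_zpowers x), _, e, by rw [h1]; group⟩
  · exact ⟨x, mem_zpowers x, _, e, by rw [← mul_assoc x, ← h1]; group⟩

theorem conj_tw' (ht : t * x * t⁻¹ = x⁻¹) {y w : G} (hy : y ∈ zpowers x) (hw : w ∈ V) :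
    IsConj (t * w) (t * (y * w)) := by
  obtain ⟨n, rfl⟩ := hy
  refine conj_tw ?_ ?_ (Commute.zpow_right (h.comm w hw) n).eq
  · rw [← zpow_natCast, ← zpow_mul, mul_comm, zpow_mul, zpow_natCast, cube_of h.ord, one_zpow]
  · rw [← conj_zpow, ht, inv_zpow]

theorem eq_of_conj' (ht : t * x * t⁻¹ = x⁻¹) {v w : G} (hv : v ∈ V) (hw : w ∈ V)
    (tv : t * v = v * t) (e : IsConj v w) : v = w := by
  obtain ⟨g, rfl⟩ := isConj_iff.1 e
  have h1 : g * x * g⁻¹ ∈ 𝐂[g * v * g⁻¹] := by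
    rw [cent_conj]; exact conj_mem_conj_smul g (mem_cent1.2 (h.comm v hv))
  obtain ⟨n, hn, e⟩ := (h.sub le_top (mem_cent1.2 (h.comm _ hw))).exists_conj h1
    (by rw [Local.orderOf_conj', h.ord])
  have key : ∀ k : G, k * x * k⁻¹ = x → k * v * k⁻¹ = v := fun k hk => by
    rw [h.comm_cent hv (mul_inv_eq_iff_eq_mul.1 hk), mul_inv_cancel_right]
  have hn' : n⁻¹ * (g * v * g⁻¹) * n = g * v * g⁻¹ := by
    rw [mul_assoc, mem_cent1.1 hn, inv_mul_cancel_left]
  rw [← hn']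
  rcases e with e | e
  · rw [eq_comm]
    calc _ = n⁻¹ * g * v * (n⁻¹ * g)⁻¹ := by group
      _ = v := key _ (by calc _ = n⁻¹ * (g * x * g⁻¹) * n := by group
        _ = x := by rw [← e]; group)
  · have := key (t * n⁻¹ * g) (by
      calc _ = t * (n⁻¹ * (g * x * g⁻¹)⁻¹ * n)⁻¹ * t⁻¹ := by group
        _ = (t * x * t⁻¹)⁻¹ := by rw [← e]; group
        _ = x := by rw [ht, inv_inv])
    calc v = t⁻¹ * (t * v) := by group
      _ = t⁻¹ * (t * n⁻¹ * g * v * (t * n⁻¹ * g)⁻¹) * t := by rw [this, tv]; group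
      _ = _ := by group

theorem exists_two (hs : IsSimpleGroup G) (hn : ¬ IsMulCommutative G) :
    ∃ a : G, orderOf a = 2 := by
  obtain ⟨g, e⟩ := h.real hs hn
  refine ⟨_, orderOf_pow_orderOf_div (x := g) (orderOf_pos g).ne' ?_⟩
  by_contra h2
  obtain ⟨m, hm⟩ := exists_pow_eq_self_of_coprime
    ((Nat.Prime.coprime_iff_not_dvd Nat.prime_two).2 h2)
  have h1 : Commute (g ^ 2) x := by
    refine mul_inv_eq_iff_eq_mul.1 ?_
    calc _ = g * (g * x * g⁻¹) * g⁻¹ := by rw [pow_two]; group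
      _ = x := by rw [e, ← conj_inv, e, inv_inv]
  have h3 := (h1.pow_left m).eq
  rw [hm] at h3
  rw [h3, mul_inv_cancel_right, ← sq_of h.ord, left_eq_mul] at e
  exact ne_one_of h.ord e

theorem exists_fus (hs : IsSimpleGroup G) (hn : ¬ IsMulCommutative G) (hV : Nat.card V ≤ 4)
    (hi : ∀ a : G, orderOf a = 2 → ∃ u, IsConj a u ∧ u * x * u⁻¹ = x⁻¹) : ∃ t, Fus x V t := by
  obtain ⟨a, ha⟩ := h.exists_two hs hn
  obtain ⟨t, hat, ht⟩ := hi a ha
  have t2 : t * t = 1 := sq_of_two (isConj_orderOf hat ▸ ha)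
  have cls : ∀ u : G, orderOf u = 2 → ∃ v ∈ V, IsConj (t * v) u := fun u hu => by
    obtain ⟨u', e1, e2⟩ := hi u hu
    obtain ⟨y, hy, w, hw, rfl⟩ := h.dec ht e2
    exact ⟨w, hw, (h.conj_tw' ht hy hw).trans e1.symm⟩
  refine ⟨t, hs, hn, h, t2, ht, fun v hv => ?_, cls⟩
  by_contra hne
  have hv2 := h.conj_V (mem_top t) ht hv
  have v1 : v ≠ 1 := by rintro rfl; simp at hne
  set z := v * (t * v * t⁻¹) with hz
  have zV : z ∈ V := mul_mem hv hv2
  have z1 : z ≠ 1 := fun e => hne (by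
    rw [hz, mul_eq_one_iff_inv_eq, inv_self (h.sq v hv), eq_comm, mul_inv_eq_iff_eq_mul] at e
    exact e)
  have tz : t * z = z * t := by
    calc _ = t * ((t * v * t⁻¹) * v) := by rw [hz, comm_of_sq h.sq hv hv2]
      _ = (t * t) * v * t⁻¹ * v := by group
      _ = _ := by rw [t2, hz, inv_self t2, one_mul, mul_assoc v, mul_assoc v, mul_assoc (t * v), t2,
        mul_one]
  have h1 : zpowers z ≤ V ⊓ 𝐂[t] := zpowers_le.2 ⟨zV, mem_cent1.2 tz⟩
  have h2 : Nat.card (zpowers z) = 2 := by rw [Nat.card_zpowers, ord_two (h.sq z zV) z1]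
  have h3 : Nat.card ↥(V ⊓ 𝐂[t]) < Nat.card V := not_le.1 fun e =>
    hne (mem_cent1.1 ((eq_of_le_of_card_ge inf_le_left e).ge hv).2)
  have h4 := h2 ▸ card_dvd_of_le h1
  have h5 : 0 < Nat.card ↥(V ⊓ 𝐂[t]) := Nat.card_pos
  have h6 : zpowers z = V ⊓ 𝐂[t] := eq_of_le_of_card_ge h1 (by omega)
  have h7 : ∀ u : G, orderOf u = 2 → IsConj t u := fun u hu => by
    obtain ⟨w, hw, e⟩ := cls u hu
    have e1 : t * w * (t * w) = 1 := sq_of_two (isConj_orderOf e.symm ▸ hu)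
    have e2 : t * w = w * t := by
      rw [← inv_self e1, mul_inv_rev, inv_self t2, inv_self (h.sq w hw)]
    rcases zp_two (h.sq z zV) (h6.ge ⟨hw, mem_cent1.2 e2⟩) with rfl | rfl
    · simpa using e
    · refine IsConj.trans (isConj_iff.2 ⟨v, ?_⟩) e
      rw [hz, comm_of_sq h.sq hv hv2, inv_self (h.sq v hv), inv_self t2, ← mul_assoc,
        ← mul_assoc, ← mul_assoc, t2, one_mul]
  have h8 := h.eq_of_conj' ht zV hv tz ((h7 z (ord_two (h.sq z zV) z1)).symm.trans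
    (h7 v (ord_two (h.sq v hv) v1)))
  exact hne (h8 ▸ tz)

theorem orbit_bound {w g v : G} (hv : v ∈ V) (h3 : ¬ 3 ∣ cc g)
    (hne : Nat.card {u // IsConj w u ∧ IsConj (x * v) (u * g)} ≠ 0) :
    cc g ≤ Nat.card V * Nat.card {u // IsConj w u ∧ IsConj (x * v) (u * g)} := by
  classical
  have := Fintype.ofFinite G
  obtain ⟨⟨u, hu1, hu2⟩⟩ := (Nat.card_ne_zero.1 hne).1
  have h1 : Nat.card ↥(𝐂[g] ⊓ 𝐂[u]) ≤ Nat.card V := by
    have e1 : Nat.card ↥(𝐂[g] ⊓ 𝐂[u]) ∣ cc (u * g) := card_dvd_of_le fun c hc =>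
      mem_cent1.2 (Commute.mul_left (mem_cent1.1 hc.2) (mem_cent1.1 hc.1)).eq
    rw [← cc_conj hu2, h.cc_mul hv] at e1
    exact Nat.le_of_dvd Nat.card_pos ((cop3 fun e => h3 (e.trans
      (card_dvd_of_le inf_le_left))).dvd_of_dvd_mul_left e1)
  rw [Nat.subtype_card (p := fun u => IsConj w u ∧ IsConj (x * v) (u * g))
    (Finset.univ.filter fun u => IsConj w u ∧ IsConj (x * v) (u * g)) (by simp), show cc g = _ from Nat.subtype_card (Finset.univ.filter fun c => c ∈ 𝐂[g])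
    (by simp)]
  refine Finset.card_le_mul_card_image_of_maps_to (f := fun c => c * u * c⁻¹) (fun c hc => ?_) _
    fun b _ => le_trans ?_ h1
  · simp only [Finset.mem_filter, Finset.mem_univ, true_and] at hc ⊢
    refine ⟨hu1.trans (isConj_iff.2 ⟨c, rfl⟩), hu2.trans (isConj_iff.2 ⟨c, ?_⟩)⟩
    rw [mul_assoc (c * u), ← (Commute.inv_right (mem_cent1.1 hc)).eq]
    group
  · rw [show Nat.card ↥(𝐂[g] ⊓ 𝐂[u]) = _ from Nat.subtype_card
      (Finset.univ.filter fun c => c ∈ 𝐂[g] ⊓ 𝐂[u]) (by simp)]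
    rcases (Finset.filter (fun c => c * u * c⁻¹ = b)
      (Finset.univ.filter fun c => c ∈ 𝐂[g])).eq_empty_or_nonempty with e | ⟨c0, e⟩
    · simp [e]
    refine Finset.card_le_card_of_injOn (fun c => c0⁻¹ * c) (fun c hc => ?_)
      fun _ _ _ _ e => mul_left_cancel e
    simp only [Finset.coe_filter, Finset.mem_filter, Finset.mem_univ, true_and,
      Set.mem_ofPred_eq] at e hc ⊢
    refine mem_inf.2 ⟨mul_mem (inv_mem e.1) hc.1, mem_cent1.2 ?_⟩
    calc _ = c0⁻¹ * (c0 * u * c0⁻¹) * c := by group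
      _ = c0⁻¹ * (c * u * c⁻¹) * c := by rw [e.2, hc.2]
      _ = _ := by group

end TH

theorem nn_eq [DecidableRel (IsConj : G → G → Prop)] (t : G) (V : Subgroup G) [Fintype V] (a : G) :
    nn t V a = ∑ w : V, if IsConj a (t * w) then 1 else 0 := by
  rw [← Finset.card_filter, nn, ← Set.ncard_coe_finset,
    ← Set.ncard_image_of_injective _ Subtype.val_injective]
  congr 1
  ext v
  simp only [Set.mem_ofPred_eq, Finset.coe_filter, Finset.mem_univ, true_and, Set.mem_image]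
  exact ⟨fun e => ⟨⟨v, e.1⟩, e.2.symm, rfl⟩, by rintro ⟨w, e, rfl⟩; exact ⟨w.2, e.symm⟩⟩

theorem Fus.count {x t : G} {V : Subgroup G} (h : Fus x V t) [Fintype V] {a b : G}
    (ha : orderOf a = 2) (hb : orderOf b = 2) :
    ∑ v : V, Nat.card {u // IsConj a u ∧ IsConj b (u * (x * v))} =
      3 * (nn t V a * nn t V b) := by
  classical
  have := Fintype.ofFinite G
  have h1 : ∀ v : V, Nat.card {u // IsConj a u ∧ IsConj b (u * (x * v))} =
      ∑ p : zpowers x × V, (if IsConj a (t * p.2) then 1 else 0) *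
        if IsConj b (t * (p.2 * v : V)) then 1 else 0 := fun v => by
    rw [Nat.subtype_card (Finset.univ.filter fun u => IsConj a u ∧ IsConj b (u * (x * v)))
      (by simp), Finset.card_filter]
    refine (Fintype.sum_of_injective (fun p : zpowers x × V => t * (p.1 * p.2)) ?_ _ _ ?_ ?_).symm
    · intro p q e
      have e1 : (q.1 : G)⁻¹ * p.1 = q.2 * (p.2 : G)⁻¹ := by
        rw [inv_mul_eq_iff_eq_mul, ← mul_assoc, eq_mul_inv_iff_mul_eq]
        exact mul_left_cancel e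
      have e2 : (q.1 : G)⁻¹ * p.1 = 1 := eq_one_of_mem_of_coprime (cop_zp h.th.ord h.th.ndvd)
        (e1 ▸ mul_mem q.2.2 (inv_mem p.2.2)) (mul_mem (inv_mem q.1.2) p.1.2)
      rw [e2, eq_comm, mul_inv_eq_one] at e1
      exact Prod.ext (Subtype.ext (inv_mul_eq_one.1 e2).symm) (Subtype.ext e1.symm)
    · intro u hu
      refine if_neg fun e => hu ?_
      obtain ⟨y, hy, w, hw, rfl⟩ := h.th.dec h.inv (h.th.inv_of_sq v.2
        (sq_of_two (isConj_orderOf e.1 ▸ ha)) (sq_of_two (isConj_orderOf e.2 ▸ hb)))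
      exact ⟨(⟨y, hy⟩, ⟨w, hw⟩), rfl⟩
    · rintro ⟨y, w⟩
      have e1 := h.th.conj_tw' h.inv y.2 w.2
      have e2 := h.th.conj_tw' h.inv (mul_mem y.2 (mem_zpowers x)) (w * v).2
      have e3 : t * (y * x * (w * v : V)) = t * (y * w) * (x * v) := by
        rw [coe_mul, mul_assoc t, mul_assoc (y : G), mul_assoc (y : G), ← mul_assoc x,
          ← h.th.comm w w.2, mul_assoc (w : G)]
      rw [e3] at e2
      rw [ite_zero_mul_ite_zero, mul_one]
      exact if_congr (and_congr ⟨fun e => e.trans e1, fun e => e.trans e1.symm⟩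
        ⟨fun e => e.trans e2, fun e => e.trans e2.symm⟩) rfl rfl
  have h2 : ∀ w : V, ∑ v : V, (if IsConj b (t * (w * v : V)) then 1 else 0) = nn t V b :=
    fun w => by
      rw [nn_eq]
      exact Fintype.sum_equiv (Equiv.mulLeft w) _ _ fun _ => rfl
  simp only [h1]
  rw [Finset.sum_comm]
  simp only [← Finset.mul_sum, h2]
  rw [← Finset.sum_mul, Fintype.sum_prod_type]
  simp only [← nn_eq, Finset.sum_const, Finset.card_univ, ← Nat.card_eq_fintype_card,
    card_zp h.th.ord, smul_eq_mul, mul_assoc]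

end Cfsg.Agent.Z6
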