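import Cfsg.Agent.Z6.S3

/-!
# Interfaces: fusion data, character data, the path setting
-/

set_option autoImplicit false
set_option linter.unusedSectionVars false

namespace Cfsg.Agent.Z6

open Subgroup Cfsg.Agent.Local Cfsg.Agent.FT Cfsg.Agent.Char
open scoped Pointwise

universe u

variable {G : Type u} [Group G] [Finite G]

/-- the number of elements of the coset `t V` conjugate to `u` -/
noncomputable def nn (t : G) (V : Subgroup G) (u : G) : ℕ := {v | v ∈ V ∧ IsConj (t * v) u}.ncard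

/-- the order of the centraliser -/
noncomputable abbrev cc (u : G) : ℕ := Nat.card ↥(𝐂[u])

/-- the largest normal `3'`-subgroup of the centraliser -/
abbrev RR (u : G) : Subgroup G := core {3}ᶜ 𝐂[u]

/-- Fusion data: `N(⟨x⟩) = ⟨x, t⟩ × V` and every involution is conjugate into `t V`. -/
structure Fus (x : G) (V : Subgroup G) (t : G) : Prop where
  simple : IsSimpleGroup G
  nonab : ¬ IsMulCommutative G
  th : TH ⊤ x V
  t2 : t * t = 1
  inv : t * x * t⁻¹ = x⁻¹
  tV : ∀ v ∈ V, t * v = v * t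
  cls : ∀ u : G, orderOf u = 2 → ∃ v ∈ V, IsConj (t * v) u

/-- Character data: `d`, `d + 1` are the degrees of the nonprincipal characters `χ`, `ψ` of the
principal `3`-block and `δ u = d - χ u`. -/
structure CD (x : G) (V : Subgroup G) (t : G) (d ν : ℕ) (δ : G → ℕ) : Prop extends Fus x V t where
  ord : Nat.card V * Nat.card G = 3 * ν ^ 2 * (d * (d + 1))
  dvd : d * (d + 1) ∣ Nat.card G
  nc : ∀ u : G, orderOf u = 2 → nn t V u * cc u = ν * δ u
  lo : ∀ u : G, orderOf u = 2 → 2 * d + 4 ≤ 3 * δ u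
  hi : ∀ u : G, orderOf u = 2 → 3 * δ u ≤ 4 * d + 2
  four : ∀ u : G, orderOf u = 2 → 4 ∣ δ u
  col : ∀ u : G, orderOf u = 2 → 1 + ((d : ℤ) - δ u) ^ 2 + ((d : ℤ) - δ u + 1) ^ 2 ≤ cc u
  bound : ∀ g : G, (orderOf g).Prime → 7 ≤ orderOf g → ∀ w : G, orderOf w = 2 →
    6 * cc g ≤ 7 * d * ν * nn t V w
  side : ∀ p q : ℕ, p.Prime → q.Prime → 7 ≤ p → 7 ≤ q → p ∣ d → q ∣ d + 1 → ¬ p ∣ ν → ¬ q ∣ ν →
    ∀ g : G, p ∣ orderOf g → ¬ q ∣ orderOf g

/-- The path setting: the centralisers of the involutions of `V` are `2`-groups of order `r`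
extended by `S₃`. -/
structure PS (x : G) (V : Subgroup G) (t : G) (r : ℕ) : Prop extends Fus x V t where
  cardV : Nat.card V = 2 ∨ Nat.card V = 4
  s3 : ∀ v ∈ V, v ≠ 1 → S3 𝐂[v] (RR v) x t
  pg : ∀ v ∈ V, v ≠ 1 → IsPGroup 2 (RR v)
  card : ∀ v ∈ V, v ≠ 1 → Nat.card (RR v) = r
  sp : ∀ w : G, orderOf w = 2 → (∀ v ∈ V, ¬ IsConj v w) → 3 * r < cc w ∧ cc w < 12 * r

def CharHyp : Prop :=
  ∀ (G : Type u) [Group G] [Finite G] (x : G) (V : Subgroup G), IsSimpleGroup G →
    ¬ IsMulCommutative G → TH ⊤ x V → Nat.card V ≤ 4 → ∃ t d ν δ, CD x V t d ν δ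

def SixHyp : Prop :=
  ∀ (G : Type u) [Group G] [Finite G] (x : G) (V : Subgroup G), IsSimpleGroup G →
    ¬ IsMulCommutative G → TH ⊤ x V → Nat.card V = 2 → Nat.card G = 1092

def FourHyp : Prop :=
  ∀ (G : Type u) [Group G] [Finite G] (x : G) (V : Subgroup G), IsSimpleGroup G →
    ¬ IsMulCommutative G → TH ⊤ x V → Nat.card V ≠ 4

/-- What is known about an insoluble `M` with normal `2`-subgroup `K`. -/
def NSC (M K : Subgroup G) (x : G) : Prop :=
  (Nat.card M = 168 * Nat.card K ∨ Nat.card M = 336 * Nat.card K ∨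
    Nat.card M = 1344 * Nat.card K ∨ Nat.card M = 1092 * Nat.card K) ∧
  ∃ Q ≤ M, (Nat.card Q = 7 ∨ Nat.card Q = 13) ∧ x ∈ 𝐍(Q)

theorem ord_two {a : G} (h : a * a = 1) (h1 : a ≠ 1) : orderOf a = 2 :=
  orderOf_eq_prime (by rw [pow_two, h]) h1

theorem sq_of_two {a : G} (h : orderOf a = 2) : a * a = 1 := by
  rw [← pow_two, ← h, pow_orderOf_eq_one]

theorem ne_one_of_two {a : G} (h : orderOf a = 2) : a ≠ 1 := by rintro rfl; simp at h

theorem cent_conj (g a : G) : 𝐂[g * a * g⁻¹] = MulAut.conj g • 𝐂[a] := by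
  ext y
  rw [Local.mem_conj_smul_iff, mem_cent1, mem_cent1]
  constructor <;> intro e
  · calc _ = g⁻¹ * (g * a * g⁻¹ * y) * g := by group
      _ = _ := by rw [e]; group
  · calc _ = g * (a * (g⁻¹ * y * g)) * g⁻¹ := by group
      _ = _ := by rw [e]; group

theorem cc_conj {a b : G} (h : IsConj a b) : cc a = cc b := by
  obtain ⟨g, rfl⟩ := isConj_iff.1 h
  rw [cc, cc, cent_conj, card_conj_smul]

theorem RR_conj (g a : G) : RR (g * a * g⁻¹) = MulAut.conj g • RR a := by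
  rw [RR, cent_conj, core_conj]

theorem nn_conj (t : G) (V : Subgroup G) {a b : G} (h : IsConj a b) : nn t V a = nn t V b :=
  congrArg Set.ncard (Set.ext fun _ => and_congr_right fun _ =>
    ⟨fun e => e.trans h, fun e => e.trans h.symm⟩)

theorem nn_le (t : G) (V : Subgroup G) (a : G) : nn t V a ≤ Nat.card V :=
  Set.ncard_le_ncard (s := {v | v ∈ V ∧ IsConj (t * v) a}) (t := (V : Set G)) fun _ h => h.1

namespace Fus

variable {x t : G} {V : Subgroup G} (h : Fus x V t)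
include h

theorem ord2 {v : G} (hv : v ∈ V) (h1 : v ≠ 1) : orderOf v = 2 := ord_two (h.th.sq v hv) h1

theorem inv' {v : G} (hv : v ∈ V) : t * v * x * (t * v)⁻¹ = x⁻¹ := by
  rw [mul_assoc t, h.th.comm v hv, ← h.inv]; group

theorem sq' {v : G} (hv : v ∈ V) : t * v * (t * v) = 1 := by
  rw [mul_assoc, ← mul_assoc v, ← h.tV v hv, mul_assoc, h.th.sq v hv, mul_one, h.t2]

theorem ord' {v : G} (hv : v ∈ V) : orderOf (t * v) = 2 := ord_two (h.sq' hv) fun e => by
  have := h.inv' hv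
  rw [e, one_mul, inv_one, mul_one, ← sq_of h.th.ord, left_eq_mul] at this
  exact ne_one_of h.th.ord this

/-- `t` may be replaced by `t v`. -/
theorem shift {v : G} (hv : v ∈ V) : Fus x V (t * v) :=
  ⟨h.simple, h.nonab, h.th, h.sq' hv, h.inv' hv, fun w hw => by
    rw [mul_assoc, comm_of_sq h.th.sq hv hw, ← mul_assoc, h.tV w hw, mul_assoc],
    fun u hu => by
      obtain ⟨w, hw, e⟩ := h.cls u hu
      exact ⟨v * w, mul_mem hv hw, by rwa [mul_assoc, ← mul_assoc v, h.th.sq v hv, one_mul]⟩⟩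

theorem nn_pos {u : G} (hu : orderOf u = 2) : 0 < nn t V u :=
  (Set.ncard_pos (Set.toFinite _)).2 (h.cls u hu)

theorem V_le {v : G} (hv : v ∈ V) : V ≤ 𝐂[v] := fun _ hw =>
  mem_cent1.2 (comm_of_sq h.th.sq hv hw)

theorem x_mem {v : G} (hv : v ∈ V) : x ∈ 𝐂[v] := mem_cent1.2 (h.th.comm v hv)

theorem t_mem {v : G} (hv : v ∈ V) : t ∈ 𝐂[v] := mem_cent1.2 (h.tV v hv).symm

theorem thC {v : G} (hv : v ∈ V) : TH 𝐂[v] x V := h.th.sub' le_top (h.x_mem hv) (h.V_le hv)

/-- Elements of `V` are not fused. -/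
theorem eq_of_conj {v w : G} (hv : v ∈ V) (hw : w ∈ V) (e : IsConj v w) : v = w := by
  obtain ⟨g, rfl⟩ := isConj_iff.1 e
  have h1 : g * x * g⁻¹ ∈ 𝐂[g * v * g⁻¹] := by
    rw [cent_conj]; exact conj_mem_conj_smul g (h.x_mem hv)
  obtain ⟨n, hn, e⟩ := (h.thC hw).exists_conj h1 (by rw [Local.orderOf_conj', h.th.ord])
  have key : ∀ k : G, k * x * k⁻¹ = x → k * v * k⁻¹ = v := fun k hk => by
    have : k ∈ V ⊔ zpowers x := h.th.cent_eq.le ⟨mem_top _, mem_cent1.2 (by
      rw [← mul_inv_eq_iff_eq_mul.1 hk])⟩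
    rw [← mem_cent1.1 ((sup_le (h.V_le hv) (zpowers_le.2 (h.x_mem hv))) this), mul_inv_cancel_right]
  have hn' : n⁻¹ * (g * v * g⁻¹) * n = g * v * g⁻¹ := by
    rw [mul_assoc, mem_cent1.1 hn, inv_mul_cancel_left]
  rw [← hn']
  rcases e with e | e
  · rw [eq_comm]
    calc _ = n⁻¹ * g * v * (n⁻¹ * g)⁻¹ := by group
      _ = v := key _ (by calc _ = n⁻¹ * (g * x * g⁻¹) * n := by group
        _ = x := by rw [← e]; group)
  · have := key (t * n⁻¹ * g) (by
      calc _ = t * (n⁻¹ * (g * x * g⁻¹)⁻¹ * n)⁻¹ * t⁻¹ := by group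
        _ = (t * x * t⁻¹)⁻¹ := by rw [← e]; group
        _ = x := by rw [h.inv, inv_inv])
    calc v = t⁻¹ * (t * v) := by group
      _ = t⁻¹ * (t * n⁻¹ * g * v * (t * n⁻¹ * g)⁻¹) * t := by rw [this, h.tV v hv]; group
      _ = _ := by group

/-- An involution centralising an element of order three is conjugate into `V`. -/
theorem conj_V_of_dvd {w : G} (hw : orderOf w = 2) (h3 : 3 ∣ cc w) : ∃ v ∈ V, IsConj v w := by
  obtain ⟨y, hy, y3⟩ := exists_mem_orderOf_eq_of_dvd_card Nat.prime_three h3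
  obtain ⟨n, -, h1⟩ := h.th.of_ord (mem_top y) y3
  have := h1.mem_V (mem_top w) (mem_cent1.1 hy) (by rw [hw]; norm_num)
  exact ⟨_, mem_conj_smul_iff.1 this, isConj_iff.2 ⟨n, by group⟩⟩

theorem three_dvd {v w : G} (hv : v ∈ V) (e : IsConj v w) : 3 ∣ cc w :=
  cc_conj e ▸ h.th.ord ▸ orderOf_dvd_card_of_mem (h.x_mem hv)

/-- Pairwise non-conjugate involutions share the coset `t V`. -/
theorem sum_nn_le (s : Finset G) (hs : ∀ a ∈ s, ∀ b ∈ s, IsConj a b → a = b) :
    ∑ a ∈ s, nn t V a ≤ Nat.card V := by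
  classical
  have := Fintype.ofFinite G
  simp only [nn, Set.ncard_eq_toFinset_card']
  rw [← Finset.card_biUnion fun a ha b hb hab => Set.disjoint_toFinset.2 (Set.disjoint_left.2
    fun v h1 h2 => hab (hs a ha b hb (h1.2.symm.trans h2.2)))]
  refine le_of_le_of_eq (Finset.card_le_card fun v hv => ?_)
    (Nat.card_eq_card_toFinset (V : Set G)).symm
  obtain ⟨a, -, h1⟩ := Finset.mem_biUnion.1 hv
  exact Set.mem_toFinset.2 (Set.mem_toFinset.1 h1).1

/-- The involutions of `V` together with further non-conjugate involutions. -/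
theorem sum_nn_le' (s : Finset G) (hs : ∀ a ∈ s, ∀ b ∈ s, IsConj a b → a = b)
    (hs' : ∀ a ∈ s, ∀ v ∈ V, ¬ IsConj v a) {u : G} (hu : u ∈ V) (h1 : u ≠ 1) :
    ∑ a ∈ s, nn t V a + nn t V u ≤ 2 := by
  classical
  have := Fintype.ofFinite G
  set s0 := ((V : Set G).toFinset.erase 1).erase u
  have m0 : ∀ a ∈ s0, a ∈ V ∧ a ≠ 1 := fun a ha => by
    simp only [s0, Finset.mem_erase, Set.mem_toFinset] at ha
    exact ⟨ha.2.2, ha.2.1⟩
  have c0 : s0.card + 2 = Nat.card V := by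
    rw [Finset.card_erase_of_mem (by simpa [h1] using hu),
      Finset.card_erase_of_mem (by simpa using one_mem V), ← Nat.card_eq_card_toFinset]
    have : 1 < Nat.card V := (one_lt_card_iff_ne_bot V).2 fun e => h1 (mem_bot.1 (e ▸ hu))
    change Nat.card V - 1 - 1 + 2 = _
    omega
  have u0 : u ∉ s0 := Finset.notMem_erase _ _
  have m1 : ∀ a ∈ insert u s0, a ∈ V := fun a ha => by
    rcases Finset.mem_insert.1 ha with rfl | ha
    exacts [hu, (m0 a ha).1]
  have h2 := h.sum_nn_le (s ∪ insert u s0) fun a ha b hb e => by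
    rcases Finset.mem_union.1 ha with ha | ha <;> rcases Finset.mem_union.1 hb with hb | hb
    · exact hs a ha b hb e
    · exact absurd e.symm (hs' a ha b (m1 b hb))
    · exact absurd e (hs' b hb a (m1 a ha))
    · exact h.eq_of_conj (m1 a ha) (m1 b hb) e
  rw [Finset.sum_union (Finset.disjoint_left.2 fun a ha hb => hs' a ha a (m1 a hb) (IsConj.refl a)),
    Finset.sum_insert u0] at h2
  have h3 : s0.card • 1 ≤ ∑ a ∈ s0, nn t V a := Finset.card_nsmul_le_sum _ _ _ fun a ha =>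
    h.nn_pos (h.ord2 (m0 a ha).1 (m0 a ha).2)
  rw [smul_eq_mul] at h3
  omega

theorem nn_le_two {u : G} (hu : u ∈ V) (h1 : u ≠ 1) : nn t V u ≤ 2 := by
  simpa using h.sum_nn_le' ∅ (by simp) (by simp) hu h1

theorem nn_sp {u w : G} (hu : u ∈ V) (h1 : u ≠ 1) (hw : orderOf w = 2)
    (hs : ∀ v ∈ V, ¬ IsConj v w) : nn t V w = 1 ∧ nn t V u = 1 := by
  have := h.sum_nn_le' {w} (by simp +contextual) (by simpa using hs) hu h1
  have := h.nn_pos hw
  have := h.nn_pos (h.ord2 hu h1)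
  rw [Finset.sum_singleton] at *
  omega

/-- There is at most one special class of involutions. -/
theorem sp_conj (hV : V ≠ ⊥) {w w' : G} (hw : orderOf w = 2) (hs : ∀ v ∈ V, ¬ IsConj v w)
    (hw' : orderOf w' = 2) (hs' : ∀ v ∈ V, ¬ IsConj v w') : IsConj w w' := by
  classical
  by_contra hn
  obtain ⟨⟨u, hu⟩, h1⟩ := ne_bot_iff_exists_ne_one.1 hV
  have h1 : u ≠ 1 := fun e => h1 (Subtype.ext e)
  have hne : w ≠ w' := fun e => hn (e ▸ IsConj.refl w)
  have := h.sum_nn_le' {w, w'} (by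
    simp only [Finset.mem_insert, Finset.mem_singleton]
    rintro a (rfl | rfl) b (rfl | rfl) e
    exacts [rfl, absurd e hn, absurd e.symm hn, rfl]) (by
    simp only [Finset.mem_insert, Finset.mem_singleton]
    rintro a (rfl | rfl)
    exacts [hs, hs']) hu h1
  rw [Finset.sum_pair hne] at this
  have := h.nn_pos hw
  have := h.nn_pos hw'
  have := h.nn_pos (h.ord2 hu h1)
  omega

end Fus

namespace CD

variable {x t : G} {V : Subgroup G} {d ν : ℕ} {δ : G → ℕ} (h : CD x V t d ν δ)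
include h

theorem nu_pos : 0 < ν := Nat.pos_of_ne_zero fun e => by
  have := h.ord
  rw [e] at this
  simpa [Nat.card_pos.ne'] using this

theorem ratio {u w : G} (hu : orderOf u = 2) (hw : orderOf w = 2) :
    nn t V u * cc u < 2 * (nn t V w * cc w) := by
  have := h.hi u hu
  have := h.lo w hw
  rw [h.nc u hu, h.nc w hw, mul_left_comm]
  exact Nat.mul_lt_mul_of_pos_left (by omega) h.nu_pos

theorem bd {g u w : G} (hg : (orderOf g).Prime) (h7 : 7 ≤ orderOf g) (hu : orderOf u = 2)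
    (hw : orderOf w = 2) : 4 * cc g < 7 * (nn t V u * cc u) * nn t V w := by
  have h1 := h.bound g hg h7 w hw
  have h2 := h.lo u hu
  have h3 := Nat.mul_pos h.nu_pos (h.toFus.nn_pos hw)
  rw [h.nc u hu]
  nlinarith

end CD

end Cfsg.Agent.Z6
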