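import Cfsg.Agent.Z6.Defs

/-!
# Coprime action lemmas
-/

set_option autoImplicit false
set_option linter.unusedSectionVars false

namespace Cfsg.Agent.Z6

open Subgroup Cfsg.Agent.Local Cfsg.Agent.FT Cfsg.Agent.Char
open scoped Pointwise

universe u

variable {G : Type u} [Group G] [Finite G]

theorem cop2 {n : ℕ} (h : ¬ 2 ∣ n) : n.Coprime 2 :=
  ((Nat.Prime.coprime_iff_not_dvd Nat.prime_two).mpr h).symm

theorem cop_pg2 {K : Subgroup G} (pK : IsPGroup 2 K) {n : ℕ} (h : ¬ 2 ∣ n) :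
    (Nat.card K).Coprime n := by
  obtain ⟨k, hk⟩ := PG.card_eq_pow pK
  rw [hk]
  exact (cop2 h).symm.pow_left k

theorem pow_card_of_mem {K : Subgroup G} {a : G} (h : a ∈ K) : a ^ Nat.card K = 1 :=
  orderOf_dvd_iff_pow_eq_one.1 (orderOf_dvd_card_of_mem h)

theorem mem_norm_bot (a : G) : a ∈ 𝐍((⊥ : Subgroup G)) := by
  rw [normalizer_eq_top]; exact mem_top a

theorem ne_one_of_inv {x t : G} (h : orderOf x = 3) (e : t * x * t⁻¹ = x⁻¹) : t ≠ 1 := by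
  rintro rfl
  rw [one_mul, inv_one, mul_one, ← sq_of h, left_eq_mul] at e
  exact ne_one_of h e

theorem norm_zp_of_inv {x t : G} (e : t * x * t⁻¹ = x⁻¹) : t ∈ 𝐍(zpowers x) :=
  mem_normalizer_of_conj_mem fun n hn => by
    obtain ⟨k, rfl⟩ := mem_zpowers_iff.1 hn
    rw [← conj_zpow, e]
    exact zpow_mem (inv_mem (mem_zpowers x)) k

/-- A group acting faithfully and coprimely embeds in the symmetric group on the cosets of the
fixed points. -/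
theorem card_dvd_fact {K Q : Subgroup G} (QK : Q ≤ 𝐍(K))
    (hc : (Nat.card K).Coprime (Nat.card Q)) (hf : Q ⊓ 𝐂(K) = ⊥) :
    Nat.card Q ∣ ((K ⊓ 𝐂(Q)).relIndex K).factorial := by
  classical
  set C := K ⊓ 𝐂(Q)
  have hKQ : K ⊓ Q = ⊥ := inf_eq_bot_of_coprime' hc
  have QC : Q ≤ 𝐍(C) := le_normalizer_inf QK (normalizer_le_normalizer_centralizer Q |>.trans'
    le_normalizer)
  have i1 : (C ⊔ Q).relIndex (K ⊔ Q) = C.relIndex K := by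
    have a1 := card_mul_relIndex (sup_le_sup_right (inf_le_left : C ≤ K) Q)
    have a2 := card_mul_relIndex (inf_le_left : C ≤ K)
    rw [card_sup_of_disjoint QK (disjoint_iff.2 hKQ), card_sup_of_disjoint QC
      ((disjoint_iff.2 hKQ).mono_left inf_le_left), ← a2] at a1
    exact Nat.eq_of_mul_eq_mul_left (Nat.mul_pos Nat.card_pos Nat.card_pos)
      (a1.trans (mul_right_comm _ _ _))
  set N := (C ⊔ Q).subgroupOf (K ⊔ Q)
  rw [← i1, relIndex, index, ← Nat.card_perm]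
  refine card_dvd_of_injective ((MulAction.toPermHom ↥(K ⊔ Q) (↥(K ⊔ Q) ⧸ N)).comp
    (inclusion (le_sup_right : Q ≤ K ⊔ Q))) ((injective_iff_map_eq_one _).2 fun q hq => ?_)
  have h1 : ∀ k ∈ K, k⁻¹ * q * k * (q : G)⁻¹ ∈ C := fun k hk => by
    have e := congrArg (fun σ : Equiv.Perm (↥(K ⊔ Q) ⧸ N) =>
      σ ((⟨k, mem_sup_left hk⟩ : ↥(K ⊔ Q)) : ↥(K ⊔ Q) ⧸ N)) hq
    simp only [MonoidHom.comp_apply, MulAction.toPermHom_apply, MulAction.toPerm_apply,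
      Equiv.Perm.one_apply, MulAction.Quotient.smul_mk, smul_eq_mul] at e
    have e2 : k⁻¹ * (q * k) ∈ C ⊔ Q := mem_subgroupOf.1 (QuotientGroup.eq.1 e.symm)
    have e3 : k⁻¹ * q * k * (q : G)⁻¹ ∈ K ⊓ (C ⊔ Q) := ⟨by
      simpa [mul_assoc] using mul_mem (inv_mem hk) (conj_mem_of_mem_normalizer (QK q.2) hk),
      mul_mem (by rwa [mul_assoc]) (mem_sup_right (inv_mem q.2))⟩
    obtain ⟨c, hc', a, ha, e4⟩ := (mem_sup_of_right_le_normalizer QC).1 e3.2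
    have : a ∈ K ⊓ Q := ⟨(K.mul_mem_cancel_left hc'.1).1 (e4 ▸ e3.1), ha⟩
    rw [hKQ, mem_bot] at this
    rwa [← e4, this, mul_one]
  refine Subtype.ext (mem_bot.1 (hf.le ⟨q.2, fun k hk => ?_⟩))
  set c := k⁻¹ * q * k * (q : G)⁻¹
  have h2 : Commute c q := ((h1 k hk).2 q q.2).symm
  have h3 : c ^ Nat.card Q = 1 := by
    have : (c * q) ^ Nat.card Q = 1 := by
      rw [show c * q = k⁻¹ * q * k⁻¹⁻¹ by simp [c], conj_pow, pow_card_of_mem q.2]; simp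
    rwa [h2.mul_pow, pow_card_of_mem q.2, mul_one] at this
  have h4 : c = 1 := by
    rw [← orderOf_eq_one_iff]
    exact Nat.eq_one_of_dvd_coprimes hc (orderOf_dvd_card_of_mem (h1 k hk).1)
      (orderOf_dvd_of_pow_eq_one h3)
  calc k * q = k * (c * q) := by rw [h4, one_mul]
    _ = q * k := by simp [c, mul_assoc]

theorem sylow_count {p : ℕ} [Fact p.Prime] {P H : Subgroup G} (h : IsSylowIn p P H) :
    𝐍(P).relIndex H % p = 1 % p := by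
  have h1 := card_sylow_modEq_one p H
  rw [Sylow.card_eq_index_normalizer h.toSylow] at h1
  rw [relIndex, subgroupOf_normalizer_eq h.le]
  exact h1

namespace TH

variable {H V K Q X L : Subgroup G} {x t : G} (h : TH H x V)
include h

theorem odd_sq (h2 : t * t = 1) (e : t * x * t⁻¹ = x⁻¹) (hK : K ≤ H) (hx : x ∈ 𝐍(K))
    (ht : t ∈ 𝐍(K)) (o : ¬ 2 ∣ Nat.card K) (h3 : ¬ 3 ∣ Nat.card K) :
    Nat.card K = Nat.card ↥(K ⊓ 𝐂[t]) ^ 2 := by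
  have c2 : Nat.card (zpowers t) = 2 := by
    rw [Nat.card_zpowers, ord_two h2 (ne_one_of_inv h.ord e)]
  have sd : SdProd (zpowers x) (zpowers t) (zpowers x ⊔ zpowers t) :=
    ⟨rfl, zpowers_le.2 (norm_zp_of_inv e), inf_eq_bot_of_coprime' (by
      rw [c2, card_zp h.ord]; norm_num)⟩
  have hF := frob_of_card_prime sd (by simpa using ne_one_of h.ord) (c2 ▸ Nat.prime_two)
    ((eq_bot_or_eq_of_card_prime (by rw [card_zp h.ord]; exact Nat.prime_three)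
      inf_le_left).resolve_right fun e1 => by
        have := (e1.ge (mem_zpowers x)).2 t (mem_zpowers t)
        rw [this, mul_inv_cancel_right, ← sq_of h.ord, left_eq_mul] at e
        exact ne_one_of h.ord e)
  have := (Frobenius_Wielandt_fixpoint hF (sup_le (zpowers_le.2 hx) (zpowers_le.2 ht)) (by
    rw [← sd.card, c2, card_zp h.ord]
    exact (cop3 h3).mul_right (cop2 o)) (h.solv hK h3)).2.2 (by rw [h.inf_cent' hK h3, h.inf_odd o])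
  rwa [c2, cent_zpowers] at this

theorem wiel (hQ : Q ≤ H) (xQ : x ∈ 𝐍(Q)) (o : ¬ 2 ∣ Nat.card Q) (h3 : ¬ 3 ∣ Nat.card Q)
    (hK : K ≤ H) (pK : IsPGroup 2 K) (xK : x ∈ 𝐍(K)) (QK : Q ≤ 𝐍(K)) :
    Nat.card ↥(K ⊓ V ⊓ 𝐂(Q)) ^ 3 * Nat.card K =
      Nat.card ↥(K ⊓ V) ^ 3 * Nat.card ↥(K ⊓ 𝐂(Q)) := by
  rcases eq_or_ne Q ⊥ with rfl | hne
  · rw [show 𝐂((⊥ : Subgroup G)) = ⊤ from eq_top_iff.2 fun g _ y hy => by
      rw [mem_bot.1 hy, one_mul, mul_one], inf_top_eq, inf_top_eq]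
  have sd : SdProd Q (zpowers x) (Q ⊔ zpowers x) :=
    ⟨rfl, zpowers_le.2 xQ, inf_eq_bot_of_coprime' (cop_zp h.ord h3)⟩
  have hF := frob_of_card_prime sd hne (by rw [card_zp h.ord]; exact Nat.prime_three)
    (by rw [h.inf_cent' hQ h3, h.inf_odd o])
  have := (Frobenius_Wielandt_fixpoint hF (sup_le QK (zpowers_le.2 xK)) (cop_pg2 pK (by
    rw [← sd.card, card_zp h.ord]; omega)) (isSolvable_of_isPGroup pK)).1
  rwa [card_zp h.ord, cent_sup, inf_comm 𝐂(Q), ← inf_assoc, h.inf_cent' hK (ndvd_of_pg2 pK)] at this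

theorem exists_sylow (q : ℕ) [Fact q.Prime] (_hL : L ≤ H) (xL : x ∈ 𝐍(L)) (h3 : ¬ 3 ∣ Nat.card L)
    {P : Subgroup G} (hP : P ≤ L) (pP : IsPGroup q P) (xP : x ∈ 𝐍(P)) :
    ∃ Q, IsSylowIn q Q L ∧ P ≤ Q ∧ x ∈ 𝐍(Q) := by
  obtain ⟨Q, h1, h2, h4⟩ := sol_coprime_Sylow_subset (zpowers_le.2 xL) (cop_zp h.ord h3)
    (Or.inl (isSolvable_zpowers x)) hP pP (zpowers_le.2 xP)
  exact ⟨Q, h1, h4, zpowers_le.1 h2⟩

theorem s3q (q : ℕ) [hp : Fact q.Prime] (hq : q ≠ 2) (h2 : t * t = 1) (e : t * x * t⁻¹ = x⁻¹)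
    (tV : ∀ v ∈ V, t * v = v * t) (hL : L ≤ H) (xL : x ∈ 𝐍(L)) (tL : t ∈ 𝐍(L))
    (h3 : ¬ 3 ∣ Nat.card L) : ∃ Q, IsSylowIn q Q L ∧ x ∈ 𝐍(Q) ∧ IsSquare (Nat.card Q) := by
  obtain ⟨Q, h1, xQ⟩ := sol_coprime_Sylow_exists q (zpowers_le.2 xL) (cop_zp h.ord h3)
    (Or.inl (isSolvable_zpowers x))
  have h4 := h1.conj_smul t
  rw [mem_normalizer_iff_conj_smul_eq.1 tL] at h4
  obtain ⟨v, hv, e1⟩ := sol_coprime_Sylow_trans (zpowers_le.2 xL) (cop_zp h.ord h3)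
    (Or.inl (isSolvable_zpowers x)) h1 xQ h4 (zpowers_le.2 (by
      rw [normalizer_conj_smul, ← inv_mem_iff, ← e]
      exact conj_mem_conj_smul t (zpowers_le.1 xQ)))
  rw [h.inf_cent' hL h3] at hv
  have hv2 := h.sq v hv.2
  refine ⟨Q, h1, zpowers_le.1 xQ, _, (h.odd_sq (t := v * t) ?_ ?_ (h1.le.trans hL) (zpowers_le.1 xQ)
    ?_ ?_ fun d => h3 (d.trans (card_dvd_of_le h1.le))).trans (pow_two _)⟩
  · rw [mul_assoc, ← mul_assoc t, tV v hv.2, mul_assoc v, h2, mul_one, hv2]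
  · calc _ = v * (t * x * t⁻¹) * v⁻¹ := by group
      _ = _ := by rw [e, h.inv.comm v hv.2, mul_inv_cancel_right]
  · rw [mem_normalizer_iff_conj_smul_eq, map_mul, mul_smul, e1, ← mul_smul, ← map_mul, hv2, map_one,
      one_smul]
  · obtain ⟨n, hn⟩ := PG.card_eq_pow h1.isPGroup
    rw [hn]
    exact fun d => hq ((Nat.prime_dvd_prime_iff_eq Nat.prime_two hp.out).1
      (Nat.prime_two.dvd_of_dvd_pow d)).symm

theorem q7 (hQ : Q ≤ H) (xQ : x ∈ 𝐍(Q)) (o : ¬ 2 ∣ Nat.card Q) (h3 : ¬ 3 ∣ Nat.card Q)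
    (hK : K ≤ H) (pK : IsPGroup 2 K) (xK : x ∈ 𝐍(K)) (QK : Q ≤ 𝐍(K)) (hf : Q ⊓ 𝐂(K) = ⊥)
    (hc : Nat.card ↥(K ⊓ V) ≤ 2 * Nat.card ↥(K ⊓ V ⊓ 𝐂(Q))) : Nat.card Q ∣ 7 := by
  have h1 := h.wiel hQ xQ o h3 hK pK xK QK
  have h2 := card_mul_relIndex (inf_le_left : K ⊓ 𝐂(Q) ≤ K)
  have h4 := card_dvd_fact QK (cop_pg2 pK o) hf
  have h5 : (K ⊓ 𝐂(Q)).relIndex K ≤ 8 := by
    have p1 : 0 < Nat.card ↥(K ⊓ V ⊓ 𝐂(Q)) ^ 3 * Nat.card ↥(K ⊓ 𝐂(Q)) :=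
      Nat.mul_pos (pow_pos Nat.card_pos _) Nat.card_pos
    refine Nat.le_of_mul_le_mul_left ?_ p1
    rw [mul_assoc, h2, h1]
    calc _ ≤ (2 * Nat.card ↥(K ⊓ V ⊓ 𝐂(Q))) ^ 3 * _ :=
          Nat.mul_le_mul_right _ (Nat.pow_le_pow_left hc 3)
      _ = _ := by ring
  have h6 := h4.trans (Nat.factorial_dvd_factorial h5)
  have h7 : (Nat.card Q).Coprime 5 := ((Nat.Prime.coprime_iff_not_dvd (by norm_num)).mpr
    fun e => h.five (e.trans (card_dvd_of_le hQ))).symm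
  exact Nat.Coprime.dvd_of_dvd_mul_left ((((cop2 o).pow_right 7).mul_right
    ((cop3 h3).pow_right 2)).mul_right h7) (by simpa [Nat.factorial] using h6)

theorem fpf (hK : K ≤ H) (h3 : ¬ 3 ∣ Nat.card K) (hV : K ⊓ V = ⊥) :
    ∀ c ∈ zpowers x, c ≠ 1 → ∀ y ∈ K, c * y = y * c → y = 1 := fun c hc h1 y hy e => by
  rcases mem_zpowers_three h.ord hc with rfl | rfl | rfl
  · exact absurd rfl h1
  · exact mem_bot.1 (hV ▸ ⟨hy, h.fix hK h3 hy e⟩)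
  · exact mem_bot.1 (hV ▸ ⟨hy, h.inv.fix hK h3 hy e⟩)

theorem fm0 {A B : Subgroup G} (hA : A ≤ H) (xA : x ∈ 𝐍(A)) (a3 : ¬ 3 ∣ Nat.card A)
    (aV : A ⊓ V = ⊥) (hB : B ≤ H) (xB : x ∈ 𝐍(B)) (b3 : ¬ 3 ∣ Nat.card B) (bV : B ⊓ V = ⊥)
    (AB : A ≤ 𝐍(B)) (hc : (Nat.card A).Coprime (Nat.card B)) : A ≤ 𝐂(B) :=
  le_centralizer_of_frobenius (h.solv hB b3) AB (zpowers_le.2 xB) (zpowers_le.2 xA)
    (h.fpf hA a3 aV) hc (cop_zp h.ord b3).symm fun v hv e =>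
      mem_bot.1 (bV ▸ (h.inf_cent' hB b3).le ⟨hv, e⟩)

theorem fm' (hQ : Q ≤ H) (xQ : x ∈ 𝐍(Q)) (o : ¬ 2 ∣ Nat.card Q) (h3 : ¬ 3 ∣ Nat.card Q)
    (hK : K ≤ H) (pK : IsPGroup 2 K) (xK : x ∈ 𝐍(K)) (QK : Q ≤ 𝐍(K)) (hV : K ⊓ V = ⊥) :
    Q ≤ 𝐂(K) :=
  h.fm0 hQ xQ h3 (h.inf_odd o) hK xK (ndvd_of_pg2 pK) hV QK (cop_pg2 pK o).symm

theorem fm (hX : X ≤ H) (xX : x ∈ 𝐍(X)) (o : ¬ 2 ∣ Nat.card X) (h3 : ¬ 3 ∣ Nat.card X)
    (hK : K ≤ H) (pK : IsPGroup 2 K) (xK : x ∈ 𝐍(K)) (KX : K ≤ 𝐍(X)) (hV : K ⊓ V ≤ 𝐂(X)) :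
    K ≤ 𝐂(X) := by
  set C := K ⊓ 𝐂(X)
  have KC : K ≤ 𝐍(C) := le_normalizer_inf le_normalizer
    (KX.trans (normalizer_le_normalizer_centralizer X))
  have XC : X ≤ 𝐍(C) := (le_centralizer_iff.1 (inf_le_right : C ≤ 𝐂(X))).trans
    (centralizer_le_normalizer' C)
  have xC : x ∈ 𝐍(C) := zpowers_le.1 (le_normalizer_inf (zpowers_le.2 xK)
    (zpowers_le.2 (normalizer_le_normalizer_centralizer X xX)))
  have hs := h.sub (K := H ⊓ 𝐍(C)) inf_le_left ⟨h.mem, xC⟩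
  have pC : IsPGroup 2 C := pK.to_inf_left
  have h1 := hs.quo inf_le_right (ndvd_of_pg2 pC)
  have h2 := h1.fm0 (A := FT.quo C K) (B := FT.quo C X) (quo_mono C (le_inf hK KC))
    ((cos C).apply_mem_normalizer xC xK) (ndvd_of_pg2 (isPGroup_quo pK C))
    (by
      rw [inf_comm, ← quo_inf_of_nrm _ ⟨inf_le_left, KC⟩]
      exact quo_eq_bot fun v hv => ⟨hv.2, hV ⟨hv.2, hv.1.1⟩⟩)
    (quo_mono C (le_inf hX XC)) ((cos C).apply_mem_normalizer xC xX)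
    (fun e => h3 (e.trans (card_quo_dvd C X)))
    (h1.inf_odd fun e => o (e.trans (card_quo_dvd C X))) (quo_le_normalizer C KX)
    (cop_pg2 (isPGroup_quo pK C) fun e => o (e.trans (card_quo_dvd C X)))
  rw [quo_le_centralizer_iff XC KC] at h2
  have h4 : ⁅X, K⁆ ≤ C ⊓ X := le_inf h2 (commutator_le_left_iff.2 KX)
  rw [inf_eq_bot_of_coprime' (cop_pg2 pC o), le_bot_iff,
    Subgroup.commutator_eq_bot_iff_le_centralizer] at h4
  exact le_centralizer_iff.1 h4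

/-- An `x`-invariant Sylow subgroup of prime order. -/
theorem exists_Q {q n : ℕ} [hq : Fact q.Prime] (c : Nat.card H = q * n) (hn : ¬ q ∣ n) (h3 : 3 ∣ n)
    (hk : ∀ k, k ∣ n → k % q = 1 → ¬ 3 ∣ k) : ∃ Q ≤ H, Nat.card Q = q ∧ x ∈ 𝐍(Q) := by
  obtain ⟨P, hP⟩ := exists_isSylowIn q H
  have n0 : n ≠ 0 := by rintro rfl; simp at hn
  have c1 : Nat.card P = q := by
    rw [hP.card_eq, c, Nat.factorization_mul hq.out.ne_zero n0, Finsupp.add_apply,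
      hq.out.factorization_self, Nat.factorization_eq_zero_of_not_dvd hn]; simp
  have c2 := card_inf_mul_relIndex 𝐍(P) H
  obtain ⟨j, hj⟩ := card_dvd_of_le (le_inf le_normalizer hP.le : P ≤ 𝐍(P) ⊓ H)
  rw [hj, c1, c, mul_assoc] at c2
  have c3 := Nat.eq_of_mul_eq_mul_left hq.out.pos c2
  have c4 := sylow_count hP
  rw [Nat.mod_eq_of_lt hq.out.one_lt] at c4
  obtain ⟨y, hy, y3⟩ := exists_mem_orderOf_eq_of_dvd_card Nat.prime_three (hj ▸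
    ((Nat.prime_three.dvd_mul.1 (c3 ▸ h3)).resolve_right (hk _ (c3 ▸ dvd_mul_left _ _) c4)).mul_left _)
  obtain ⟨m, hm, e⟩ := h.exists_conj hy.2 y3
  refine ⟨MulAut.conj m⁻¹ • P, conj_smul_le_of_mem_normalizer (le_normalizer (inv_mem hm)) hP.le,
    by rw [card_conj_smul, c1], ?_⟩
  rw [normalizer_conj_smul, Local.mem_conj_smul_iff, inv_inv]
  rcases e with e | e <;> rw [e]
  exacts [hy.1, inv_mem hy.1]

/-- Pulling back an invariant subgroup of odd prime order. -/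
theorem pull_Q (hK : K ⊴ H) (pK : IsPGroup 2 K) {q : ℕ} [hq : Fact q.Prime] (h2 : q ≠ 2)
    (h3 : q ≠ 3) {Q : Subgroup (Quo K)} (hQ : Q ≤ FT.quo K H) (c : Nat.card Q = q)
    (xQ : cos K x ∈ 𝐍(Q)) : ∃ Q' ≤ H, Nat.card Q' = q ∧ x ∈ 𝐍(Q') ∧ FT.quo K Q' = Q := by
  obtain ⟨k, hk⟩ := PG.card_eq_pow pK
  have c1 : Nat.card (coquo K Q) = 2 ^ k * q := by rw [card_coquo, hk, c]
  have xN := hK.norm h.mem
  obtain ⟨P, hP, -, xP⟩ := h.exists_sylow q (coquo_le_of_le_quo hK hQ) (zpowers_le.1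
    (le_normalizer_coquo (zpowers_le.2 xN) (by rw [quo_zpowers xN]; exact zpowers_le.2 xQ))) (by
      rw [c1, Nat.prime_three.dvd_mul, not_or]
      exact ⟨hk ▸ ndvd_of_pg2 pK, fun e => h3 ((Nat.prime_dvd_prime_iff_eq Nat.prime_three
        hq.out).1 e).symm⟩) bot_le IsPGroup.of_bot (mem_norm_bot x)
  have nd : ¬ q ∣ 2 ^ k := fun e =>
    h2 ((Nat.prime_dvd_prime_iff_eq hq.out Nat.prime_two).1 (hq.out.dvd_of_dvd_pow e))
  have c2 : Nat.card P = q := by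
    rw [hP.card_eq, c1, Nat.factorization_mul (by positivity) hq.out.ne_zero, Finsupp.add_apply,
      hq.out.factorization_self, Nat.factorization_eq_zero_of_not_dvd nd]; simp
  have h4 := isSylowIn_quo hP (coquo_le Q)
  rw [quo_coquo] at h4
  exact ⟨P, hP.le.trans (coquo_le_of_le_quo hK hQ), c2, xP,
    (h4.eq_of_le (IsPGroup.of_card (n := 1) (by rw [c, pow_one])) h4.le le_rfl).symm⟩

theorem nsc168 (hK : K ⊴ H) (pK : IsPGroup 2 K) (c : Nat.card H = 168 * Nat.card K) :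
    NSC H K x := by
  have : Fact (Nat.Prime 7) := ⟨by norm_num⟩
  have c1 := card_mul_card_quo hK
  rw [c, mul_comm] at c1
  obtain ⟨Q, hQ, c2, xQ⟩ := (h.quo hK.norm (ndvd_of_pg2 pK)).exists_Q (q := 7) (n := 24)
    (Nat.eq_of_mul_eq_mul_right Nat.card_pos c1) (by norm_num) (by norm_num) fun k hk => by
      have := Nat.le_of_dvd (by norm_num) hk
      interval_cases k <;> simp_all
  obtain ⟨Q', h1, h2, h3, -⟩ := h.pull_Q hK pK (by norm_num) (by norm_num) hQ c2 xQ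
  exact ⟨Or.inl c, Q', h1, Or.inl h2, h3⟩

end TH

end Cfsg.Agent.Z6
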