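import Cfsg.Agent.Z6.Lem
import Cfsg.Agent.Z6.Defs

/-!
# Insoluble groups with `|V| ≤ 2`: the simple and almost simple cases
-/

set_option autoImplicit false
set_option linter.unusedSectionVars false

namespace Cfsg.Agent.Z6

open Subgroup Cfsg.Agent.Local Cfsg.Agent.FT Cfsg.Agent.Char
open scoped Pointwise

universe u

variable {G : Type u} [Group G] [Finite G]

/-- A nonabelian simple subgroup, in ambient form. -/
structure Smp (X : Subgroup G) : Prop where
  nrm : ∀ N, N ⊴ X → N = ⊥ ∨ N = X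
  ns : ¬ Group.IsSolvable X

namespace Smp

variable {X : Subgroup G} (h : Smp X)
include h

theorem ne_bot : X ≠ ⊥ := fun e => h.ns (by rw [e]; infer_instance)

theorem nonab : ¬ IsMulCommutative X := fun e => h.ns (isSolvable_of_isMulCommutative e)

theorem simple : IsSimpleGroup X := by
  have := (nontrivial_iff_ne_bot X).2 h.ne_bot
  refine ⟨fun N hN => ?_⟩
  have h1 : N.map X.subtype ⊴ X := by
    rw [nrm_iff_normal_subgroupOf (map_subtype_le N), subgroupOf,
      comap_map_eq_self_of_injective X.subtype_injective]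
    exact hN
  refine (h.nrm _ h1).imp (fun e => ?_) fun e => ?_
  · exact (map_eq_bot_iff_of_injective N X.subtype_injective).1 e
  · apply map_injective X.subtype_injective
    rw [e, ← MonoidHom.range_eq_map, range_subtype]

theorem index {L : Subgroup G} (hne : ¬ X ≤ L) :
    2 * Nat.card X ∣ (L.relIndex X).factorial := by
  have := h.simple
  refine two_mul_card_dvd_factorial (G := X) ?_ (fun e => hne (subgroupOf_eq_top.1 e))
  by_contra hc
  refine h.nonab (PG.comm_of_card_dvd_sq (p := 2) ?_)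
  have := Nat.card_pos (α := X)
  have : Nat.card X = 1 ∨ Nat.card X = 2 := by omega
  rcases this with e | e <;> rw [e] <;> norm_num

/-- Frobenius' theorem: an odd automiser. -/
theorem exists_aut (h2 : 2 ∣ Nat.card X) : ∃ K ≤ X, IsPGroup 2 K ∧ ∃ p : ℕ, p.Prime ∧ p ≠ 2 ∧
    ∃ y ∈ X, y ∈ 𝐍(K) ∧ IsPGroup p (zpowers y) ∧ y ∉ 𝐂(K) := by
  by_contra hn
  push Not at hn
  have h1 : HasNPC 2 X := hasNPC_of_local fun K hK pK _ y hy yn yo =>
    mem_of_forall_constt_mem fun p hp hd => by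
      have := Fact.mk hp
      refine hn K hK pK p hp ?_ _ (constt_mem _ hy) (constt_mem _ yn)
        (piElt_singleton_iff_isPGroup.1 (piElt_constt _ y))
      rintro rfl
      exact (Nat.Prime.coprime_iff_not_dvd Nat.prime_two).1 yo.symm hd
  obtain ⟨k, hk⟩ := h1.exists_relIndex
  rcases h.nrm h1.compl ⟨h1.compl_le, h1.le_normalizer⟩ with e | e
  · rw [e, relIndex_bot_left] at hk
    exact h.ns (isSolvable_of_isPGroup' (isPGroup_of_card_eq_pow hk))
  · have := h1.coprime_card Nat.prime_two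
    rw [e] at this
    exact (Nat.Prime.coprime_iff_not_dvd Nat.prime_two).1 this.symm h2

end Smp

theorem ns_min_le {X H N : Subgroup G} (hX : MinNormal X H) {a : G} (ha : a ∈ X) (h1 : a ≠ 1)
    (hN : ∀ g ∈ H, g * a * g⁻¹ ∈ N) : X ≤ N := by
  have h2 : ∀ M : Subgroup G, (∀ g ∈ H, g * a * g⁻¹ ∈ M) → closure {y | ConjIn H a y} ≤ M :=
    fun M hM => (closure_le _).2 (by rintro _ ⟨g, hg, rfl⟩; exact hM g hg)
  refine (hX.eq_of_le (h2 X fun g hg => conj_mem_of_mem_normalizer (hX.norm hg) ha)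
    (fun e => h1 (mem_bot.1 (e ▸ subset_closure (ConjIn.refl H a)))) ?_).ge.trans (h2 N hN)
  refine fun g hg => mem_normalizer_of_conj_mem fun n hn => ?_
  induction hn using closure_induction with
  | mem y hy => exact subset_closure (ConjIn.trans hy (conjIn_conj hg y))
  | one => simp
  | mul a b _ _ ha hb => simpa [mul_assoc] using mul_mem ha hb
  | inv a _ ha => simpa [mul_assoc] using inv_mem ha

theorem ns_eq_two {V : Subgroup G} (hV : Nat.card V = 2) {a b : G} (ha : a ∈ V) (hb : b ∈ V)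
    (h1 : a ≠ 1) (h2 : b ≠ 1) : a = b :=
  mul_inv_eq_one.1 (mem_bot.1 (mul_mem_two bot_le (by simpa using hV) ha (inv_mem hb)
    (by simpa using h1) (by simpa using h2)))

theorem ns_comm_two {V : Subgroup G} (hV : Nat.card V = 2) {g v : G} (hv : v ∈ V)
    (hg : g * v * g⁻¹ ∈ V) : g * v = v * g := by
  by_cases h1 : v = 1
  · simp [h1]
  · rw [← mul_inv_eq_iff_eq_mul]
    exact ns_eq_two hV hg hv (by simpa using h1) h1

namespace TH

variable {H V K E X : Subgroup G} {x t : G} (h : TH H x V)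
include h

/-- The commutator with `x` of an abelian `2`-group. -/
theorem exists_fpf (hE : E ≤ H) (pE : IsPGroup 2 E) (aE : IsMulCommutative E) (xE : x ∈ 𝐍(E))
    (hn : ¬ E ≤ V) : ∃ K ≤ H, IsPGroup 2 K ∧ K ≠ ⊥ ∧ x ∈ 𝐍(K) ∧ K ⊓ V = ⊥ := by
  have x1 := zpowers_le.2 xE
  have h1 : ⁅E, zpowers x⁆ ≤ E := commutator_le_left_iff.2 x1
  refine ⟨⁅E, zpowers x⁆, h1.trans hE, isPGroup_of_le pE h1, fun e => hn ?_,
    zpowers_le.1 (le_normalizer_commutator x1 le_normalizer), ?_⟩
  · rw [FT.commutator_eq_bot_iff, le_centralizer_comm] at e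
    exact (le_inf le_rfl e).trans ((h.inf_cent' hE (ndvd_of_pg2 pE)).le.trans inf_le_right)
  · have := commutator_inf_centralizer_eq_bot x1 (cop_zp h.ord (ndvd_of_pg2 pE)).symm
    rw [cent_zpowers] at this
    exact le_bot_iff.1 ((inf_le_inf_left _ h.le_cent).trans this.le)

/-- An invariant `2`-subgroup not centralised by `x`. -/
theorem exists_two2 (hs : Smp H) (c : Nat.card H = 168 ∨ Nat.card H = 1092) :
    ∃ K ≤ H, IsPGroup 2 K ∧ x ∈ 𝐍(K) ∧ ¬ K ≤ V := by
  obtain ⟨K, hK, pK, p, hp, h2, y, hy, yn, py, yc⟩ := hs.exists_aut (by omega)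
  have := Fact.mk hp
  obtain ⟨k, hk⟩ := PG.card_eq_pow py
  have d1 := card_dvd_of_le (zpowers_le.2 hy)
  have y1 : y ≠ 1 := by rintro rfl; exact yc (one_mem _)
  have k0 : k ≠ 0 := by
    rintro rfl
    exact y1 (zpowers_eq_bot.1 (card_eq_one.1 (by simpa using hk)))
  have d2 : p ∣ Nat.card H := (dvd_pow_self p k0).trans (hk ▸ d1)
  by_cases p3 : p = 3
  · subst p3
    have k1 : k = 1 := by
      by_contra k1
      exact h.not_nine (zpowers_le.2 hy) (hk ▸ pow_dvd_pow 3 (show 2 ≤ k by omega))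
    rw [k1, pow_one, Nat.card_zpowers] at hk
    obtain ⟨m, hm, e⟩ := h.exists_conj hy hk
    refine ⟨MulAut.conj m⁻¹ • K, conj_smul_le_of_mem (inv_mem hm) hK, isPGroup_conj_smul pK _,
      ?_, fun hle => yc ?_⟩
    · rw [normalizer_conj_smul, Local.mem_conj_smul_iff, inv_inv]
      rcases e with e | e <;> rw [e]
      exacts [yn, inv_mem yn]
    · have h1 : x ∈ 𝐂(MulAut.conj m⁻¹ • K) := zpowers_le.1 (le_centralizer_comm.1
        (by rw [cent_zpowers]; exact hle.trans h.le_cent))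
      rw [centralizer_conj_smul, Local.mem_conj_smul_iff, inv_inv] at h1
      rcases e with e | e <;> rw [e] at h1
      exacts [h1, inv_mem_iff.1 h1]
  exfalso
  have p7 : p = 7 ∨ p = 13 := by
    have : p ∣ 2 ^ 3 * 3 * 7 * 13 := by
      rcases c with c | c <;> rw [c] at d2 <;> exact d2.trans (by norm_num)
    simp only [hp.dvd_mul] at this
    rcases this with ((a | a) | a) | a
    · exact absurd ((Nat.prime_dvd_prime_iff_eq hp Nat.prime_two).1 (hp.dvd_of_dvd_pow a)) h2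
    · exact absurd ((Nat.prime_dvd_prime_iff_eq hp Nat.prime_three).1 a) p3
    · exact Or.inl ((Nat.prime_dvd_prime_iff_eq hp (by norm_num)).1 a)
    · exact Or.inr ((Nat.prime_dvd_prime_iff_eq hp (by norm_num)).1 a)
  have m1 := card_modEq_card_cent py (zpowers_le.2 yn)
  have l1 : K ⊓ 𝐂(zpowers y) < K := lt_of_le_of_ne inf_le_left fun e =>
    yc (zpowers_le.1 (le_centralizer_comm.1 (inf_eq_left.1 e)))
  have l2 := card_lt_of_lt' l1
  have l3 : 0 < Nat.card ↥(K ⊓ 𝐂(zpowers y)) := Nat.card_pos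
  obtain ⟨j, hj⟩ := PG.card_eq_pow pK
  have d3 := card_dvd_of_le hK
  have j3 : j ≤ 3 := by
    by_contra j3
    have := (pow_dvd_pow 2 (show 4 ≤ j by omega)).trans (hj ▸ d3)
    omega
  have c8 : Nat.card K = 8 ∧ p = 7 := by
    unfold Nat.ModEq at m1
    rw [hj] at m1 l2 ⊢
    interval_cases j <;> rcases p7 with rfl | rfl <;> omega
  obtain ⟨c8, rfl⟩ := c8
  have c1 : Nat.card H = 168 := by rw [c8] at d3; omega
  have k1 : k = 1 := by
    by_contra k1
    have := (pow_dvd_pow 7 (show 2 ≤ k by omega)).trans (hk ▸ d1)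
    omega
  have c2 := card_sup_of_disjoint (zpowers_le.2 yn) (disjoint_iff.2 (inf_eq_bot_of_coprime'
    (by rw [c8, hk, k1]; norm_num)))
  rw [c8, hk, k1] at c2
  have c3 := card_mul_relIndex (sup_le hK (zpowers_le.2 hy))
  rw [c2] at c3
  have c4 := hs.index (L := K ⊔ zpowers y) fun e => by
    have := card_le_of_le e
    omega
  rw [show (K ⊔ zpowers y).relIndex H = 3 by omega, c1] at c4
  norm_num [Nat.factorial] at c4

/-- The fusion data of a simple subgroup. -/
theorem exists_invc (hc : CharHyp.{u}) (hs : Smp H) (hV : Nat.card V ≤ 4) :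
    ∃ t ∈ H, t * x * t⁻¹ = x⁻¹ ∧ ∀ a ∈ H, orderOf a = 2 → ∃ v ∈ V, ConjIn H (t * v) a := by
  obtain ⟨t, d, ν, δ, h1⟩ := hc H _ _ hs.simple hs.nonab h.toType
    (by rwa [Nat.card_congr (subgroupOfEquivOfLe h.le).toEquiv])
  refine ⟨t, t.2, congrArg Subtype.val h1.inv, fun a ha a2 => ?_⟩
  obtain ⟨v, hv, e⟩ := h1.cls ⟨a, ha⟩ (by rw [← a2, ← orderOf_coe])
  obtain ⟨g, e⟩ := isConj_iff.1 e
  exact ⟨v, hv, g, g.2, (congrArg Subtype.val e).symm⟩

theorem card_simple (h6 : SixHyp.{u}) (hs : Smp H) (hV : Nat.card V ≤ 2) :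
    (V = ⊥ ∧ Nat.card H = 168) ∨ (Nat.card V = 2 ∧ Nat.card H = 1092) := by
  by_cases e : V = ⊥
  · rcases h.ft3 (Nrm.bot H) (by simp) e.le with a | a
    · exact absurd a hs.ns
    · exact Or.inl ⟨e, by simpa using a.1⟩
  · have := (one_lt_card_iff_ne_bot V).2 e
    have c : Nat.card V = 2 := by omega
    exact Or.inr ⟨c, h6 H _ _ hs.simple hs.nonab h.toType
      (by rwa [Nat.card_congr (subgroupOfEquivOfLe h.le).toEquiv])⟩

theorem exists_Q' (c : Nat.card H = 168 ∨ Nat.card H = 1092) :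
    ∃ Q ≤ H, (Nat.card Q = 7 ∨ Nat.card Q = 13) ∧ x ∈ 𝐍(Q) := by
  have : Fact (Nat.Prime 7) := ⟨by norm_num⟩
  have : Fact (Nat.Prime 13) := ⟨by norm_num⟩
  rcases c with c | c
  · obtain ⟨Q, h1, h2, h3⟩ := h.exists_Q (q := 7) (n := 24) c (by norm_num) (by norm_num)
      fun k hk => by
        have := Nat.le_of_dvd (by norm_num) hk
        interval_cases k <;> simp_all
    exact ⟨Q, h1, Or.inl h2, h3⟩
  · obtain ⟨Q, h1, h2, h3⟩ := h.exists_Q (q := 13) (n := 84) c (by norm_num) (by norm_num)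
      fun k hk => by
        have := Nat.le_of_dvd (by norm_num) hk
        interval_cases k <;> simp_all
    exact ⟨Q, h1, Or.inr h2, h3⟩

/-- The normaliser of `⟨x⟩` is soluble. -/
theorem solv_of_norm (hn : H ≤ 𝐍(zpowers x)) : Group.IsSolvable H := by
  have h1 := PG.commutator_le_cent_of_cyclic (K := zpowers x) inferInstance hn hn
  have h2 : der 1 H ≤ V ⊔ zpowers x := by
    rw [← h.cent_eq, ← cent_zpowers]
    exact le_inf (PG.der1_le H) h1
  refine isSolvable_of_der1 (isSolvable_of_le (isSolvable_of_isMulCommutative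
    (PG.comm_sup_zpowers (isMulCommutative_iff.2 fun a ha b hb => comm_of_sq h.sq ha hb) ?_)) h2)
  exact fun v hv => h.comm v hv

/-- A minimal normal subgroup of order divisible by three is simple. -/
theorem smp_of_min (hs : ¬ Group.IsSolvable H) (ho : core {3}ᶜ H = ⊥) (hX : MinNormal X H)
    (hle : X ≤ H) : x ∈ X ∧ Smp X := by
  have nX : X ⊴ H := ⟨hle, hX.norm⟩
  have h3 : 3 ∣ Nat.card X := by
    by_contra h3
    exact hX.ne_bot (le_bot_iff.1 (ho ▸ le_core3 nX h3))
  have hx := h.mem_of_dvd hle (hX.norm h.mem) h3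
  have key : ∀ N, N ⊴ X → N = ⊥ ∨ N = X := fun N hN => by
    by_cases d : 3 ∣ Nat.card N
    · right
      have h1 : ∀ g ∈ H, g * x * g⁻¹ ∈ N := fun g hg => by
        have h2 : MulAut.conj g⁻¹ • N ⊴ X := by
          have := hN.conj_smul g⁻¹
          rwa [mem_normalizer_iff_conj_smul_eq.1 (inv_mem (hX.norm hg))] at this
        have := h.mem_of_dvd (h2.le.trans hle) (h2.norm hx) (by rwa [card_conj_smul])
        rwa [Local.mem_conj_smul_iff, inv_inv] at this
      exact le_antisymm hN.le (ns_min_le hX hx (ne_one_of h.ord) h1)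
    · exact Or.inl (le_bot_iff.1 (ho ▸ (le_core3 hN d).trans (core_le_core_of_nrm _ nX)))
  refine ⟨hx, key, fun e => hs (h.solv_of_norm ?_)⟩
  rcases key _ (nrm_of_le_of_isMulCommutative (hX.isMulCommutative e) (zpowers_le.2 hx)) with a | a
  · exact absurd (zpowers_eq_bot.1 a) (ne_one_of h.ord)
  · rw [a]; exact hX.norm

/-- The almost simple case. -/
theorem almost (hc : CharHyp.{u}) (h6 : SixHyp.{u}) (hV : Nat.card V ≤ 2)
    (hs : ¬ Group.IsSolvable H) (ho : core {3}ᶜ H = ⊥) :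
    (Nat.card H = 168 ∨ Nat.card H = 336 ∨ Nat.card H = 1092) ∧
    (∃ Q ≤ H, (Nat.card Q = 7 ∨ Nat.card Q = 13) ∧ x ∈ 𝐍(Q)) ∧
    ∃ K ≤ H, IsPGroup 2 K ∧ K ≠ ⊥ ∧ x ∈ 𝐍(K) ∧ K ⊓ V = ⊥ := by
  obtain ⟨X, hX, hle⟩ := exists_minNormal (H := H) (A := H)
    (fun e => hs (by rw [e]; infer_instance)) le_normalizer
  obtain ⟨hx, sX⟩ := h.smp_of_min hs ho hX hle
  have h1 := h.sub hle hx
  have cV : Nat.card ↥(V ⊓ X) ≤ 2 := (card_le_of_le inf_le_left).trans hV
  obtain ⟨t, ht, e, -⟩ := h1.exists_invc hc sX (by omega)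
  have cX := h1.card_simple h6 sX cV
  have cX' : Nat.card X = 168 ∨ Nat.card X = 1092 := cX.imp And.right And.right
  have hH : X ⊔ V = H := by
    refine le_antisymm (sup_le hle h.le) fun g hg => ?_
    obtain ⟨n, hn, e1⟩ := h1.exists_conj (conj_mem_of_mem_normalizer (hX.norm hg) hx)
      (by rw [Local.orderOf_conj', h.ord])
    have key : ∀ n ∈ X, n * x * n⁻¹ = g * x * g⁻¹ → g ∈ X ⊔ V := fun n hn e1 => by
      have : n⁻¹ * g ∈ V ⊔ zpowers x := h.cent_eq.le ⟨H.mul_mem (H.inv_mem (hle hn)) hg, mem_cent1.2 (by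
        calc _ = n⁻¹ * (n * x * n⁻¹) * g := by group
          _ = _ := by rw [e1]; group)⟩
      have := (sup_le le_sup_right ((zpowers_le.2 hx).trans le_sup_left) : _ ≤ X ⊔ V) this
      exact ((X ⊔ V).mul_mem_cancel_left (mem_sup_left (X.inv_mem hn))).1 this
    rcases e1 with e1 | e1
    · exact key n hn e1
    · refine key (n * t) (mul_mem hn ht) ?_
      calc _ = n * (t * x * t⁻¹) * n⁻¹ := by group
        _ = (n * x * n⁻¹)⁻¹ := by rw [e]; group
        _ = _ := by rw [e1, inv_inv]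
  have c1 := card_sup_mul_card_inf (h.le.trans hX.norm)
  rw [hH, inf_comm] at c1
  obtain ⟨Q, q1, q2, q3⟩ := h1.exists_Q' cX'
  obtain ⟨K, k1, k2, k3, k4⟩ := h1.exists_two2 sX cX'
  have p : 0 < Nat.card V := Nat.card_pos
  refine ⟨?_, ⟨Q, q1.trans hle, q2, q3⟩, ?_⟩
  · rcases cX with ⟨a, b⟩ | ⟨a, b⟩
    · rw [a, b, card_bot] at c1
      omega
    · have := card_le_of_le (inf_le_left : V ⊓ X ≤ V)
      rw [a, b] at c1
      omega
  · rcases cX with ⟨a, b⟩ | ⟨a, b⟩
    · refine ⟨K, k1.trans hle, k2, fun e => k4 (e ▸ bot_le), k3, le_bot_iff.1 ?_⟩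
      rw [← a, inf_comm]
      exact inf_le_inf_left _ k1
    · refine h.exists_fpf (k1.trans hle) k2 (PG.comm_of_card_dvd_sq (p := 2) ?_) k3
        fun e => k4 (le_inf e k1)
      by_contra d
      have := (PG.pow_dvd_of_not_dvd k2 d).trans (card_dvd_of_le k1)
      omega

end TH

end Cfsg.Agent.Z6
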