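import Cfsg.Agent.Z6.NSa

/-!
# Insoluble groups with `|V| = 2`: a minimal normal `2`-subgroup containing `V`
-/

set_option autoImplicit false
set_option linter.unusedSectionVars false

namespace Cfsg.Agent.Z6

open Subgroup Cfsg.Agent.Local Cfsg.Agent.FT Cfsg.Agent.Char
open scoped Pointwise

universe u

variable {G : Type u} [Group G] [Finite G]

theorem nsN_inf {a : G} {A B : Subgroup G} (h1 : a ∈ 𝐍(A)) (h2 : a ∈ 𝐍(B)) : a ∈ 𝐍(A ⊓ B) :=
  zpowers_le.1 (le_normalizer_inf (zpowers_le.2 h1) (zpowers_le.2 h2))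

theorem nsN_cent {a : G} {A : Subgroup G} (h1 : a ∈ 𝐍(A)) : a ∈ 𝐍(𝐂(A)) :=
  normalizer_le_normalizer_centralizer A h1

namespace TH

variable {H V K X L Q : Subgroup G} {x t : G} (h : TH H x V)
include h

theorem le_Vc (hK : K ≤ H) (h3 : ¬ 3 ∣ Nat.card K) (hx : x ∈ 𝐂(K)) : K ≤ V :=
  fun a ha => h.fix hK h3 ha (hx a ha).symm

theorem no7 (h2 : t * t = 1) (e : t * x * t⁻¹ = x⁻¹) (tV : ∀ v ∈ V, t * v = v * t) (hL : L ≤ H)
    (xL : x ∈ 𝐍(L)) (tL : t ∈ 𝐍(L)) (h3 : ¬ 3 ∣ Nat.card L) (h49 : ¬ 49 ∣ Nat.card H) :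
    ¬ 7 ∣ Nat.card L := fun h7 => by
  have : Fact (Nat.Prime 7) := ⟨by norm_num⟩
  obtain ⟨P, hP, -, m, hm⟩ := h.s3q 7 (by norm_num) h2 e tV hL xL tL h3
  have h1 := hP.dvd_card_iff.2 h7
  rw [hm, Nat.Prime.dvd_mul this.out, or_self] at h1
  exact h49 ((hm ▸ Nat.mul_dvd_mul h1 h1 : 7 * 7 ∣ Nat.card P).trans
    (card_dvd_of_le (hP.le.trans hL)))

/-- There is no irreducible action on `2 ^ 5`. -/
theorem no32 (hV : Nat.card V = 2) (ht : t ∈ H) (h2 : t * t = 1) (e : t * x * t⁻¹ = x⁻¹)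
    (hX : MinNormal X H) (hle : X ≤ H) (aX : IsMulCommutative X) (hVX : V ≤ X)
    (cX : Nat.card X = 32) (cH : Nat.card H = 168 * 32) (hQ : Q ≤ H) (cQ : Nat.card Q = 7)
    (xQ : x ∈ 𝐍(Q)) (c0 : Nat.card ↥(X ⊓ 𝐂(Q)) = 4) : False := by
  have tV : ∀ v ∈ V, t * v = v * t := fun v hv => ns_comm_two hV hv (h.conj_V ht e hv)
  obtain ⟨v, hv, o2⟩ := exists_mem_orderOf_eq_of_dvd_card Nat.prime_two (dvd_of_eq hV.symm)
  have v1 := ne_one_of_two o2
  have aX' := FT.isMulCommutative_iff.1 aX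
  set C := H ⊓ 𝐂[v] with hC
  have XC : X ≤ C := fun a ha => ⟨hle ha, mem_cent1.2 (aX' v (hVX hv) a ha)⟩
  have h1 : TH C x V := h.sub' inf_le_left ⟨h.mem, mem_cent1.2 (h.comm v hv)⟩ (hVX.trans XC)
  have tC : t ∈ C := ⟨ht, mem_cent1.2 (tV v hv).symm⟩
  have nX : X ⊴ C := ⟨XC, inf_le_left.trans hX.norm⟩
  have x3 : ¬ 3 ∣ Nat.card X := by omega
  have sC : Group.IsSolvable C := by
    refine (h1.ft3 nX x3 hVX).resolve_right fun a => ?_
    have e1 : C = H := eq_of_le_of_card_ge inf_le_left (by omega)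
    have := card_le_of_le (ns_min_le hX (hVX hv) v1 (N := V) fun g hg => by
      rw [← mem_cent1.1 (e1.ge hg).2, mul_inv_cancel_right]; exact hv)
    omega
  have h3 := h1.s3 sC tC e
  set O := core {3}ᶜ C
  have XO : X ≤ O := le_core3 nX x3
  have n7 := h1.no7 h2 e tV (core_le _ C) h3.xn ((core_nrm _ C).norm tC) (core_ndvd C)
    fun d => by have := d.trans (card_dvd_of_le (inf_le_left : C ≤ H)); omega
  have m3 := h1.modEq (core_le _ C) h3.xn (core_ndvd C)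
  rw [inf_eq_right.2 (hVX.trans XO), hV] at m3
  obtain ⟨k, hk⟩ := card_dvd_of_le XO
  have c1 := card_inf_mul_relIndex 𝐂[v] H
  rw [inf_comm, ← hC, h3.card, ← ncard_conjIn, hk, cX, cH] at c1
  have c2 := h3.card
  change ¬ 7 ∣ Nat.card O at n7
  change Nat.card O % 3 = _ at m3
  rw [hk, cX] at n7 m3 c2
  have nD : ∀ y, ConjIn H v y → y ∉ 𝐂(Q) := by
    rintro _ ⟨g, hg, rfl⟩ hy
    have : MulAut.conj g⁻¹ • Q ≤ C := le_inf (conj_smul_le_of_mem (inv_mem hg) hQ) (by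
      rw [← le_conj_smul_iff, ← cent1_conj_smul, ← cent_zpowers, le_centralizer_comm]
      exact zpowers_le.2 hy)
    have := card_dvd_of_le this
    rw [card_conj_smul, cQ] at this
    omega
  generalize hD : {y | ConjIn H v y}.ncard = n at c1
  have hn : n = 28 ∨ n = 7 := by
    have c3 : k * n = 28 := by linarith
    have := Nat.le_of_dvd (by norm_num) (Dvd.intro _ c3)
    interval_cases k <;> omega
  rcases hn with rfl | rfl
  · have e1 : {y | ConjIn H v y} = (X : Set G) \ (X ⊓ 𝐂(Q) : Subgroup G) := by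
      refine Set.eq_of_subset_of_ncard_le (fun y hy => ⟨ConjIn.mem hy hX.norm (hVX hv),
        fun a => nD y hy a.2⟩) ?_
      rw [Set.ncard_sdiff (fun _ a => a.1), hD, ← Nat.card_coe_set_eq, ← Nat.card_coe_set_eq]
      exact (by omega : Nat.card X - Nat.card ↥(X ⊓ 𝐂(Q)) ≤ 28)
    rcases hX.eq_bot_or_eq (K := X ⊓ 𝐂(Q)) inf_le_left (le_normalizer_of_conj_mem
      fun g hg a ha => by
        by_contra hn
        have : ConjIn H v (g * a * g⁻¹) :=
          e1.ge ⟨conj_mem_of_mem_normalizer (hX.norm hg) ha.1, hn⟩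
        exact nD a (this.trans (conjIn_conj hg a).symm) ha.2) with a | a <;> rw [a] at c0
    · simp at c0
    · omega
  · have QX := hQ.trans hX.norm
    have cop : (Nat.card Q).Coprime (Nat.card X) := by rw [cQ, cX]; norm_num
    have WX : ⁅X, Q⁆ ≤ X := commutator_le_left_iff.2 QX
    have w1 := commutator_inf_centralizer_eq_bot QX cop
    have w2 := coprime_cent_prod QX cop.symm (isSolvable_of_isMulCommutative aX)
    have w3 := card_sup_of_disjoint (N := ⁅X, Q⁆) (A := X ⊓ 𝐂(Q))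
      (inf_le_left.trans (nrm_of_le_of_isMulCommutative aX WX).norm)
      ((disjoint_iff.2 w1).mono_right inf_le_right)
    rw [w2, cX, c0] at w3
    have w4 := h.modEq (WX.trans hle) (zpowers_le.1 (le_normalizer_commutator
      (zpowers_le.2 (hX.norm h.mem)) (zpowers_le.2 xQ))) (by omega)
    have w5 : v ∈ ⁅X, Q⁆ := by
      rcases eq_bot_or_eq_of_card_prime (hV ▸ Nat.prime_two) (inf_le_right : ⁅X, Q⁆ ⊓ V ≤ V)
        with a | a
      · rw [a, card_bot] at w4; omega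
      · exact (a.ge hv).1
    have e1 : {y | ConjIn Q v y} = {y | ConjIn H v y} := by
      refine Set.eq_of_subset_of_ncard_le (fun y hy => ConjIn.mono hy hQ) ?_
      have c4 := card_inf_mul_relIndex 𝐂[v] Q
      rw [inf_comm, inf_eq_bot_of_card_prime (by rw [cQ]; norm_num) fun a => nD v
        (ConjIn.refl H v) (zpowers_le.1 (le_centralizer_comm.1 (by rwa [cent_zpowers]))),
        card_bot, cQ] at c4
      rw [hD, ncard_conjIn]
      omega
    have := card_le_of_le (ns_min_le hX (hVX hv) v1 (N := ⁅X, Q⁆) fun g hg =>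
      ConjIn.mem (e1.ge (conjIn_conj hg v)) (le_normalizer_commutator QX le_normalizer) w5)
    omega

/-- The order of a minimal normal `2`-subgroup properly containing `V`. -/
theorem card_eight (hV : Nat.card V = 2) (ht : t ∈ H) (h2 : t * t = 1) (e : t * x * t⁻¹ = x⁻¹)
    (hX : MinNormal X H) (hle : X ≤ H) (aX : IsMulCommutative X) (pX : IsPGroup 2 X) (hVX : V ≤ X)
    (hne : ¬ X ≤ V) (cH : Nat.card H = 168 * Nat.card X)
    (hN : ∀ N, N ⊴ H → X ≤ N → N = X ∨ N = H) (hQ : Q ≤ H) (cQ : Nat.card Q = 7)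
    (xQ : x ∈ 𝐍(Q)) : Nat.card X = 8 := by
  have tV : ∀ v ∈ V, t * v = v * t := fun v hv => ns_comm_two hV hv (h.conj_V ht e hv)
  have x3 := ndvd_of_pg2 pX
  have xX := hX.norm h.mem
  obtain ⟨k, hk⟩ := PG.card_eq_pow pX
  have n7 : ¬ 7 ∣ Nat.card X := fun d => by
    have := Nat.Prime.dvd_of_dvd_pow (by norm_num) (hk ▸ d)
    omega
  have h1 : ¬ X ≤ 𝐂(Q) := fun a => by
    rcases hN _ (Nrm.cent hX.norm) (le_inf hle (isMulCommutative_iff_le_cent.1 aX)) with b | b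
    · exact n7 (cQ ▸ card_dvd_of_le ((le_inf hQ (le_centralizer_comm.1 a)).trans b.le))
    · exact hne (h.le_Vc hle x3 (b.ge h.mem).2)
  have w := h.wiel hQ xQ (by omega) (by omega) hle pX xX (hQ.trans hX.norm)
  rw [inf_eq_right.2 hVX] at w
  have h3 : V ⊓ 𝐂(Q) = ⊥ := by
    refine (eq_bot_or_eq_of_card_prime (hV ▸ Nat.prime_two) inf_le_left).resolve_right fun a => ?_
    rw [a, hV] at w
    exact h1 ((eq_of_le_of_card_ge (inf_le_left : X ⊓ 𝐂(Q) ≤ X) (by omega)).ge.trans inf_le_right)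
  rw [h3, hV, card_bot] at w
  set X0 := X ⊓ 𝐂(Q)
  have x0 : x ∈ 𝐍(X0) := nsN_inf xX (nsN_cent xQ)
  have d0 : ∀ Y ≤ X0, ¬ 3 ∣ Nat.card Y := fun Y hY d =>
    x3 (d.trans (card_dvd_of_le (hY.trans inf_le_left)))
  have h4 : X0 ⊓ MulAut.conj t • X0 = ⊥ := by
    by_contra hn
    set X1 := X0 ⊓ MulAut.conj t • X0
    have x1 : x ∈ 𝐍(X1) := nsN_inf x0 (by
      rw [normalizer_conj_smul, ← inv_mem_iff, ← e]
      exact conj_mem_conj_smul t x0)
    have t1 : t ∈ 𝐍(X1) := by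
      rw [mem_normalizer_iff_conj_smul_eq, smul_inf, conj_smul_conj_smul, h2, map_one, one_smul,
        inf_comm]
    refine h.no7 h2 e tV (L := H ⊓ 𝐂(X1)) inf_le_left
      (nsN_inf (le_normalizer h.mem) (nsN_cent x1)) (nsN_inf (le_normalizer ht) (nsN_cent t1))
      (fun d => hn ?_) (fun d => ?_) (cQ ▸ card_dvd_of_le (le_inf hQ (le_centralizer_comm.1
        (inf_le_left.trans inf_le_right))))
    · have := h.le_Vc (K := X1) (inf_le_left.trans (inf_le_left.trans hle)) (d0 _ inf_le_left)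
        (h.mem_of_dvd inf_le_left (nsN_inf (le_normalizer h.mem) (nsN_cent x1)) d).2
      exact le_bot_iff.1 (h3 ▸ le_inf this (inf_le_left.trans inf_le_right))
    · rw [cH] at d
      have d2 : 7 ∣ 24 * Nat.card X := Nat.dvd_of_mul_dvd_mul_left (show 0 < 7 by norm_num)
        (by rwa [← mul_assoc])
      exact n7 (Nat.Coprime.dvd_of_dvd_mul_left (by norm_num) d2)
  have h5 := card_mul_card_le (H := X0) (K := MulAut.conj t • X0) (L := X) inf_le_left
    (conj_smul_le_of_mem_normalizer (hX.norm ht) inf_le_left)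
  rw [h4, card_conj_smul, card_bot] at h5
  have h6 := h.modEq (K := X0) (inf_le_left.trans hle) x0 (d0 _ le_rfl)
  rw [show X0 ⊓ V = ⊥ from le_bot_iff.1 (h3 ▸ le_inf inf_le_right (inf_le_left.trans inf_le_right)),
    card_bot] at h6
  have h7 : Nat.card X0 ∣ 2 ^ 3 := card_dvd_pow_of_le pX.to_inf_left (by
    have : 0 < Nat.card X0 := Nat.card_pos
    nlinarith)
  have h8 : Nat.card X0 = 1 ∨ Nat.card X0 = 4 := by
    have := Nat.le_of_dvd (by norm_num) h7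
    generalize Nat.card X0 = n at *
    interval_cases n <;> simp_all
  rcases h8 with a | a
  · omega
  · exact (h.no32 hV ht h2 e hX hle aX hVX (by omega) (by omega) hQ cQ xQ a).elim

theorem mn2 (hc : CharHyp.{u}) (hV : Nat.card V = 2) (ht : t ∈ H) (h2 : t * t = 1)
    (e : t * x * t⁻¹ = x⁻¹) (hs : ¬ Group.IsSolvable H) (hX : MinNormal X H) (hle : X ≤ H)
    (eX : IsEA 2 X) (hVX : V ≤ X) :
    (Nat.card H = 336 ∨ Nat.card H = 1344) ∧ (∃ Q ≤ H, Nat.card Q = 7 ∧ x ∈ 𝐍(Q)) ∧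
    (∃ K ≤ H, IsPGroup 2 K ∧ K ≠ ⊥ ∧ x ∈ 𝐍(K) ∧ K ⊓ V = ⊥) ∧
    (∃ K ≤ H, IsPGroup 2 K ∧ x ∈ 𝐍(K) ∧ ¬ K ≤ X) ∧ ∀ N, N ⊴ H → X ≤ N → N = X ∨ N = H := by
  have : Fact (Nat.Prime 7) := ⟨by norm_num⟩
  have nX : X ⊴ H := ⟨hle, hX.norm⟩
  have pX : IsPGroup 2 X := PG.isPGroup_of_expo eX.2
  have x3 := ndvd_of_pg2 pX
  obtain ⟨cH, hN⟩ := (h.ft3 nX x3 hVX).resolve_left hs
  have h1 := h.quo hX.norm x3
  rw [quo_eq_bot hVX] at h1
  have s1 : Smp (FT.quo X H) := ⟨fun N hN' => by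
    rcases hN _ (coquo_nrm_of_nrm_quo nX hN') (le_coquo N) with a | a
    · left; rw [← quo_coquo (N := X) N, a, quo_eq_bot le_rfl]
    · right; rw [← quo_coquo (N := X) N, a],
    fun a => hs (isSolvable_of_quo hX.norm (isSolvable_of_isPGroup' pX) a)⟩
  have c1 := card_mul_card_quo nX
  rw [cH, mul_comm] at c1
  have c2 := Nat.eq_of_mul_eq_mul_right Nat.card_pos c1
  obtain ⟨-, Q, hQ, cQ, xQ⟩ := h.nsc168 nX pX cH
  have cQ : Nat.card Q = 7 := cQ.resolve_right fun a => by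
    have d := card_dvd_of_le hQ
    obtain ⟨k, hk⟩ := PG.card_eq_pow pX
    rw [a, cH, hk] at d
    have := Nat.Prime.dvd_of_dvd_pow (by norm_num)
      (Nat.Coprime.dvd_of_dvd_mul_left (by norm_num) d)
    omega
  obtain ⟨K, k1, k2, k3, k4⟩ := h1.exists_two2 s1 (Or.inl c2)
  have xX := hX.norm h.mem
  have xc : ∀ Y : Subgroup (Quo X), cos X x ∈ 𝐍(Y) → x ∈ 𝐍(coquo X Y) := fun Y hY =>
    (cos X).mem_normalizer_pre xX hY
  have nc : ∀ Y : Subgroup (Quo X), Y ≠ ⊥ → ¬ coquo X Y ≤ X := fun Y hY a =>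
    hY (by rw [← quo_coquo (N := X) Y, quo_eq_bot a])
  refine ⟨?_, ⟨Q, hQ, cQ, xQ⟩, ?_, ⟨coquo X K, coquo_le_of_le_quo nX k1, isPGroup_coquo pX k2,
    xc K k3, nc K fun a => k4 a.le⟩, hN⟩
  · by_cases hne : X ≤ V
    · rw [le_antisymm hne hVX] at cH
      omega
    · rw [h.card_eight hV ht h2 e hX hle (PG.comm_of_isEA eX) pX hVX hne cH hN hQ cQ xQ] at cH
      omega
  by_cases hne : X ≤ V
  swap
  · exact h.exists_fpf hle pX (PG.comm_of_isEA eX) xX hne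
  obtain rfl := le_antisymm hne hVX
  obtain ⟨p, E, hp, e1, e2, -, e3, e4⟩ := exists_nrm_isEA (isSolvable_of_isPGroup' k2)
    (zpowers_le.2 k3) fun a => k4 a.le
  obtain ⟨s, -, -, hs⟩ := h1.exists_invc hc s1 (by simp)
  have tX := hX.norm ht
  have hs' : ∀ a ∈ FT.quo X H, a * a = 1 → a ≠ 1 → ConjIn (FT.quo X H) s a := fun a ha a2 a1 => by
    obtain ⟨v, hv, b⟩ := hs a ha (ord_two a2 a1)
    rwa [mem_bot.1 hv, mul_one] at b
  have t1 := hs' (cos X t) (cos_mem_quo tX ht) (by rw [← (cos X).map_mul tX tX, h2, Mor.map_one])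
    (ne_one_of_inv h1.ord (by rw [← (cos X).map_conj tX xX, e, (cos X).map_inv xX]))
  have sq : ∀ a ∈ coquo X E, a * a = 1 := fun a ha => by
    obtain ⟨a1, a2⟩ := mem_coquo.1 ha
    by_cases a3 : cos X a = 1
    · exact h.sq a ((cos_eq_one_iff a1).1 a3)
    obtain ⟨g', hg', b⟩ := t1.symm.trans (hs' _ (k1 (e1 a2))
      (by rw [← pow_two]; exact PG.pow_eq_one_of_prime k2 (e1 a2) hp (e4.2 _ a2)) a3)
    obtain ⟨g, hg, rfl⟩ := (mem_quo_of_le hX.norm).1 hg'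
    have gt : g * t * g⁻¹ ∈ H := mul_mem (mul_mem hg ht) (inv_mem hg)
    rw [← (cos X).map_conj (hX.norm hg) tX, cos_eq_iff a1 (hX.norm gt)] at b
    have b1 := ns_comm_two hV b (nX.conj_mem gt b)
    have b2 := h.sq _ b
    have b3 : g * t * g⁻¹ * (g * t * g⁻¹) = 1 := by
      calc _ = g * (t * t) * g⁻¹ := by group
        _ = 1 := by rw [h2]; group
    generalize g * t * g⁻¹ = r at *
    calc a * a = (a * r⁻¹) * (r * (a * r⁻¹)) * r := by group
      _ = (a * r⁻¹) * (a * r⁻¹) * (r * r) := by rw [b1]; group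
      _ = 1 := by rw [b2, b3, one_mul]
  exact h.exists_fpf (coquo_le_of_le_quo nX (e1.trans k1)) (pg2_of_sq sq)
    (isMulCommutative_iff.2 fun a ha b hb => comm_of_sq sq ha hb) (xc E (zpowers_le.1 e2)) (nc E e3)

end TH

end Cfsg.Agent.Z6
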