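import Cfsg.Agent.Z6.Lem

/-!
# The odd cores of involution centralisers: general lemmas
-/

set_option autoImplicit false
set_option linter.unusedSectionVars false

namespace Cfsg.Agent.Z6

open Subgroup Cfsg.Agent.Local Cfsg.Agent.FT Cfsg.Agent.Char
open scoped Pointwise

universe u

variable {G : Type u} [Group G] [Finite G]

/-- the largest normal subgroup of `C(u)` of order prime to six -/
abbrev WW (u : G) : Subgroup G := core {2}ᶜ (RR u)

/-- `WW u` is a Hall subgroup -/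
def Good (u : G) : Prop :=
  ∀ X : Subgroup G, X ≤ 𝐂[u] → ¬ 2 ∣ Nat.card X → ¬ 3 ∣ Nat.card X → X ≤ WW u

theorem WW_nrm (u : G) : WW u ⊴ 𝐂[u] := (core_chr _ _).nrm_trans (core_nrm _ _)

theorem WW_odd (u : G) : ¬ 2 ∣ Nat.card (WW u) :=
  (piGrp_compl_singleton_iff Nat.prime_two).1 (piGrp_core _ _)

theorem WW_ndvd (u : G) : ¬ 3 ∣ Nat.card (WW u) := fun e =>
  core_ndvd 𝐂[u] (e.trans (card_dvd_of_le (core_le _ _)))

theorem WW_conj (g a : G) : WW (g * a * g⁻¹) = MulAut.conj g • WW a := by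
  rw [WW, RR_conj, core_conj]

theorem card_WW {a b : G} (h : IsConj a b) : Nat.card (WW a) = Nat.card (WW b) := by
  obtain ⟨g, rfl⟩ := isConj_iff.1 h
  rw [WW_conj, card_conj_smul]

theorem Good.conj {a b : G} (h : Good a) (e : IsConj a b) : Good b := by
  obtain ⟨g, rfl⟩ := isConj_iff.1 e
  intro X hX h2 h3 y hy
  rw [WW_conj, Local.mem_conj_smul_iff]
  refine h (MulAut.conj g⁻¹ • X) (fun z hz => ?_) (by rwa [card_conj_smul])
    (by rwa [card_conj_smul]) (by simpa using conj_mem_conj_smul g⁻¹ hy)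
  have := hX (Local.mem_conj_smul_iff.1 hz)
  rw [cent_conj, Local.mem_conj_smul_iff] at this
  simpa [mul_assoc] using this

theorem eq_one_of_odd {a : G} (h : ¬ 2 ∣ orderOf a) (e : a * a = 1) : a = 1 := by
  by_contra h1
  exact h (by rw [ord_two e h1])

theorem odd_of_mem {K : Subgroup G} (h : ¬ 2 ∣ Nat.card K) {a : G} (ha : a ∈ K) :
    ¬ 2 ∣ orderOf a := fun e => h (e.trans (orderOf_dvd_card_of_mem ha))

theorem exists_sqrt {a : G} (h : ¬ 2 ∣ orderOf a) : ∃ n : ℕ, a ^ n * a ^ n = a :=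
  ⟨(orderOf a + 1) / 2, by
    rw [← pow_add, show (orderOf a + 1) / 2 + (orderOf a + 1) / 2 = orderOf a + 1 by omega,
      pow_succ, pow_orderOf_eq_one, one_mul]⟩

theorem sq_eq_one_of_odd_inv {b e : G} (h : ¬ 2 ∣ orderOf b) (h1 : b * e * b⁻¹ = e⁻¹) :
    e * e = 1 := by
  have h2 : Commute (b * b) e := by
    calc _ = b * (b * e * b⁻¹) * b := by group
      _ = (b * e * b⁻¹)⁻¹ * (b * b) := by nth_rw 1 [h1]; group
      _ = _ := by rw [h1, inv_inv]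
  obtain ⟨n, hn⟩ := exists_sqrt h
  have h3 : Commute b e := by rw [← hn, ← (Commute.refl b).mul_pow]; exact h2.pow_left n
  rw [h3.eq, mul_inv_cancel_right] at h1
  exact mul_eq_one_iff_eq_inv.2 h1

theorem conj_of_inv {v z : G} (h : ¬ 2 ∣ orderOf z) (e : v * z * v⁻¹ = z⁻¹) :
    ∃ s ∈ zpowers z, z * v = s * v * s⁻¹ := by
  obtain ⟨n, hn⟩ := exists_sqrt h
  refine ⟨z ^ n, pow_mem (mem_zpowers z) n, ?_⟩
  calc z * v = z ^ n * (v * z ^ n * v⁻¹)⁻¹ * v := by rw [inv_pow_of e n, inv_inv, hn]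
    _ = _ := by group

theorem inv_zpowers {v z y : G} (e : v * z * v⁻¹ = z⁻¹) (hy : y ∈ zpowers z) :
    v * y * v⁻¹ = y⁻¹ := by
  obtain ⟨k, rfl⟩ := mem_zpowers_iff.1 hy
  rw [← conj_zpow, e, inv_zpow]

/-- Many conjugates of an involution. -/
theorem card_ge_of_inv {L : Subgroup G} {v σ y z : G} (hv : v ∈ L) (hy : y ∈ L) (hz : z ∈ L)
    (oy : ¬ 2 ∣ orderOf y) (oz : ¬ 2 ∣ orderOf z) (vy : v * y * v⁻¹ = y⁻¹)
    (vz : v * z * v⁻¹ = z⁻¹) (sy : σ * y * σ⁻¹ = y⁻¹) (sz : σ * z = z * σ) :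
    Nat.card ↥(𝐂[v] ⊓ L) * (orderOf y * orderOf z) ≤ Nat.card L := by
  rw [← card_inf_mul_relIndex 𝐂[v] L, ← ncard_conjIn, ← Nat.card_zpowers, ← Nat.card_zpowers,
    ← Nat.card_prod]
  refine Nat.mul_le_mul_left _ (Nat.card_le_card_of_injective
    (fun p : zpowers y × zpowers z => (⟨p.1 * p.2 * p.1 * v, ?_⟩ : {w | ConjIn L v w})) ?_)
  · obtain ⟨s, hs, e⟩ := conj_of_inv (odd_of_mem (by rwa [Nat.card_zpowers]) p.2.2)
      (inv_zpowers vz p.2.2)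
    refine ⟨p.1 * s, mul_mem (zpowers_le.2 hy p.1.2) (zpowers_le.2 hz (zpowers_le.2 p.2.2 hs)), ?_⟩
    have := inv_zpowers vy (inv_mem p.1.2)
    rw [inv_inv] at this
    calc _ = (p.1 : G) * ((p.2 : G) * v) * (p.1 : G)⁻¹ := by nth_rw 2 [← this]; group
      _ = _ := by rw [e]; group
  · rintro ⟨⟨a, ha⟩, ⟨b, hb⟩⟩ ⟨⟨a', ha'⟩, ⟨b', hb'⟩⟩ e
    have e1 : a * b * a = a' * b' * a' := mul_right_cancel (congrArg Subtype.val e)
    have c : Commute a a' := by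
      obtain ⟨i, rfl⟩ := mem_zpowers_iff.1 ha
      obtain ⟨j, rfl⟩ := mem_zpowers_iff.1 ha'
      exact zpow_mul_comm y i j
    have cz : ∀ b ∈ zpowers z, σ * b * σ⁻¹ = b := fun b hb => by
      obtain ⟨i, rfl⟩ := mem_zpowers_iff.1 hb
      rw [← conj_zpow, sz, mul_inv_cancel_right]
    have hc : a'⁻¹ * a ∈ zpowers y := mul_mem (inv_mem ha') ha
    set k := a'⁻¹ * a
    have e2 : k * b * k = b' := by
      have : k = a * a'⁻¹ := c.inv_right.eq.symm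
      calc _ = a'⁻¹ * (a * b * a) * a'⁻¹ := by nth_rw 2 [this]; simp only [k]; group
        _ = _ := by rw [e1]; group
    have e3 : k⁻¹ * b * k⁻¹ = b' := by
      rw [← cz b' hb', ← e2, ← inv_zpowers sy hc]
      nth_rw 1 [← cz b hb]
      group
    have ok := odd_of_mem (by rwa [Nat.card_zpowers]) hc
    have e4 := sq_eq_one_of_odd_inv (odd_of_mem (by rwa [Nat.card_zpowers]) hb) (e := k * k) (by
      calc _ = k⁻¹ * (k * b * k) * k * b⁻¹ := by group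
        _ = _ := by rw [e2, ← e3]; group)
    have e5 : k = 1 := eq_one_of_odd ok (eq_one_of_odd (fun d => ok (d.trans (by
      rw [← pow_two]; exact orderOf_pow_dvd 2))) e4)
    rw [e5, one_mul, mul_one] at e2
    exact Prod.ext (Subtype.ext (inv_mul_eq_one.1 e5).symm) (Subtype.ext e2)

/-- The elements inverted by an involution. -/
theorem ncard_inv_le {X : Subgroup G} (o : ¬ 2 ∣ Nat.card X) (u : G) :
    {w | w ∈ X ∧ u * w * u⁻¹ = w⁻¹}.ncard * Nat.card ↥(X ⊓ 𝐂[u]) ≤ Nat.card X := by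
  rw [← Nat.card_coe_set_eq, ← Nat.card_prod]
  refine Nat.card_le_card_of_injective (fun p : {w | w ∈ X ∧ u * w * u⁻¹ = w⁻¹} × ↥(X ⊓ 𝐂[u]) =>
    (⟨p.1 * p.2, mul_mem p.1.2.1 p.2.2.1⟩ : X)) ?_
  rintro ⟨⟨a, ha, a1⟩, ⟨b, hb⟩⟩ ⟨⟨a', ha', a2⟩, ⟨b', hb'⟩⟩ e
  have e1 : a * b = a' * b' := congrArg Subtype.val e
  have hc := mul_mem hb (inv_mem hb')
  have e2 : a' = a * (b * b'⁻¹) := by rw [← mul_assoc, e1, mul_inv_cancel_right]
  set c := b * b'⁻¹
  have e3 : c = 1 := eq_one_of_odd (odd_of_mem o hc.1) (sq_eq_one_of_odd_inv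
    (b := a⁻¹) (odd_of_mem o (inv_mem ha)) (by
      rw [e2] at a2
      calc _ = (u * a * u⁻¹) * (c * u * u⁻¹) * a := by rw [a1]; group
        _ = (u * (a * c) * u⁻¹) * a := by rw [← mem_cent1.1 hc.2]; group
        _ = _ := by rw [a2]; group))
  rw [e3, mul_one] at e2
  exact Prod.ext (Subtype.ext e2.symm) (Subtype.ext (mul_inv_eq_one.1 e3))

theorem mem_zpowers_two {w g : G} (h : orderOf w = 2) (hg : g ∈ zpowers w) : g = 1 ∨ g = w := by
  classical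
  rw [mem_zpowers_iff_mem_range_orderOf, h] at hg
  simpa [Finset.range_add_one, eq_comm, or_comm] using hg

/-- The Brauer–Wielandt formula for a four-group. -/
theorem wiel4 {K : Subgroup G} {a b : G} (ha : a * a = 1) (hb : b * b = 1) (a1 : a ≠ 1) (b1 : b ≠ 1)
    (hne : a ≠ b) (c : a * b = b * a) (aK : a ∈ 𝐍(K)) (bK : b ∈ 𝐍(K)) (o : ¬ 2 ∣ Nat.card K)
    (hs : Group.IsSolvable K) :
    Nat.card K * Nat.card ↥(K ⊓ 𝐂[a] ⊓ 𝐂[b]) ^ 2 =
      Nat.card ↥(K ⊓ 𝐂[a]) * Nat.card ↥(K ⊓ 𝐂[b]) * Nat.card ↥(K ⊓ 𝐂[a * b]) := by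
  classical
  have hab : a * b * (a * b) = 1 := by
    rw [mul_assoc, ← mul_assoc b, ← c, mul_assoc, hb, mul_one, ha]
  have ab1 : a * b ≠ 1 := fun e => hne (by rw [← inv_self hb, eq_inv_iff_mul_eq_one, e])
  have zp : ∀ {w g : G}, w * w = 1 → w ≠ 1 → (g ∈ zpowers w ↔ g = 1 ∨ g = w) := fun h h1 =>
    ⟨mem_zpowers_two (ord_two h h1), by rintro (rfl | rfl); exacts [one_mem _, mem_zpowers _]⟩
  have cz : ∀ {w : G}, w * w = 1 → w ≠ 1 → Nat.card (zpowers w) = 2 := fun h h1 => by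
    rw [Nat.card_zpowers, ord_two h h1]
  have bn : b ∈ 𝐍(zpowers a) := centralizer_le_normalizer' _ ((cent_zpowers a).ge (mem_cent1.2 c))
  have c4 : Nat.card ↥(zpowers a ⊔ zpowers b) = 4 := by
    rw [PG.card_sup_zpowers (p := 2) bn (by rw [zp ha a1]; exact not_or.2 ⟨b1, hne.symm⟩)
      (by rw [pow_two, hb]; exact one_mem _), cz ha a1]
  have m1 : a ∈ zpowers a ⊔ zpowers b := mem_sup_left (mem_zpowers a)
  have m2 : b ∈ zpowers a ⊔ zpowers b := mem_sup_right (mem_zpowers b)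
  have := solvable_Wielandt_fixpoint
    ![zpowers a ⊔ zpowers b, ⊥, zpowers a, zpowers b, zpowers (a * b)] ![1, 2, 0, 0, 0]
    ![0, 0, 1, 1, 1] (H := zpowers a ⊔ zpowers b) (V := K) (fun i _ => by
      fin_cases i
      exacts [le_rfl, bot_le, le_sup_left, le_sup_right, zpowers_le.2 (mul_mem m1 m2)])
    (sup_le (zpowers_le.2 aK) (zpowers_le.2 bK)) (by
      rw [c4]; exact (cop2 o).pow_right 2) hs fun g hg => by
      obtain ⟨p, hp, q, hq, rfl⟩ := (mem_sup_of_right_le_normalizer (zpowers_le.2 bn)).1 hg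
      simp only [Finset.sum_filter, Fin.sum_univ_five, Matrix.cons_val, hg, zp ha a1, zp hb b1,
        zp hab ab1, mem_bot]
      rcases (zp ha a1).1 hp with rfl | rfl <;> rcases (zp hb b1).1 hq with rfl | rfl <;>
        simp [*, hne.symm, c ▸ ab1]
  simp only [Fin.prod_univ_five, Matrix.cons_val, c4, cz ha a1, cz hb b1, cz hab ab1, card_bot,
    cent_sup, cent_zpowers, zero_mul, pow_zero, mul_one, one_mul] at this
  rw [show 𝐂((⊥ : Subgroup G)) = ⊤ from eq_top_iff.2 fun g _ y hy => by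
      rw [mem_bot.1 hy, one_mul, mul_one], inf_top_eq, ← inf_assoc] at this
  refine Nat.pow_left_injective two_ne_zero ?_
  simp only [mul_pow, ← this]
  ring

theorem seven_le {n : ℕ} (h1 : n ≠ 1) (h0 : n ≠ 0) (h2 : ¬ 2 ∣ n) (h3 : ¬ 3 ∣ n) (h5 : ¬ 5 ∣ n) :
    7 ≤ n := by
  by_contra h
  have : n < 7 := by omega
  interval_cases n <;> simp_all

theorem exists_prime_pow {g : G} (h : g ≠ 1) : ∃ n : ℕ, (orderOf (g ^ n)).Prime := by
  obtain ⟨p, hp, e⟩ := Nat.exists_prime_and_dvd (mt orderOf_eq_one_iff.1 h)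
  exact ⟨_, by rwa [orderOf_pow_orderOf_div (orderOf_pos g).ne' e]⟩

namespace Fus

variable {x t v : G} {V : Subgroup G} (h : Fus x V t)
include h

theorem s3C (hv : v ∈ V) (hs : Group.IsSolvable 𝐂[v]) : S3 𝐂[v] (RR v) x t :=
  (h.thC hv).s3 hs (h.t_mem hv) h.inv

theorem V_le_RR (hv : v ∈ V) (hs : Group.IsSolvable 𝐂[v]) : V ≤ RR v :=
  (h.s3C hv hs).le_O' (h.V_le hv) h.th.ndvd
    (centralizer_le_normalizer' V fun w hw => h.th.comm w hw)

theorem pg_quo (hV : Nat.card V ≤ 4) (hv : v ∈ V) (h1 : v ≠ 1) (hs : Group.IsSolvable 𝐂[v]) :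
    IsPGroup 2 (quo (WW v) (RR v)) := by
  have hN := WW_nrm v
  have hT := (h.thC hv).quo hN.norm (WW_ndvd v)
  have hO : quo (WW v) (RR v) ⊴ quo (WW v) 𝐂[v] := quo_nrm _ (core_nrm _ _)
  have O3 : ¬ 3 ∣ Nat.card (quo (WW v) (RR v)) := fun e =>
    core_ndvd 𝐂[v] (e.trans (card_quo_dvd _ _))
  have h2 := solvable_cent_pcore (p := 2) (hT.solv hO.le O3) (core_quo_core _ (RR v))
  have hK := (core_chr {2} (quo (WW v) (RR v))).nrm_trans hO
  have pK : IsPGroup 2 (core {2} (quo (WW v) (RR v))) := isPGroup_core 2 _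
  set K := core {2} (quo (WW v) (RR v))
  have tN := hN.norm (h.t_mem hv)
  have xN := hN.norm (h.x_mem hv)
  have vN := hN.norm (h.V_le hv hv)
  refine IsPGroup.iff_card.2 ⟨_, Nat.eq_prime_pow_of_unique_prime_dvd Nat.card_pos.ne'
    fun {q} hq hd => by_contra fun q2 => ?_⟩
  have := Fact.mk hq
  obtain ⟨Q, hQ, xQ, sq⟩ := hT.s3q (t := cos _ t) q q2
    (by rw [← (cos _).map_mul tN tN, h.t2, Mor.map_one])
    (by rw [← (cos _).map_inv tN, ← (cos _).map_inv xN, ← (cos _).map_mul tN xN,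
      ← (cos _).map_mul (mul_mem tN xN) (inv_mem tN), h.inv])
    (fun w hw => by
      obtain ⟨w, a, b, rfl⟩ := mem_quo.1 hw
      rw [← (cos _).map_mul tN a, h.tV w b, (cos _).map_mul a tN])
    hO.le (hO.norm hT.mem) (hO.norm (cos_mem_quo tN (h.t_mem hv))) O3
  have Q2 : ¬ 2 ∣ Nat.card Q := by
    obtain ⟨n, hn⟩ := PG.card_eq_pow hQ.isPGroup
    rw [hn]
    exact fun d => q2 ((Nat.prime_dvd_prime_iff_eq Nat.prime_two hq).1
      (Nat.prime_two.dvd_of_dvd_pow d)).symm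
  have vC : cos (WW v) v ∈ 𝐂(quo (WW v) 𝐂[v]) := quo_le_centralizer _ (L := zpowers v)
    (zpowers_le.2 fun g hg => (mem_cent1.1 hg).symm) (cos_mem_quo vN (mem_zpowers v))
  have v1 : cos (WW v) v ≠ 1 := fun e => odd_of_mem (WW_odd v) ((cos_eq_one_iff vN).1 e)
    (by rw [h.ord2 hv h1])
  have h7 := hT.q7 (hQ.le.trans hO.le) xQ Q2 (fun e => O3 (e.trans (card_dvd_of_le hQ.le))) hK.le
    pK (hK.norm hT.mem) (hQ.le.trans (hO.le.trans hK.norm)) (by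
      rw [← le_bot_iff, ← inf_eq_bot_of_coprime' (cop_pg2 pK Q2)]
      exact fun g hg => ⟨h2 ⟨hQ.le hg.1, hg.2⟩, hg.1⟩) (by
      have a1 : 1 < Nat.card ↥(K ⊓ quo (WW v) V ⊓ 𝐂(Q)) := (one_lt_card_iff_ne_bot _).2 fun e =>
        v1 (mem_bot.1 (e ▸ ⟨⟨h2 ⟨cos_mem_quo vN (h.V_le_RR hv hs hv), centralizer_le hK.le vC⟩,
          cos_mem_quo vN hv⟩, centralizer_le (hQ.le.trans hO.le) vC⟩))
      have a2 := card_le_of_le (inf_le_right : K ⊓ quo (WW v) V ≤ _)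
      have a3 := Nat.le_of_dvd Nat.card_pos (card_quo_dvd (WW v) V)
      omega)
  have a4 := hQ.dvd_card_iff.2 hd
  rcases (Nat.dvd_prime (by norm_num)).1 h7 with e | e <;> rw [e] at a4 sq
  · exact hq.one_lt.ne' (Nat.dvd_one.1 a4)
  · exact (by norm_num : Nat.Prime 7).not_isSquare sq

theorem good (hV : Nat.card V ≤ 4) (hv : v ∈ V) (h1 : v ≠ 1) (hs : Group.IsSolvable 𝐂[v]) :
    Good v := fun X hX h2 h3 => by
  have e1 := relIndex_dvd_of_norm hX (h.s3C hv hs).nrm.norm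
  have e2 := card_inf_mul_relIndex (RR v) X
  rw [(h.s3C hv hs).relIndex] at e1
  have e3 : X ≤ RR v := relIndex_eq_one.1 (Nat.eq_one_of_dvd_coprimes
    ((cop2 h2).mul_right (cop3 h3)) (e2 ▸ dvd_mul_left _ _) e1)
  rw [← quo_eq_bot_iff (hX.trans (WW_nrm v).norm), ← inf_eq_right.2 (quo_mono _ e3)]
  exact inf_eq_bot_of_coprime' (cop_pg2 (h.pg_quo hV hv h1 hs) fun e =>
    h2 (e.trans (card_quo_dvd _ _)))

/-- An invariant Sylow `2`-subgroup of `RR v`. -/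
theorem exists_R (hV : Nat.card V ≤ 4) (hv : v ∈ V) (h1 : v ≠ 1) (hs : Group.IsSolvable 𝐂[v]) :
    ∃ R ≤ RR v, IsPGroup 2 R ∧ V ≤ R ∧ x ∈ 𝐍(R) ∧ RR v ≤ WW v ⊔ R := by
  obtain ⟨R, hR, h2, h3⟩ := h.th.exists_sylow 2 le_top (h.s3C hv hs).xn (core_ndvd _)
    (h.V_le_RR hv hs) h.th.pg (centralizer_le_normalizer' V fun w hw => h.th.comm w hw)
  have hn : RR v ≤ 𝐍(WW v) := (core_nrm _ _).norm
  have h4 := isSylowIn_quo hR hn
  exact ⟨R, hR.le, hR.isPGroup, h2, h3, (quo_le_quo_iff hn (hR.le.trans hn)).1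
    (h4.eq_of_le (h.pg_quo hV hv h1 hs) h4.le le_rfl).le⟩

/-- An element of odd order inverted by `v` and centralising `t` and `C_W(t)`. -/
theorem exists_y (hv : v ∈ V) (hg : Good v) (hW : WW v ≠ ⊥) (e : IsConj v t) :
    ∃ y : G, 7 ≤ orderOf y ∧ ¬ 2 ∣ orderOf y ∧ v * y * v⁻¹ = y⁻¹ ∧ t * y = y * t ∧
      y ∈ 𝐂(WW v ⊓ 𝐂[t]) := by
  have hg' := hg.conj e
  have hN := WW_nrm v
  have hN' := WW_nrm t
  have hD : WW v ⊓ 𝐂[t] ≤ WW t := hg' _ inf_le_right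
    (fun d => WW_odd v (d.trans (card_dvd_of_le inf_le_left)))
    fun d => WW_ndvd v (d.trans (card_dvd_of_le inf_le_left))
  have hD' : WW t ⊓ 𝐂[v] ≤ WW v := hg _ inf_le_right
    (fun d => WW_odd t (d.trans (card_dvd_of_le inf_le_left)))
    fun d => WW_ndvd t (d.trans (card_dvd_of_le inf_le_left))
  have c1 := h.th.odd_sq h.t2 h.inv le_top (hN.norm (h.x_mem hv)) (hN.norm (h.t_mem hv))
    (WW_odd v) (WW_ndvd v)
  have c2 := (one_lt_card_iff_ne_bot _).2 hW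
  have nil : Group.IsNilpotent (WW t) := by
    obtain ⟨g, rfl⟩ := isConj_iff.1 e
    rw [WW_conj]
    exact isNilpotent_conj_smul (h.th.nil le_top (hN.norm (h.x_mem hv)) (WW_ndvd v)
      (h.th.inf_odd (WW_odd v))) g
  obtain ⟨n, hn, n1⟩ := SetLike.exists_of_lt (lt_norm_of_isNilpotent nil (lt_of_le_of_ne hD
    fun e1 => by
      rw [e1, ← card_WW e] at c1
      nlinarith))
  have v2 := h.th.sq v hv
  have hy : n * v * n⁻¹ * v⁻¹ ∈ WW t := by
    simpa [mul_assoc] using mul_mem hn.1 (hN'.conj_mem (mem_cent1.2 (h.tV v hv)) (inv_mem hn.1))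
  refine ⟨_, seven_le (fun e1 => n1 ?_) (orderOf_pos _).ne' (odd_of_mem (WW_odd t) hy)
    (fun d => WW_ndvd t (d.trans (orderOf_dvd_card_of_mem hy)))
    fun d => h.th.five (d.trans (orderOf_dvd_card_of_mem (mem_top _))), odd_of_mem (WW_odd t) hy,
    ?_, mem_cent1.1 (hN'.le hy), fun d hd => ?_⟩
  · rw [orderOf_eq_one_iff, mul_inv_eq_one, mul_inv_eq_iff_eq_mul] at e1
    exact ⟨hD' ⟨hn.1, mem_cent1.2 e1.symm⟩, hN'.le hn.1⟩
  · calc _ = v * n * v * n⁻¹ * (v * v)⁻¹ := by group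
      _ = v * n * v⁻¹ * n⁻¹ := by rw [v2, inv_self v2, inv_one, mul_one]
      _ = _ := by group
  · have a1 := mem_cent1.1 (hN.le hd.1)
    have a2 := mem_cent1.1 (hN.le (conj_mem_of_mem_normalizer (inv_mem hn.2) hd).1)
    calc _ = n * (n⁻¹ * d * n⁻¹⁻¹ * v) * n⁻¹ * v⁻¹ := by group
      _ = n * v * n⁻¹ * v⁻¹ * (v * d) * v⁻¹ := by rw [← a2]; group
      _ = _ := by rw [a1]; group

end Fus

end Cfsg.Agent.Z6
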