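import Cfsg.Agent.Z6.PathP2

/-!
# From character data to the path setting
-/

set_option autoImplicit false
set_option linter.unusedSectionVars false

namespace Cfsg.Agent.Z6

open Subgroup Cfsg.Agent.Local Cfsg.Agent.FT Cfsg.Agent.Char
open scoped Pointwise

universe u

variable {G : Type u} [Group G] [Finite G]

theorem eq_zp {V : Subgroup G} (hV : Nat.card V = 2) {v : G} (hv : v ∈ V) (h1 : v ≠ 1)
    (h2 : v * v = 1) : V = zpowers v :=
  (eq_of_le_of_card_ge (zpowers_le.2 hv) (by rw [hV, Nat.card_zpowers, ord_two h2 h1])).symm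

theorem exists_ne_one {V : Subgroup G} (h : 1 < Nat.card V) : ∃ v ∈ V, v ≠ 1 := by
  obtain ⟨⟨v, hv⟩, v1⟩ := ne_bot_iff_exists_ne_one.1 ((one_lt_card_iff_ne_bot V).1 h)
  exact ⟨v, hv, fun e => v1 (Subtype.ext e)⟩

theorem pow_eq_of_mod {a b : ℕ} (h : 2 ^ a % 3 = 2 ^ b % 3) (h1 : 2 ^ a < 4 * 2 ^ b)
    (h2 : 2 ^ b < 4 * 2 ^ a) : a = b := by
  rw [show 4 * 2 ^ b = 2 ^ (b + 2) by ring, Nat.pow_lt_pow_iff_right one_lt_two] at h1
  rw [show 4 * 2 ^ a = 2 ^ (a + 2) by ring, Nat.pow_lt_pow_iff_right one_lt_two] at h2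
  have key : ∀ n : ℕ, 2 ^ (n + 1) % 3 ≠ 2 ^ n % 3 := fun n e => by
    have : ¬ 3 ∣ 2 ^ n := fun e => by
      simpa using Nat.le_of_dvd two_pos (Nat.prime_three.dvd_of_dvd_pow e)
    rw [pow_succ] at e
    omega
  rcases lt_trichotomy a b with e | e | e
  · obtain rfl : b = a + 1 := by omega
    exact absurd h.symm (key a)
  · exact e
  · obtain rfl : a = b + 1 := by omega
    exact absurd h (key b)

theorem Fus.card_mod {x t v : G} {V : Subgroup G} (h : Fus x V t) (hv : v ∈ V)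
    (hs : Group.IsSolvable 𝐂[v]) : Nat.card (RR v) % 3 = Nat.card V % 3 := by
  rw [h.th.modEq le_top (h.s3C hv hs).xn (core_ndvd _), inf_eq_right.2 (h.V_le_RR hv hs)]

theorem CD.ps {x t : G} {V : Subgroup G} {d ν : ℕ} {δ : G → ℕ} (h : CD x V t d ν δ)
    (hV : Nat.card V = 2 ∨ Nat.card V = 4) (hs : ∀ v ∈ V, v ≠ 1 → Group.IsSolvable 𝐂[v])
    (pg : ∀ v ∈ V, v ≠ 1 → IsPGroup 2 (RR v)) {u : G} (hu : u ∈ V) (h1 : u ≠ 1) :
    PS x V t (Nat.card (RR u)) := by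
  have hF := h.toFus
  have c : ∀ v ∈ V, v ≠ 1 → cc v = 6 * Nat.card (RR v) := fun v hv v1 =>
    (hF.s3C hv (hs v hv v1)).card
  have key : ∀ v ∈ V, v ≠ 1 → ∀ w ∈ V, w ≠ 1 → Nat.card (RR v) < 4 * Nat.card (RR w) :=
    fun v hv v1 w hw w1 => by
      have a1 := h.ratio (hF.ord2 hv v1) (hF.ord2 hw w1)
      have a2 := Nat.mul_le_mul_right (cc v) (hF.nn_pos (hF.ord2 hv v1))
      have a3 := Nat.mul_le_mul_right (cc w) (hF.nn_le_two hw w1)
      have := c v hv v1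
      have := c w hw w1
      omega
  refine ⟨hF, hV, fun v hv v1 => hF.s3C hv (hs v hv v1), pg, fun v hv v1 => ?_, fun w hw hn => ?_⟩
  · obtain ⟨a, ha⟩ := PG.card_eq_pow (pg v hv v1)
    obtain ⟨b, hb⟩ := PG.card_eq_pow (pg u hu h1)
    have a1 := (hF.card_mod hv (hs v hv v1)).trans (hF.card_mod hu (hs u hu h1)).symm
    have a2 := key v hv v1 u hu h1
    have a3 := key u hu h1 v hv v1
    rw [ha, hb] at *
    rw [pow_eq_of_mod a1 a2 a3]
  · obtain ⟨a1, a2⟩ := hF.nn_sp hu h1 hw hn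
    have a3 := h.ratio hw (hF.ord2 hu h1)
    have a4 := h.ratio (hF.ord2 hu h1) hw
    rw [a1, a2, c u hu h1] at a3 a4
    omega

theorem PS.lc {x t v : G} {V : Subgroup G} {r : ℕ} (h : PS x V t r) (hV : Nat.card V = 2)
    (hv : v ∈ V) (h1 : v ≠ 1) (hZ : ∀ w ∈ RR v, w ∈ 𝐂(RR v) → w * w = 1 → w = 1 ∨ w = v) :
    LC v x t r :=
  ⟨eq_zp hV hv h1 (h.th.sq v hv) ▸ h.th, h.toFus.ord2 hv h1, h.s3 v hv h1, h.pg v hv h1,
    h.card v hv h1, hZ⟩

end Cfsg.Agent.Z6
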