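import Cfsg.Agent.Z6.Defs

/-!
# The path argument, part 1: tools, the case `V ≤ Z(R)`
-/

set_option autoImplicit false
set_option linter.unusedSectionVars false

namespace Cfsg.Agent.Z6

open Subgroup Cfsg.Agent.Local Cfsg.Agent.FT Cfsg.Agent.Char
open scoped Pointwise

universe u

variable {G : Type u} [Group G] [Finite G]

namespace PZ

theorem mem_cent {H : Subgroup G} {a : G} : a ∈ 𝐂(H) ↔ ∀ h ∈ H, h * a = a * h :=
  mem_centralizer_iff

/-- the involutions of the centre of `R`, with the identity -/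
def ZZ (R : Subgroup G) : Subgroup G where
  carrier := {z | z ∈ R ∧ z ∈ 𝐂(R) ∧ z * z = 1}
  one_mem' := ⟨one_mem _, one_mem _, mul_one _⟩
  mul_mem' := fun {a b} ha hb => ⟨mul_mem ha.1 hb.1, mul_mem ha.2.1 hb.2.1, by
    have c : a * b = b * a := mem_cent.1 hb.2.1 a ha.1
    calc a * b * (a * b) = a * (b * a) * b := by group
      _ = (a * a) * (b * b) := by rw [← c]; group
      _ = 1 := by rw [ha.2.2, hb.2.2, one_mul]⟩
  inv_mem' := fun {a} ha => by rw [inv_self ha.2.2]; exact ha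

theorem mem_ZZ {R : Subgroup G} {z : G} : z ∈ ZZ R ↔ z ∈ R ∧ z ∈ 𝐂(R) ∧ z * z = 1 := Iff.rfl

theorem ZZ_le (R : Subgroup G) : ZZ R ≤ R := fun _ h => h.1

theorem ZZ_cent (R : Subgroup G) : ZZ R ≤ 𝐂(R) := fun _ h => h.2.1

theorem le_cent_ZZ (R : Subgroup G) : R ≤ 𝐂(ZZ R) := le_centralizer_comm.1 (ZZ_cent R)

theorem ZZ_sq {R : Subgroup G} {z : G} (h : z ∈ ZZ R) : z * z = 1 := h.2.2

theorem ZZ_pg (R : Subgroup G) : IsPGroup 2 (ZZ R) := pg2_of_sq fun _ h => ZZ_sq h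

theorem conj_sq {a : G} (h : a * a = 1) (g : G) : g * a * g⁻¹ * (g * a * g⁻¹) = 1 := by
  calc _ = g * (a * a) * g⁻¹ := by group
    _ = 1 := by rw [h]; group

theorem conj_ne_one {a : G} (h : a ≠ 1) (g : G) : g * a * g⁻¹ ≠ 1 := fun e => h (by
  calc a = g⁻¹ * (g * a * g⁻¹) * g := by group
    _ = 1 := by rw [e]; group)

theorem conj_mem_ZZ {R : Subgroup G} {z : G} (g : G) (h : z ∈ ZZ R) :
    g * z * g⁻¹ ∈ ZZ (MulAut.conj g • R) :=
  ⟨conj_mem_conj_smul g h.1, by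
    rw [centralizer_conj_smul]; exact conj_mem_conj_smul g h.2.1, conj_sq h.2.2 g⟩

theorem norm_ZZ (R : Subgroup G) : 𝐍(R) ≤ 𝐍(ZZ R) := fun g hg =>
  mem_normalizer_of_conj_mem fun z hz => by
    have := conj_mem_ZZ g hz
    rwa [mem_normalizer_iff_conj_smul_eq.1 hg] at this

theorem ZZ_conj (g : G) (R : Subgroup G) : ZZ (MulAut.conj g • R) = MulAut.conj g • ZZ R := by
  ext z
  rw [Local.mem_conj_smul_iff]
  constructor <;> intro h
  · have := conj_mem_ZZ g⁻¹ h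
    rwa [conj_inv_smul_smul, inv_inv] at this
  · have := conj_mem_ZZ g h
    rwa [show g * (g⁻¹ * z * g) * g⁻¹ = z by group] at this

theorem exists_ZZ {R : Subgroup G} (h : IsPGroup 2 R) (h1 : R ≠ ⊥) : ∃ z ∈ ZZ R, z ≠ 1 := by
  obtain ⟨z, hz, a, b⟩ := PG.exists_order_p (isPGroup_of_le h (inf_le_left : R ⊓ 𝐂(R) ≤ R))
    (PG.inf_cen_ne_bot h (Nrm.refl R) h1)
  exact ⟨z, ⟨hz.1, hz.2, by rwa [pow_two] at b⟩, a⟩

theorem mem_zp2 {z a : G} (hz : z * z = 1) (h : a ∈ zpowers z) : a = 1 ∨ a = z := by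
  obtain ⟨n, rfl⟩ := h
  have h2 : z ^ (2 : ℤ) = 1 := by rw [zpow_two, hz]
  rcases Int.even_or_odd' n with ⟨k, rfl | rfl⟩
  · left; simp only; rw [zpow_mul, h2, one_zpow]
  · right; simp only; rw [zpow_add_one, zpow_mul, h2, one_zpow, one_mul]

theorem card_zp2 {z : G} (hz : z * z = 1) : Nat.card (zpowers z) ≤ 2 := by
  rw [Nat.card_zpowers]
  exact Nat.le_of_dvd two_pos (orderOf_dvd_of_pow_eq_one (by rw [pow_two, hz]))

theorem card_le_comm (K W : Subgroup G) (a : G) (h : ∀ c ∈ K, c * a * c⁻¹ * a⁻¹ ∈ W) :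
    Nat.card K ≤ Nat.card W * Nat.card ↥(K ⊓ 𝐂[a]) := by
  have h1 : {y | ConjIn K a y}.ncard ≤ Nat.card W := by
    refine Set.ncard_le_ncard_of_injOn (t := (W : Set G)) (fun y => y * a⁻¹) ?_ ?_ (Set.toFinite _)
    · rintro y ⟨c, hc, rfl⟩
      exact h c hc
    · intro y _ z _ e
      exact mul_right_cancel e
  rw [ncard_conjIn] at h1
  rw [← card_inf_mul_relIndex 𝐂[a] K, inf_comm, mul_comm]
  exact Nat.mul_le_mul_right _ h1

theorem S3.quo {X O K : Subgroup G} {x t : G} (h : S3 X O x t) (hK : K ⊴ X) (hO : K ≤ O) :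
    S3 (quo K X) (quo K O) (cos K x) (cos K t) := by
  have hx := hK.norm h.xm
  have ht := hK.norm h.tm
  refine ⟨quo_nrm K h.nrm, fun e => h.ndvd (e.trans (card_quo_dvd K O)), cos_mem_quo hx h.xm,
    cos_mem_quo ht h.tm, orderOf_eq_prime (by
      rw [← (cos K).map_pow hx, cube_of h.ord, Mor.map_one]) fun e =>
        not_mem_of h.ord h.ndvd (hO ((cos_eq_one_iff hx).1 e)), by
      rw [← (cos K).map_conj ht hx, h.inv, (cos K).map_inv hx], ?_⟩
  have e1 := card_mul_card_quo hK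
  have e2 := card_mul_card_quo (hK.of_le hO h.nrm.le)
  refine Nat.eq_of_mul_eq_mul_left (Nat.card_pos (α := K)) ?_
  rw [e1, h.card, ← e2]; ring

/-- `X = O ⟨x, t⟩`. -/
theorem S3.le_of {X O Y : Subgroup G} {x t : G} (h : S3 X O x t) (hO : O ≤ Y) (hx : x ∈ Y)
    (ht : t ∈ Y) : X ≤ Y := by
  rw [← PG.sup_zpowers_eq_of_card (p := 2) h.card_L h.L_le h.tm
    (inv_not_mem h.ord h.xn h.ndvd h.inv)]
  exact sup_le (sup_le hO (zpowers_le.2 hx)) (zpowers_le.2 ht)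

/-- A normal subgroup containing an element of order prime to three outside `O` contains `x`. -/
theorem S3.mem_of_nrm {H V X O N : Subgroup G} {x' x t : G} (hT : TH H x' V) (hX : X ≤ H)
    (h : S3 X O x t) (hN : N ⊴ X) (hO : ¬ N ≤ O) : x ∈ N := by
  obtain ⟨n, -, h1⟩ := hT.of_ord (hX h.xm) h.ord
  refine h1.mem_of_dvd (hN.le.trans hX) (hN.norm h.xm) ?_
  by_contra h3
  exact hO (h.le_O' hN.le h3 (hN.norm h.xm))

end PZ

open PZ

namespace PS

variable {x t : G} {V : Subgroup G} {r : ℕ} (h : PS x V t r)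
include h

theorem V_le_R {v : G} (hv : v ∈ V) (h1 : v ≠ 1) : V ≤ RR v :=
  (h.s3 v hv h1).le_O' (h.toFus.V_le hv) h.th.ndvd
    (centralizer_le_normalizer' V (le_centralizer_comm.1 (by
      rw [cent_zpowers]; exact h.th.le_cent) (mem_zpowers x)))

theorem caseI (hV : Nat.card V = 4) {v : G} (hv : v ∈ V) (h1 : v ≠ 1) (hI : V ≤ 𝐂(RR v)) :
    r ≤ 1024 := by
  have s := h.s3 v hv h1
  have n3 := ndvd_of_pg2 (h.pg v hv h1)
  -- all centralisers coincide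
  have hH : ∀ w ∈ V, 𝐂[v] ≤ 𝐂[w] := fun w hw =>
    S3.le_of s ((le_centralizer_comm.1 hI).trans (cent_le_cent1 hw)) (h.toFus.x_mem hw)
      (h.toFus.t_mem hw)
  have hH' : ∀ w ∈ V, w ≠ 1 → 𝐂[w] = 𝐂[v] := fun w hw w1 =>
    (eq_of_le_of_card_ge (hH w hw) (by
      rw [s.card, (h.s3 w hw w1).card, h.card v hv h1, h.card w hw w1])).symm
  have hHV : 𝐂[v] ≤ 𝐂(V) := fun g hg => mem_cent.2 fun w hw => mem_cent1.1 (hH w hw hg)
  obtain ⟨v', hv', e⟩ := h.cls v (h.toFus.ord2 hv h1)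
  obtain ⟨g, hg⟩ := isConj_iff.1 e.symm
  have F := h.toFus.shift hv'
  set τ := t * v'
  have hτ : 𝐂[τ] = MulAut.conj g • 𝐂[v] := by rw [← hg, cent_conj]
  have hVτ : V ≤ 𝐂[τ] := fun w hw => mem_cent1.2 (F.tV w hw)
  have hVg : MulAut.conj g • V ≤ 𝐂[v] := by
    refine le_trans ?_ (cent_le_cent1 hv)
    rw [le_centralizer_comm, centralizer_conj_smul]
    exact hVτ.trans (hτ.le.trans (conj_smul_le_iff.2 hHV))
  have h2 := s.two hVg (by rw [card_conj_smul]; exact h.th.ndvd)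
  rw [card_conj_smul, hV] at h2
  obtain ⟨⟨a, ha⟩, a1⟩ := ne_bot_iff_exists_ne_one.1 ((one_lt_card_iff_ne_bot
    (RR v ⊓ MulAut.conj g • V)).1 (by omega))
  have a1 : a ≠ 1 := fun e => a1 (Subtype.ext e)
  have ha' := Local.mem_conj_smul_iff.1 ha.2
  have hCa : 𝐂[a] = 𝐂[τ] := by
    rw [hτ, ← hH' _ ha' fun e => a1 (by
      calc a = g * (g⁻¹ * a * g) * g⁻¹ := by group
        _ = 1 := by rw [e]; group), ← cent_conj]
    congr 2; group
  have hN : 𝐂[v] ≤ 𝐍(V) := hHV.trans (centralizer_le_normalizer' V)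
  have hRN : RR v ≤ 𝐍(V) := s.nrm.le.trans hN
  have hVR := h.V_le_R hv h1
  have T := (h.toFus.thC hv).quo hN h.th.ndvd
  rw [quo_self] at T
  set C := coquo V (quo V (RR v) ⊓ 𝐂[cos V a])
  have hCR : C ≤ RR v := coquo_le_of_le_quo ⟨hVR, hRN⟩ inf_le_left
  have xN := hN s.xm
  have xR : cos V x ∈ 𝐍(quo V (RR v)) := (cos V).apply_mem_normalizer xN s.xn
  have hxC : x ∈ 𝐍(C) := (cos V).mem_normalizer_pre xN (mem_normalizer_of_conj_mem fun c hc =>
    ⟨conj_mem_of_mem_normalizer xR hc.1, mem_cent1.2 (T.commute_conj rfl (quo_mono V s.nrm.le) xR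
      (fun e => n3 (e.trans (card_quo_dvd _ _))) (cos_mem_quo (hRN ha.1) ha.1) hc.1
      (mem_cent1.1 hc.2)).eq⟩)
  have h3 := card_le_comm C V a fun c hc => by
    have c1 := mem_coquo.1 hc
    have aN := hRN ha.1
    rw [mul_assoc _ c⁻¹, ← mul_inv_rev, ← cos_eq_iff (mul_mem c1.1 aN) (mul_mem aN c1.1),
      (cos V).map_mul c1.1 aN, (cos V).map_mul aN c1.1]
    exact (mem_cent1.1 c1.2.2).symm
  have h4 : C ⊓ 𝐂[a] = RR v ⊓ 𝐂[τ] := by
    rw [← hCa]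
    refine le_antisymm (inf_le_inf_right _ hCR) fun c hc => ⟨mem_coquo.2 ⟨hRN hc.1,
      cos_mem_quo (hRN hc.1) hc.1, mem_cent1.2 ?_⟩, hc.2⟩
    rw [← (cos V).map_mul (hRN ha.1) (hRN hc.1), mem_cent1.1 hc.2,
      (cos V).map_mul (hRN hc.1) (hRN ha.1)]
  have h5 := h.th.upper (mem_top x) h.th.ord F.t2 F.inv le_top hxC
    (fun e => n3 (e.trans (card_dvd_of_le hCR)))
  rw [← hCa, h4] at h5
  rw [h4] at h3
  have h6 := h.th.lower (mem_top τ) F.t2 F.inv le_top s.xn (s.nrm.norm (F.t_mem hv)) n3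
  rw [h.card v hv h1] at h6
  rw [hV] at h3 h5 h6
  generalize Nat.card ↥(RR v ⊓ 𝐂[τ]) = c at *
  have : c ≤ 16 := by nlinarith
  nlinarith

end PS

end Cfsg.Agent.Z6
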