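import Cfsg.Agent.Z6.PZ1

/-!
# The path argument, part 2: the graph on the involutions conjugate into `V`
-/

set_option autoImplicit false
set_option linter.unusedSectionVars false

namespace Cfsg.Agent.Z6

open Subgroup Cfsg.Agent.Local Cfsg.Agent.FT Cfsg.Agent.Char
open scoped Pointwise

universe u

variable {G : Type u} [Group G] [Finite G]

namespace PZ

/-- standing hypotheses of the path argument -/
structure PB (x : G) (V : Subgroup G) (t : G) (r : ℕ) : Prop extends PS x V t r where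
  hI : ∀ v ∈ V, v ≠ 1 → V ⊓ 𝐂(RR v) ≤ zpowers v
  big : 1024 * Nat.card V ≤ r

/-- conjugate to an involution of `V` -/
def VT (V : Subgroup G) (α : G) : Prop := ∃ v ∈ V, v ≠ 1 ∧ IsConj v α

theorem VT.conj {V : Subgroup G} {α : G} (h : VT V α) (g : G) : VT V (g * α * g⁻¹) := by
  obtain ⟨v, hv, h1, e⟩ := h
  exact ⟨v, hv, h1, e.trans (isConj_iff.2 ⟨g, rfl⟩)⟩

theorem VT.of_mem {V : Subgroup G} {v : G} (hv : v ∈ V) (h1 : v ≠ 1) : VT V v :=
  ⟨v, hv, h1, IsConj.refl v⟩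

/-- the local data at an involution conjugate into `V` -/
structure VD (r : ℕ) (α : G) : Prop where
  ord : orderOf α = 2
  s3 : ∃ y s, S3 𝐂[α] (RR α) y s
  pg : IsPGroup 2 (RR α)
  card : Nat.card (RR α) = r
  hI : ∀ y ∈ 𝐂[α], orderOf y = 3 → ∀ a, a * a = 1 → a * y = y * a → a ∈ 𝐂(RR α) → a = 1 ∨ a = α

namespace VD

variable {r : ℕ} {α : G} (h : VD r α)
include h

theorem conj (g : G) : VD r (g * α * g⁻¹) := by
  obtain ⟨y, s, h1⟩ := h.s3
  refine ⟨by rw [Local.orderOf_conj', h.ord], ⟨_, _, by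
    rw [RR_conj, cent_conj]; exact h1.conj g⟩, by rw [RR_conj]; exact isPGroup_conj_smul h.pg g,
    by rw [RR_conj, card_conj_smul, h.card], fun y hy y3 a a2 c ha => ?_⟩
  rw [cent_conj, Local.mem_conj_smul_iff] at hy
  rw [RR_conj, centralizer_conj_smul, Local.mem_conj_smul_iff] at ha
  have := h.hI _ hy (by rw [← y3, ← Local.orderOf_conj' g⁻¹ y, inv_inv]) _
    (by simpa using conj_sq a2 g⁻¹) (by
      calc _ = g⁻¹ * (a * y) * g := by group
        _ = _ := by rw [c]; group) ha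
  refine this.imp (fun e => ?_) fun e => by rw [← e]; group
  calc a = g * (g⁻¹ * a * g) * g⁻¹ := by group
    _ = 1 := by rw [e]; group

theorem sq : α * α = 1 := sq_of_two h.ord

theorem ne : α ≠ 1 := ne_one_of_two h.ord

theorem cc : cc α = 6 * r := by
  obtain ⟨y, s, h1⟩ := h.s3
  rw [← h.card]; exact h1.card

theorem ndvd : ¬ 3 ∣ Nat.card (RR α) := core_ndvd _

theorem nrm : RR α ⊴ 𝐂[α] := core_nrm _ _

theorem mem_R : α ∈ RR α := by
  refine le_core3 (K := zpowers α) ⟨zpowers_le.2 (mem_cent1.2 rfl), ?_⟩ (by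
    rw [Nat.card_zpowers, h.ord]; norm_num) (mem_zpowers α)
  rw [← cent_zpowers]; exact centralizer_le_normalizer' _

theorem mem_Z : α ∈ ZZ (RR α) :=
  ⟨h.mem_R, mem_cent.2 fun _ hk => (mem_cent1.1 (h.nrm.le hk)).symm, h.sq⟩

theorem norm_Z : 𝐂[α] ≤ 𝐍(ZZ (RR α)) := h.nrm.norm.trans (norm_ZZ _)

theorem R_le {S : Subgroup G} (hS : S ≤ 𝐂[α]) (pS : IsPGroup 2 S) (c : Nat.card S = 2 * r) :
    RR α ≤ S := by
  refine IsSylowIn.le_of_le_normalizer (p := 2) ⟨hS, pS, ?_⟩ h.pg h.nrm.le (hS.trans h.nrm.norm)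
  have e := card_mul_relIndex hS
  have p : 0 < Nat.card S := Nat.card_pos
  have e2 := h.cc
  rw [Z6.cc, ← e, c] at e2
  have : S.relIndex 𝐂[α] = 3 := Nat.eq_of_mul_eq_mul_left (c ▸ p) (by rw [e2]; ring)
  omega

theorem eq_of_le {β : G} (h2 : β * β = 1) (h1 : β ≠ 1) (hle : 𝐂[α] ≤ 𝐂[β]) : β = α := by
  obtain ⟨y, s, hs⟩ := h.s3
  exact (h.hI y hs.xm hs.ord β h2 (mem_cent1.1 (hle hs.xm))
    (mem_cent.2 fun k hk => (mem_cent1.1 (hle (h.nrm.le hk))).symm)).resolve_left h1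

end VD

/-- adjacency -/
structure Adj (V : Subgroup G) (α β : G) : Prop where
  l : VT V α
  r : VT V β
  ne : α ≠ β
  lr : RR α ≤ 𝐂[β]
  rl : RR β ≤ 𝐂[α]

theorem Adj.symm {V : Subgroup G} {α β : G} (h : Adj V α β) : Adj V β α :=
  ⟨h.r, h.l, h.ne.symm, h.rl, h.lr⟩

theorem Adj.conj {V : Subgroup G} {α β : G} (h : Adj V α β) (g : G) :
    Adj V (g * α * g⁻¹) (g * β * g⁻¹) :=
  ⟨h.l.conj g, h.r.conj g, fun e => h.ne (by simpa using e),
    by rw [RR_conj, cent_conj]; exact conj_smul_le_iff.2 h.lr,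
    by rw [RR_conj, cent_conj]; exact conj_smul_le_iff.2 h.rl⟩

/-- paths of given length -/
def Pth {X : Type*} (A : X → X → Prop) : ℕ → X → X → Prop
  | 0, a, b => a = b
  | n + 1, a, b => ∃ c, A a c ∧ Pth A n c b

theorem Pth.unsnoc {X : Type*} {A : X → X → Prop} : ∀ {n : ℕ} {a b : X}, Pth A (n + 1) a b →
    ∃ c, Pth A n a c ∧ A c b
  | 0, a, _, ⟨_, h1, rfl⟩ => ⟨a, rfl, h1⟩
  | _ + 1, _, _, ⟨c, h1, h2⟩ => by
    obtain ⟨d, h3, h4⟩ := Pth.unsnoc h2
    exact ⟨d, ⟨c, h1, h3⟩, h4⟩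

theorem Pth.of_rtg {X : Type*} {A : X → X → Prop} {a b : X} (h : Relation.ReflTransGen A a b) :
    ∃ n, Pth A n a b := by
  induction h using Relation.ReflTransGen.head_induction_on with
  | refl => exact ⟨0, rfl⟩
  | head h1 _ ih => obtain ⟨n, hn⟩ := ih; exact ⟨n + 1, _, h1, hn⟩

/-- the connected component -/
def Cmp (V : Subgroup G) (u α : G) : Prop := Relation.ReflTransGen (Adj V) u α

theorem Cmp.symm {V : Subgroup G} {α β : G} (h : Cmp V α β) : Cmp V β α := by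
  induction h with
  | refl => exact Relation.ReflTransGen.refl
  | tail _ h2 ih => exact Relation.ReflTransGen.head h2.symm ih

theorem Cmp.trans {V : Subgroup G} {α β γ : G} (h : Cmp V α β) (h' : Cmp V β γ) : Cmp V α γ :=
  Relation.ReflTransGen.trans h h'

theorem Cmp.refl (V : Subgroup G) (α : G) : Cmp V α α := Relation.ReflTransGen.refl

theorem Adj.cmp {V : Subgroup G} {α β : G} (h : Adj V α β) : Cmp V α β :=
  Relation.ReflTransGen.single h

theorem Cmp.conj {V : Subgroup G} {α β : G} (h : Cmp V α β) (g : G) :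
    Cmp V (g * α * g⁻¹) (g * β * g⁻¹) := by
  induction h with
  | refl => exact Relation.ReflTransGen.refl
  | tail _ h2 ih => exact Relation.ReflTransGen.tail ih (h2.conj g)

theorem Cmp.vt {V : Subgroup G} {α β : G} (h : Cmp V α β) (h' : VT V α) : VT V β := by
  induction h with
  | refl => exact h'
  | tail _ h2 _ => exact h2.r

/-- the subgroup generated by the groups `Ω₁ Z(R_β)`, `β` in the component of `u` -/
def KK (V : Subgroup G) (u : G) : Subgroup G := ⨆ β : {β // Cmp V u β}, ZZ (RR β.1)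

theorem Cmp.Z_le {V : Subgroup G} {u β : G} (h : Cmp V u β) : ZZ (RR β) ≤ KK V u :=
  le_iSup (fun β : {β // Cmp V u β} => ZZ (RR β.1)) ⟨β, h⟩

theorem KK_le {V X : Subgroup G} {u : G} (h : ∀ β, Cmp V u β → ZZ (RR β) ≤ X) : KK V u ≤ X :=
  iSup_le fun β => h β.1 β.2

theorem Cmp.norm {V : Subgroup G} {u α : G} (h : Cmp V u α) : 𝐂[α] ≤ 𝐍(KK V u) := fun g hg => by
  have : KK V u ≤ MulAut.conj g⁻¹ • KK V u := KK_le fun β hβ => by
    rw [← conj_smul_le_iff_le_inv, ← ZZ_conj, ← RR_conj]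
    have h1 := (h.symm.trans hβ).conj g
    rw [← mem_cent1.1 hg, mul_inv_cancel_right] at h1
    exact (h.trans h1).Z_le
  exact mem_normalizer_of_conj_mem fun k hk =>
    conj_smul_le_iff_le_inv.2 this (conj_mem_conj_smul g hk)

namespace PB

variable {x t : G} {V : Subgroup G} {r : ℕ} (h : PB x V t r)
include h

theorem vd {α : G} (hα : VT V α) : VD r α := by
  obtain ⟨v, hv, h1, e⟩ := hα
  obtain ⟨g, rfl⟩ := isConj_iff.1 e
  refine VD.conj ⟨h.toFus.ord2 hv h1, ⟨x, t, h.s3 v hv h1⟩, h.pg v hv h1, h.card v hv h1,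
    fun y hy y3 a a2 c ha => ?_⟩ g
  obtain ⟨n, hn, T⟩ := (h.toFus.thC hv).of_ord hy y3
  have hv' : v ∈ RR v := h.toPS.V_le_R hv h1 hv
  have h2 := Local.mem_conj_smul_iff.1 (T.mem_V (cent_le_cent1 hv' ha) c (ndvd_ord_of_sq a2))
  have h3 : n⁻¹ * a * n ∈ 𝐂(RR v) := inv_conj_mem_of_mem_normalizer
    (normalizer_le_normalizer_centralizer _ ((core_nrm _ _).norm hn)) ha
  refine (mem_zp2 (h.th.sq v hv) (h.hI v hv h1 ⟨h2, h3⟩)).imp (fun e => ?_) fun e => ?_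
  · calc a = n * (n⁻¹ * a * n) * n⁻¹ := by group
      _ = 1 := by rw [e]; group
  · calc a = n * (n⁻¹ * a * n) * n⁻¹ := by group
      _ = v := by rw [e, ← mem_cent1.1 hn, mul_inv_cancel_right]

theorem m_pos : 0 < Nat.card V := Nat.card_pos

theorem m_le : Nat.card V ≤ 4 := by rcases h.cardV with e | e <;> omega

theorem V_ne : V ≠ ⊥ := (one_lt_card_iff_ne_bot V).1 (by rcases h.cardV with e | e <;> omega)

theorem r_pow : ∃ k, r = 2 ^ k := by
  obtain ⟨⟨v, hv⟩, h1⟩ := ne_bot_iff_exists_ne_one.1 h.V_ne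
  have h1 : v ≠ 1 := fun e => h1 (Subtype.ext e)
  rw [← h.card v hv h1]
  exact PG.card_eq_pow (h.pg v hv h1)

theorem spec {w : G} (hw : orderOf w = 2) (hn : ¬ VT V w) : ∀ v ∈ V, ¬ IsConj v w :=
  fun v hv e => hn ⟨v, hv, fun e1 => ne_one_of_two hw (by
    rw [e1] at e; exact isConj_one_right.1 e), e⟩

theorem sp' {w : G} (hw : orderOf w = 2) (hn : ¬ VT V w) :
    3 * r < cc w ∧ cc w < 12 * r ∧ ¬ 3 ∣ cc w ∧ ¬ 5 ∣ cc w :=
  ⟨(h.sp w hw (h.spec hw hn)).1, (h.sp w hw (h.spec hw hn)).2, fun e => by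
    obtain ⟨v, hv, e1⟩ := h.toFus.conj_V_of_dvd hw e
    exact h.spec hw hn v hv e1, fun e => h.th.five (e.trans (card_dvd_of_le le_top))⟩

theorem cc_lt {w : G} (hw : orderOf w = 2) : cc w < 12 * r := by
  by_cases hn : VT V w
  · have := (h.vd hn).cc
    have := h.big
    have := h.m_pos
    omega
  · exact (h.sp' hw hn).2.1

theorem sp2 {w : G} (hw : orderOf w = 2) (hn : ¬ VT V w) (hd : 2 * r ∣ cc w) :
    cc w = 4 * r ∨ cc w = 8 * r := by
  obtain ⟨a, b, c, d⟩ := h.sp' hw hn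
  obtain ⟨k, hk⟩ := hd
  rw [hk] at a b c d ⊢
  have k1 : 1 < k := by by_contra h0; have : k ≤ 1 := by omega
                        nlinarith
  have k2 : k < 6 := by by_contra h0; have : 6 ≤ k := by omega
                        nlinarith
  interval_cases k
  · left; ring
  · exact absurd (Dvd.intro_left _ rfl) c
  · right; ring
  · exact absurd (Dvd.intro_left _ rfl) d

theorem not_vt {w : G} (hd : 4 * r ∣ cc w) : ¬ VT V w := fun hn => by
  rw [(h.vd hn).cc] at hd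
  have := h.big
  have := h.m_pos
  have := Nat.dvd_of_mul_dvd_mul_right (by omega) hd
  omega

theorem upperR {α a : G} (hα : VT V α) (ha : a ∈ 𝐂[α]) (h1 : a ∉ RR α) (h2 : a * a = 1) :
    Nat.card ↥(RR α ⊓ 𝐂[a]) * Nat.card ↥(RR α ⊓ 𝐂[a]) ≤ r * Nat.card V := by
  have d := h.vd hα
  obtain ⟨y, s, hs⟩ := d.s3
  rw [← d.card]
  exact hs.upper h.th le_top ha h1 h2 le_top hs.nrm.norm hs.ndvd

theorem mem_Z {α a : G} (hα : VT V α) (h2 : a * a = 1) (ha : RR α ≤ 𝐂[a]) : a ∈ ZZ (RR α) := by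
  have d := h.vd hα
  refine ⟨?_, mem_cent.2 fun k hk => (mem_cent1.1 (ha hk)).symm, h2⟩
  by_contra hn
  have := h.upperR hα (mem_cent1.2 (mem_cent1.1 (ha d.mem_R)).symm) hn h2
  rw [inf_eq_left.2 ha, d.card] at this
  have := h.big
  have := h.m_pos
  nlinarith

theorem adj_Z {α β : G} (e : Adj V α β) : β ∈ ZZ (RR α) := h.mem_Z e.l (h.vd e.r).sq e.lr

theorem key {α β γ : G} (hα : VT V α) (e : Adj V β γ) (h1 : ZZ (RR α) ≤ 𝐂[β])
    (h2 : ZZ (RR β) ≤ 𝐂[α]) : ZZ (RR α) ≤ RR β := fun a ha => by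
  by_contra hn
  have dα := h.vd hα
  have dβ := h.vd e.l
  obtain ⟨y, s, hs⟩ := dβ.s3
  have c1 : a ∉ 𝐂(ZZ (RR β)) := fun c => by
    have := S3.mem_of_nrm h.th le_top hs (Nrm.cent dβ.norm_Z) fun e1 => hn (e1 ⟨h1 ha, c⟩)
    have z := h.adj_Z e
    rcases dβ.hI y hs.xm hs.ord γ z.2.2 (mem_cent.1 this.2 γ z) z.2.1 with e1 | e1
    · exact (h.vd e.r).ne e1
    · exact e.ne e1.symm
  rw [mem_cent] at c1
  push Not at c1
  obtain ⟨b, hb, c1⟩ := c1
  have hb' : b ∉ RR α := fun e1 => c1 (mem_cent.1 ha.2.1 b e1)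
  have w1 : a * b * a⁻¹ * b⁻¹ ∈ ZZ (RR β) :=
    mul_mem (conj_mem_of_mem_normalizer (dβ.norm_Z (h1 ha)) hb) (inv_mem hb)
  have w2 : a * b * a⁻¹ * b⁻¹ ∈ ZZ (RR α) := by
    have := mul_mem ha (conj_mem_of_mem_normalizer (dα.norm_Z (h2 hb)) (inv_mem ha))
    simpa only [mul_assoc] using this
  have w3 : a * b * a⁻¹ * b⁻¹ ≠ 1 := fun e1 => c1 (by
    rw [mul_assoc, ← mul_inv_rev, mul_inv_eq_one] at e1; exact e1.symm)
  have c2 := card_mul_card_le ((le_cent_ZZ _).trans (cent_le_cent1 w2))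
    ((le_cent_ZZ _).trans (cent_le_cent1 w1))
  have c3 := h.cc_lt (ord_two w1.2.2 w3)
  have c4 := card_le_of_le (inf_le_inf_left (RR α) ((le_cent_ZZ _).trans (cent_le_cent1 hb)))
  have c5 := h.upperR hα (h2 hb) hb' hb.2.2
  rw [dα.card, dβ.card] at c2
  have := h.big
  have := h.m_pos
  change Nat.card _ < _ at c3
  generalize Nat.card ↥(RR α ⊓ RR β) = c at *
  generalize Nat.card ↥(RR α ⊓ 𝐂[b]) = c' at *
  generalize Nat.card ↥(𝐂[a * b * a⁻¹ * b⁻¹]) = c'' at *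
  have c6 : r ≤ 12 * c' := by
    by_contra h0
    have : c'' * c ≤ 12 * r * c' := Nat.mul_le_mul c3.le c4
    nlinarith
  nlinarith

theorem path : ∀ (n : ℕ) {α β : G}, Pth (Adj V) n α β → ZZ (RR α) ≤ RR β ∧ ZZ (RR β) ≤ RR α
  | 0, _, _, rfl => ⟨ZZ_le _, ZZ_le _⟩
  | n + 1, α, β, p => by
    obtain ⟨c, p1, e1⟩ := p.unsnoc
    obtain ⟨d, e2, p2⟩ := p
    have h1 := (path n p1).1.trans e1.lr
    have h2 := (path n p2).2.trans e2.rl
    exact ⟨h.key e2.l e1.symm h1 h2, h.key e1.r e2 h2 h1⟩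

theorem K_le {u α : G} (c : Cmp V u α) : KK V u ≤ RR α := KK_le fun β hβ => by
  obtain ⟨n, p⟩ := Pth.of_rtg (c.symm.trans hβ)
  exact (h.path n p).2

theorem K_sq (u : G) : ∀ k ∈ KK V u, k * k = 1 := by
  have : KK V u ≤ ZZ (KK V u) := KK_le fun β hβ z hz =>
    ⟨hβ.Z_le hz, cent_anti (h.K_le hβ) hz.2.1, hz.2.2⟩
  exact fun k hk => (this hk).2.2

theorem K_pg (u : G) : IsPGroup 2 (KK V u) := pg2_of_sq (h.K_sq u)

end PB

end PZ

end Cfsg.Agent.Z6
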