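import Cfsg.Agent.Z6.PZ2
import Cfsg.Agent.Z6.Lem

/-!
# The path argument, part 3: the first edge; the soluble cases
-/

set_option autoImplicit false
set_option linter.unusedSectionVars false

namespace Cfsg.Agent.Z6

open Subgroup Cfsg.Agent.Local Cfsg.Agent.FT Cfsg.Agent.Char
open scoped Pointwise

universe u

variable {G : Type u} [Group G] [Finite G]

namespace PZ

theorem VT.of_conj {V : Subgroup G} {α β : G} (h : VT V α) (e : IsConj α β) : VT V β := by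
  obtain ⟨v, hv, h1, e1⟩ := h
  exact ⟨v, hv, h1, e1.trans e⟩

theorem dvd_two_pow {j k : ℕ} (h : j ∣ 2 ^ k) : j = 1 ∨ 2 ∣ j := by
  obtain ⟨i, -, rfl⟩ := (Nat.dvd_prime_pow Nat.prime_two).1 h
  rcases i with _ | i
  · left; rfl
  · right; exact dvd_pow_self 2 (by omega)

theorem comm_inv {c t : G} (c2 : c * c = 1) (t2 : t * t = 1)
    (h : c * (t * c * t⁻¹) = t * c * t⁻¹ * c) : t * (c * t * c⁻¹ * t⁻¹) = c * t * c⁻¹ * t⁻¹ * t := by
  rw [inv_self t2] at h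
  rw [inv_self c2, inv_self t2]
  calc _ = t * c * t * c * t := by simp only [mul_assoc]
    _ = _ := by rw [← h]; simp only [mul_assoc]

theorem norm_inf_cent {a b g : G} (g2 : g * g = 1)
    (h1 : ∀ d, Commute a d → Commute b d → Commute (g * a * g⁻¹) d)
    (h2 : ∀ d, Commute a d → Commute b d → Commute (g * b * g⁻¹) d) : g ∈ 𝐍(𝐂[a] ⊓ 𝐂[b]) := by
  have key : ∀ c d : G, Commute (g * c * g⁻¹) d → c * (g * d * g⁻¹) = g * d * g⁻¹ * c :=
    fun c d e => by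
      have e := e.eq
      rw [inv_self g2] at e ⊢
      calc _ = g * g * c * (g * d * g) := by rw [g2, one_mul]
        _ = g * (g * c * g * d) * g := by group
        _ = g * d * g * c * (g * g) := by rw [e]; group
        _ = _ := by rw [g2, mul_one]
  exact mem_normalizer_of_conj_mem fun d hd =>
    ⟨mem_cent1.2 (key a d (h1 d (mem_cent1.1 hd.1) (mem_cent1.1 hd.2))),
      mem_cent1.2 (key b d (h2 d (mem_cent1.1 hd.1) (mem_cent1.1 hd.2)))⟩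

namespace PB

variable {x t : G} {V : Subgroup G} {r : ℕ} (h : PB x V t r)
include h

theorem r_pos : 0 < r := by have := h.big; have := h.m_pos; omega

theorem r_ndvd : ¬ 3 ∣ r := by
  obtain ⟨k, rfl⟩ := h.r_pow
  exact fun e => by simpa using Nat.le_of_dvd two_pos (Nat.prime_three.dvd_of_dvd_pow e)

theorem S_card {u : G} (hu : u ∈ V) (h1 : u ≠ 1) : Nat.card ↥(RR u ⊔ zpowers t) = 2 * r := by
  have s := h.s3 u hu h1
  rw [PG.card_sup_zpowers (p := 2) (s.nrm.norm s.tm) s.t_not (by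
    rw [pow_two, h.t2]; exact one_mem _), h.card u hu h1]

theorem S_le {u : G} (hu : u ∈ V) : RR u ⊔ zpowers t ≤ 𝐂[u] :=
  sup_le (core_le _ _) (zpowers_le.2 (h.toFus.t_mem hu))

theorem pg_of_card {S : Subgroup G} (c : Nat.card S = 2 * r) : IsPGroup 2 S := by
  obtain ⟨k, hk⟩ := h.r_pow
  exact isPGroup_of_card_eq_pow (n := k + 1) (by rw [c, hk]; ring)

theorem adj_of {u w : G} (hu : u ∈ V) (h1 : u ≠ 1) (hw : VT V w) (hne : u ≠ w)
    (hS : RR u ⊔ zpowers t ≤ 𝐂[w]) : Adj V u w :=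
  ⟨VT.of_mem hu h1, hw, hne, le_sup_left.trans hS,
    ((h.vd hw).R_le hS (h.pg_of_card (h.S_card hu h1)) (h.S_card hu h1)).trans (h.S_le hu)⟩

theorem vt_of (h4 : ¬ 4 * r ∣ Nat.card G) {w : G} (hw : orderOf w = 2) {S : Subgroup G}
    (c : Nat.card S = 2 * r) (hS : S ≤ 𝐂[w]) : VT V w := by
  by_contra hn
  have d : cc w ∣ Nat.card G := card_subgroup_dvd_card _
  rcases h.sp2 hw hn (c ▸ card_dvd_of_le hS) with e | e
  · exact h4 (e ▸ d)
  · exact h4 (Dvd.dvd.trans ⟨2, by ring⟩ (e ▸ d))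

theorem sylow_of (h4 : ¬ 4 * r ∣ Nat.card G) {S : Subgroup G} (c : Nat.card S = 2 * r) :
    IsSylowIn 2 S ⊤ := by
  refine ⟨le_top, h.pg_of_card c, fun ⟨j, hj⟩ => h4 ⟨j, ?_⟩⟩
  rw [← card_top, ← card_mul_relIndex (le_top : S ≤ ⊤), c, hj]; ring

theorem four_dvd (h4 : 4 * r ∣ Nat.card G) {P : Subgroup G} (hP : IsSylowIn 2 P ⊤) :
    4 * r ∣ Nat.card P := by
  obtain ⟨k, hk⟩ := h.r_pow
  rw [← card_top, ← card_mul_relIndex (le_top : P ≤ ⊤)] at h4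
  refine Nat.Coprime.dvd_of_dvd_mul_right ?_ h4
  rw [hk, show 4 * 2 ^ k = 2 ^ (k + 2) by ring]
  exact Nat.Coprime.pow_left _ (cop2 hP.not_dvd).symm

theorem edge1 (h4 : 4 * r ∣ Nat.card G) {u : G} (hu : u ∈ V) (h1 : u ≠ 1) :
    ∃ w, Adj V u w ∧ RR u ⊔ zpowers t ≤ 𝐂[w] := by
  have c := h.S_card hu h1
  have pS := h.pg_of_card c
  have hS := h.S_le hu
  set S := RR u ⊔ zpowers t
  obtain ⟨P, hP, hSP⟩ := exists_isSylowIn_ge pS (le_top : S ≤ ⊤)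
  have lt : S < P := lt_of_le_of_ne hSP fun e => by
    have := h.four_dvd h4 hP
    rw [← e, c] at this
    have := Nat.dvd_of_mul_dvd_mul_right h.r_pos this
    omega
  obtain ⟨s, s1, s2, s3⟩ := exists_mem_normalizer_of_lt_of_isNilpotent hP.isPGroup.isNilpotent lt
  have d := h.vd (VT.of_mem hu h1)
  have s4 : s ∉ 𝐂[u] := fun e => by
    have h2 : IsSylowIn 2 S 𝐂[u] := by
      refine ⟨hS, pS, ?_⟩
      have e := card_mul_relIndex hS
      have e2 := d.cc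
      rw [Z6.cc, ← e, c] at e2
      have : S.relIndex 𝐂[u] = 3 :=
        Nat.eq_of_mul_eq_mul_left (by have := h.r_pos; omega : 0 < 2 * r) (by rw [e2]; ring)
      omega
    have := h2.eq_of_le (isPGroup_of_le hP.isPGroup (inf_le_left : P ⊓ 𝐂[u] ≤ P))
      (le_inf hSP hS) inf_le_right
    exact s3 (this.le ⟨s1, e⟩)
  have h5 : S ≤ 𝐂[s * u * s⁻¹] := by
    rw [cent_conj, ← mem_normalizer_iff_conj_smul_eq.1 s2]
    exact conj_smul_le_iff.2 hS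
  exact ⟨_, h.adj_of hu h1 ((VT.of_mem hu h1).conj s) (fun e => s4 (mem_cent1.2 (by
    rw [eq_mul_inv_iff_mul_eq] at e; exact e))) h5, h5⟩

theorem edge2 (h4 : ¬ 4 * r ∣ Nat.card G) {u v : G} (hu : u ∈ V) (h1 : u ≠ 1) (hv : v ∈ V)
    (v1 : v ≠ 1) (hne : v ≠ u) : ∃ w, IsConj v w ∧ Adj V u w ∧ RR u ⊔ zpowers t ≤ 𝐂[w] := by
  obtain ⟨g, -, hg⟩ := (h.sylow_of h4 (h.S_card hv v1)).exists_conj (h.sylow_of h4 (h.S_card hu h1))
  have h5 : RR u ⊔ zpowers t ≤ 𝐂[g * v * g⁻¹] := by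
    rw [cent_conj, ← hg]
    exact conj_smul_le_iff.2 (h.S_le hv)
  have e : IsConj v (g * v * g⁻¹) := isConj_iff.2 ⟨g, rfl⟩
  exact ⟨_, e, h.adj_of hu h1 ((VT.of_mem hv v1).conj g)
    (fun e1 => hne (h.toFus.eq_of_conj hv hu (e1 ▸ e))) h5, h5⟩

theorem edge3 (h4 : ¬ 4 * r ∣ Nat.card G) {u w : G} (hu : u ∈ V) (h1 : u ≠ 1)
    (hw : w ∈ ZZ (RR u)) (w1 : w ≠ 1) (hne : w ≠ u) :
    ∃ w, Adj V u w ∧ RR u ⊔ zpowers t ≤ 𝐂[w] := by
  have d := h.vd (VT.of_mem hu h1)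
  have tN := d.norm_Z (h.toFus.t_mem hu)
  have : ¬ ZZ (RR u) ⊓ 𝐂[t] ≤ zpowers u := fun e => by
    have c1 := card_le_comm (ZZ (RR u)) (ZZ (RR u) ⊓ 𝐂[t]) t fun c hc => by
      have h2 := conj_mem_of_mem_normalizer tN hc
      refine mem_inf.2 ⟨?_, mem_cent1.2 (comm_inv hc.2.2 h.t2 (mem_cent.1 h2.2.1 c hc.1))⟩
      rw [inv_self hc.2.2]
      simpa only [mul_assoc] using mul_mem hc h2
    have c2 := (card_le_of_le e).trans (card_zp2 d.sq)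
    have c3 := h.th.modEq le_top (d.norm_Z (h.toFus.x_mem hu)) (ndvd_of_pg2 (ZZ_pg (RR u)))
    have c4 : ZZ (RR u) ⊓ V = zpowers u := le_antisymm
      (fun a ha => h.hI u hu h1 ⟨ha.2, ha.1.2.1⟩) (zpowers_le.2 ⟨d.mem_Z, hu⟩)
    have c5 : zpowers u < ZZ (RR u) := lt_of_le_of_ne (zpowers_le.2 d.mem_Z) fun e =>
      (mem_zp2 d.sq (e.ge hw)).elim w1 hne
    have c6 := card_lt_of_lt' c5
    rw [c4] at c3
    rw [Nat.card_zpowers, d.ord] at c3 c6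
    have : Nat.card (ZZ (RR u)) ≤ 4 := c1.trans (Nat.mul_le_mul c2 c2)
    omega
  obtain ⟨z, hz, z1⟩ := SetLike.not_le_iff_exists.1 this
  have h5 : RR u ⊔ zpowers t ≤ 𝐂[z] := sup_le ((le_cent_ZZ _).trans (cent_le_cent1 hz.1))
    (zpowers_le.2 (mem_cent1.2 (mem_cent1.1 hz.2).symm))
  exact ⟨z, h.adj_of hu h1 (h.vt_of h4 (ord_two hz.1.2.2 fun e => z1 (e ▸ one_mem _))
    (h.S_card hu h1) h5) (fun e => z1 (e ▸ mem_zpowers u)) h5, h5⟩

theorem thM {u : G} (hu : u ∈ V) {M : Subgroup G} (hM : 𝐂[u] ≤ M) : TH M x V :=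
  h.th.sub' le_top (hM (h.toFus.x_mem hu)) ((h.toFus.V_le hu).trans hM)

theorem beta {u : G} (hu : u ∈ V) (h1 : u ≠ 1) {M K O : Subgroup G} (hM : 𝐂[u] ≤ M) (hK : K ⊴ M)
    (pK : IsPGroup 2 K) (uK : u ∈ K) (s : S3 M O x t) : IsPGroup 2 O := by
  by_contra hO
  rw [← piGrp_singleton_iff, PiGrp, PiNat] at hO
  push Not at hO
  obtain ⟨q, hq, q1, q2⟩ := hO
  have q2 : q ≠ 2 := q2
  have q3 : q ≠ 3 := fun e => s.ndvd (e ▸ q1)
  have q5 : q ≠ 5 := fun e => h.th.five ((e ▸ q1).trans (card_dvd_of_le le_top))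
  have q7 : 7 ≤ q := by
    by_contra h0
    have : q < 7 := by omega
    interval_cases q <;> first | omega | norm_num at hq
  have : Fact q.Prime := ⟨hq⟩
  obtain ⟨Q, hQ, xQ, ⟨n, hn⟩⟩ := h.th.s3q q q2 h.t2 h.inv h.tV (L := O) le_top s.xn
    (s.nrm.norm s.tm) s.ndvd
  have c49 : 49 ≤ Nat.card Q := by
    have e := hQ.dvd_card_iff.2 q1
    rw [hn] at e
    have p : 0 < Nat.card Q := Nat.card_pos
    have := Nat.le_of_dvd (Nat.pos_of_ne_zero fun e => by rw [hn, e] at p; omega)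
      ((hq.dvd_mul.1 e).elim id id)
    nlinarith
  obtain ⟨j, hj⟩ := PG.card_eq_pow hQ.isPGroup
  have nd : ∀ p, p.Prime → q ≠ p → ¬ p ∣ Nat.card Q := fun p hp e e1 =>
    e ((Nat.prime_dvd_prime_iff_eq hp hq).1 (hp.dvd_of_dvd_pow (hj ▸ e1))).symm
  have o := nd 2 Nat.prime_two q2
  have o3 := nd 3 Nat.prime_three q3
  have d := h.vd (VT.of_mem hu h1)
  obtain ⟨k, hk⟩ := h.r_pow
  have cr : (Nat.card Q).Coprime r := hk ▸ Nat.Coprime.pow_right _ (cop2 o)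
  have hQu : Q ⊓ 𝐂[u] = ⊥ := inf_eq_bot_of_coprime' (by
    rw [show Nat.card 𝐂[u] = 2 * 3 * r from d.cc]
    exact ((cop2 o).mul_right (cop3 o3)).mul_right cr)
  have QM := hQ.le.trans s.nrm.le
  have kill : ∀ F : Subgroup G, IsPGroup 2 F → M ≤ 𝐍(F) → u ∈ F → ¬ Nat.card ↥(F ⊓ V) ≤ 2 :=
    fun F pF hF uF c => by
      have := h.th.q7 le_top xQ o o3 le_top pF (hF s.xm) (QM.trans hF)
        (eq_bot_iff.2 ((inf_le_inf_left Q (cent_le_cent1 uF)).trans hQu.le)) (by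
          have : 0 < Nat.card ↥(F ⊓ V ⊓ 𝐂(Q)) := Nat.card_pos
          omega)
      have := Nat.le_of_dvd (by norm_num) this
      omega
  have hVK : V ≤ K := by
    have c := kill K pK hK.norm uK
    have c2 := card_dvd_of_le (inf_le_right : K ⊓ V ≤ V)
    refine inf_eq_right.1 (eq_of_le_of_card_ge inf_le_right ?_)
    rcases h.cardV with e | e <;> rw [e] at c2 ⊢
    · exact absurd (Nat.le_of_dvd two_pos c2) c
    · have := Nat.le_of_dvd four_pos c2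
      generalize Nat.card ↥(K ⊓ V) = n at *
      interval_cases n <;> omega
  have hKO : K ≤ O := s.le_O' hK.le (ndvd_of_pg2 pK) (hK.norm s.xm)
  have nil := (h.thM hu hM).nil_quo hK hVK s.nrm.le hKO s.xn s.ndvd
  have hRM := d.nrm.le.trans hM
  have hRO : RR u ≤ O := s.le_O' hRM d.ndvd (d.nrm.norm (h.toFus.x_mem hu))
  set B := coquo K (core {2} (quo K O))
  have hB : B ⊴ M := coquo_nrm_of_nrm_quo hK (core_nrm_of_nrm _ (quo_nrm K s.nrm))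
  have pB : IsPGroup 2 B := isPGroup_coquo pK (isPGroup_core 2 _)
  have hRB : RR u ≤ B := (quo_le_iff (hRM.trans hK.norm)).1
    (le_core_of_nil nil (quo_mono K hRO) (piGrp_singleton_iff.2 (isPGroup_quo d.pg K)))
  have hF := hB.norm.trans (norm_ZZ B)
  have hFV : ZZ B ⊓ V ≤ zpowers u := fun a ha => h.hI u hu h1 ⟨ha.2, cent_anti hRB ha.1.2.1⟩
  have uF : u ∉ ZZ B := fun e => kill _ (ZZ_pg B) hF e ((card_le_of_le hFV).trans (card_zp2 d.sq))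
  have h7 := h.th.fm' le_top xQ o o3 le_top (ZZ_pg B) (hF s.xm) (QM.trans hF)
    (eq_bot_iff.2 fun a ha => (mem_zp2 d.sq (hFV ha)).resolve_right fun e => uF (e ▸ ha.1))
  obtain ⟨f, hf, f1⟩ := exists_ZZ pB fun e => h1 (mem_bot.1 (e ▸ hRB d.mem_R))
  have c1 := card_dvd_of_le (h7.trans (cent_le_cent1 hf))
  have c2 := card_dvd_of_le (hRB.trans ((le_cent_ZZ B).trans (cent_le_cent1 hf)))
  rw [d.card] at c2
  have c3 := Nat.le_of_dvd Nat.card_pos (cr.mul_dvd_of_dvd_of_dvd c1 c2)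
  have c4 := h.cc_lt (ord_two hf.2.2 f1)
  change Nat.card _ < _ at c4
  nlinarith

theorem gamma {u : G} (hu : u ∈ V) (h1 : u ≠ 1) {M B : Subgroup G} (hM : 𝐂[u] ≤ M)
    (s : S3 M B x t) (pB : IsPGroup 2 B) : M ≤ 𝐂[u] := by
  by_contra hne
  have d := h.vd (VT.of_mem hu h1)
  have hRB : RR u ≤ B := s.le_O' (d.nrm.le.trans hM) d.ndvd (d.nrm.norm (h.toFus.x_mem hu))
  have hVR := h.toPS.V_le_R hu h1
  have rp := h.r_pos
  have big := h.big
  have mp := h.m_pos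
  have ml := h.m_le
  have b4 : 4 * r ∣ Nat.card B := by
    have lt : RR u < B := lt_of_le_of_ne hRB fun e => hne (eq_of_le_of_card_ge hM (by
      rw [s.card, ← e, d.card]; exact d.cc.ge)).ge
    obtain ⟨j, hj⟩ := PG.mul_card_dvd_of_lt pB lt
    obtain ⟨k, hk⟩ := PG.card_eq_pow pB
    rw [d.card] at hj
    rcases dvd_two_pow (k := k) (hk ▸ Dvd.intro_left _ hj.symm) with rfl | ⟨i, rfl⟩
    · have c1 := h.th.modEq le_top s.xn s.ndvd
      have c2 := h.th.modEq le_top (d.nrm.norm (h.toFus.x_mem hu)) d.ndvd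
      rw [inf_eq_right.2 (hVR.trans hRB)] at c1
      rw [inf_eq_right.2 hVR, d.card] at c2
      have := h.r_ndvd
      omega
    · exact ⟨i, by rw [hj]; ring⟩
  have BC : ∀ f ∈ ZZ B, B ≤ 𝐂[f] := fun f hf => (le_cent_ZZ B).trans (cent_le_cent1 hf)
  have nvt : ∀ f ∈ ZZ B, ¬ VT V f := fun f hf => h.not_vt (b4.trans (card_dvd_of_le (BC f hf)))
  obtain ⟨f0, hf0, f01⟩ := exists_ZZ pB fun e => h1 (mem_bot.1 (e ▸ hRB d.mem_R))
  obtain ⟨v, hv, e⟩ := h.cls f0 (ord_two hf0.2.2 f01)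
  have F := h.toFus.shift hv
  have τo := h.toFus.ord' hv
  set τ := t * v
  have τn : ¬ VT V τ := fun e1 => nvt f0 hf0 (e1.of_conj e)
  have τM : τ ∈ M := hM (F.t_mem hu)
  have τB : τ ∉ B := fun e1 => inv_not_mem s.ord s.xn s.ndvd F.inv (mem_sup_left e1)
  have hF := s.nrm.norm.trans (norm_ZZ B)
  have c1 : τ ∉ 𝐂(ZZ B) := fun c => by
    have := S3.mem_of_nrm h.th le_top s (Nrm.cent hF) fun e1 => τB (e1 ⟨τM, c⟩)
    exact nvt f0 hf0 (VT.of_mem (h.th.mem_V (mem_top _) (mem_cent.1 this.2 f0 hf0)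
      (ndvd_ord_of_sq hf0.2.2)) f01)
  rw [mem_cent] at c1
  push Not at c1
  obtain ⟨z, hz, c1⟩ := c1
  obtain ⟨w, hw⟩ : ∃ w, w = z * τ * z⁻¹ * τ⁻¹ := ⟨_, rfl⟩
  have zτ := conj_mem_of_mem_normalizer (hF τM) hz
  have hw' : w = z * (τ * z * τ⁻¹) := by rw [hw, inv_self hz.2.2]; group
  have wZ : w ∈ ZZ B := hw' ▸ mul_mem hz zτ
  have w1 : w ≠ 1 := fun e1 => c1 (by
    rw [hw, mul_assoc, ← mul_inv_rev, mul_inv_eq_one] at e1; exact e1)
  have wτ : τ * w = w * τ := hw ▸ comm_inv hz.2.2 F.t2 (mem_cent.1 zτ.2.1 z hz.1)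
  have wo := ord_two wZ.2.2 w1
  have cT : Nat.card ↥(B ⊔ zpowers τ) = 2 * Nat.card B :=
    PG.card_sup_zpowers (p := 2) (s.nrm.norm τM) τB (by rw [pow_two, F.t2]; exact one_mem _)
  have pT : IsPGroup 2 ↥(B ⊔ zpowers τ) := by
    obtain ⟨k, hk⟩ := PG.card_eq_pow pB
    exact isPGroup_of_card_eq_pow (n := k + 1) (by rw [cT, hk]; ring)
  have hT : B ⊔ zpowers τ ≤ 𝐂[w] := sup_le (BC w wZ) (zpowers_le.2 (mem_cent1.2 wτ.symm))
  have bp : 0 < Nat.card B := Nat.card_pos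
  have cw : cc w = 2 * Nat.card B ∧ Nat.card B = 4 * r := by
    have e1 := cT ▸ card_dvd_of_le hT
    have e2 := Nat.le_of_dvd bp b4
    have e3 : 2 * Nat.card B ≤ cc w := Nat.le_of_dvd Nat.card_pos e1
    rcases h.sp2 wo (nvt w wZ) (Dvd.dvd.trans (Nat.mul_dvd_mul_left 2
      (Dvd.dvd.trans ⟨4, by ring⟩ b4)) e1) with e4 | e4 <;> omega
  have hT' : 𝐂[w] = B ⊔ zpowers τ := (eq_of_le_of_card_ge hT (by rw [cT]; exact cw.1.le)).symm
  obtain ⟨g, hg⟩ := isConj_iff.1 (h.toFus.sp_conj h.V_ne wo (h.spec wo (nvt w wZ)) τo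
    (h.spec τo τn))
  have τZ : τ ∈ ZZ (MulAut.conj g • B) := hg ▸ conj_mem_ZZ g wZ
  have cB' := card_conj_smul g B
  have up := h.th.upper (mem_top x) s.ord F.t2 F.inv le_top s.xn s.ndvd
  have lo := h.th.lower (mem_top τ) F.t2 F.inv le_top s.xn (s.nrm.norm τM) s.ndvd
  by_cases c2 : ∃ f ∈ ZZ (MulAut.conj g • B), f ∈ B ∧ f ≠ 1
  · obtain ⟨f, hf, fB, f1⟩ := c2
    have hf' : g⁻¹ * f * g ∈ ZZ B := by rwa [ZZ_conj, Local.mem_conj_smul_iff] at hf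
    have fo := ord_two hf.2.2 f1
    have fn : ¬ VT V f := fun e1 => nvt _ hf' (by simpa using e1.conj g⁻¹)
    have c3 : cc f = cc w :=
      cc_conj (h.toFus.sp_conj h.V_ne fo (h.spec fo fn) wo (h.spec wo (nvt w wZ)))
    have c4 := nrm_two ((le_cent_ZZ _).trans (cent_le_cent1 hf)) (by
      rw [cB']; exact (c3.trans cw.1).le)
    have c5 := norm_ZZ _ (c4.norm (mem_cent1.2 (mem_cent.1 hz.2.1 f fB)))
    have c6 : w ∈ ZZ (MulAut.conj g • B) :=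
      hw ▸ mul_mem (conj_mem_of_mem_normalizer c5 τZ) (inv_mem τZ)
    have c7 := card_mul_card_le (BC w wZ) ((le_cent_ZZ _).trans (cent_le_cent1 c6))
    have c8 := card_le_of_le (inf_le_inf_left B ((le_cent_ZZ _).trans (cent_le_cent1 τZ)))
    rw [cB', show Nat.card 𝐂[w] = _ from cw.1] at c7
    generalize Nat.card ↥(B ⊓ MulAut.conj g • B) = c at *
    generalize Nat.card ↥(B ⊓ 𝐂[τ]) = c' at *
    have c9 : Nat.card B ≤ 2 * c' := by nlinarith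
    rw [cw.2] at *
    nlinarith
  push Not at c2
  have fZ := conj_mem_ZZ g hz
  obtain ⟨f, hf⟩ : ∃ f, f = g * z * g⁻¹ := ⟨_, rfl⟩
  rw [← hf] at fZ
  have wB : w ∉ MulAut.conj g • B := fun e1 => by
    have e2 : ZZ (MulAut.conj g • B) ≤ B ⊔ zpowers τ := by
      rw [← hT']; exact (ZZ_cent _).trans (cent_le_cent1 e1)
    have z1 : z ≠ 1 := fun e3 => c1 (by rw [e3, one_mul, mul_one])
    have e3 := c2 _ (mul_mem fZ τZ) (mul_mem_two le_sup_left cT (e2 fZ) (e2 τZ)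
      (fun e4 => conj_ne_one z1 g (hf ▸ c2 f fZ e4)) τB)
    rw [mul_eq_one_iff_eq_inv, inv_self F.t2, hf, ← hg] at e3
    have e4 : z = w := by simpa using e3
    exact c1 (by rw [e4, wτ])
  have hTτ : 𝐂[τ] = MulAut.conj g • (B ⊔ zpowers τ) := by rw [← hT', ← cent_conj, hg]
  have bB : w * (g * τ * g⁻¹) ∈ MulAut.conj g • B :=
    mul_mem_two (X := 𝐂[τ]) ((le_cent_ZZ _).trans (cent_le_cent1 τZ)) (by
      rw [hTτ, card_conj_smul, cT, cB']) (mem_cent1.2 wτ)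
      (hTτ ▸ conj_mem_conj_smul g (mem_sup_right (mem_zpowers τ))) wB fun e1 => τB (by
        simpa [mul_assoc] using Local.mem_conj_smul_iff.1 e1)
  have r1 : f * w * f⁻¹ = τ * w := by
    have e1 : f * (g * τ * g⁻¹) * f⁻¹ = τ * (g * τ * g⁻¹) := by
      calc _ = g * (z * τ * z⁻¹ * τ⁻¹) * g⁻¹ * (g * τ * g⁻¹) := by rw [hf]; group
        _ = _ := by rw [← hw, hg]
    have e2 := mem_cent.1 fZ.2.1 _ bB
    have e3 := mem_cent.1 τZ.2.1 _ bB
    have e4 := conj_sq F.t2 g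
    generalize g * τ * g⁻¹ = τ' at *
    calc f * w * f⁻¹ = f * w * (τ' * τ') * f⁻¹ := by rw [e4, mul_one]
      _ = f * (w * τ') * τ' * f⁻¹ := by group
      _ = w * τ' * (f * τ' * f⁻¹) := by rw [← e2]; group
      _ = (w * τ' * τ) * τ' := by rw [e1]; group
      _ = τ * w * (τ' * τ') := by rw [e3]; group
      _ = _ := by rw [e4, mul_one]
  have r2 : f * τ * f⁻¹ = τ := by rw [mem_cent.1 τZ.2.1 f fZ.1, mul_inv_cancel_right]
  have r3 : z * τ * z⁻¹ = w * τ := by rw [hw]; group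
  have r4 : z * w * z⁻¹ = w := by rw [mem_cent.1 wZ.2.1 z hz.1, mul_inv_cancel_right]
  have p1 : f * z * τ * (f * z)⁻¹ = w := by
    calc _ = f * (z * τ * z⁻¹) * f⁻¹ := by group
      _ = f * w * f⁻¹ * (f * τ * f⁻¹) := by rw [r3]; group
      _ = w * (τ * τ) := by rw [r1, r2, wτ, mul_assoc]
      _ = w := by rw [F.t2, mul_one]
  have p2 : f * z * w * (f * z)⁻¹ = τ * w := by
    calc _ = f * (z * w * z⁻¹) * f⁻¹ := by group
      _ = _ := by rw [r4, r1]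
  have p3 : 3 ∣ orderOf (f * z) := by
    by_contra h3
    have e1 : (f * z) ^ 3 ∈ 𝐂[τ] := by
      generalize f * z = p at *
      rw [mem_cent1, ← mul_inv_eq_iff_eq_mul.1 (show p ^ 3 * τ * (p ^ 3)⁻¹ = τ by
        calc _ = p * (p * (p * τ * p⁻¹) * p⁻¹) * p⁻¹ := by rw [pow_three']; group
          _ = p * (τ * w) * p⁻¹ := by rw [p1, p2]
          _ = p * τ * p⁻¹ * (p * w * p⁻¹) := by group
          _ = τ * (w * w) := by rw [p1, p2, ← mul_assoc, ← wτ, mul_assoc]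
          _ = τ := by rw [wZ.2.2, mul_one])]
    have e2 := pow_mem_iff_of_coprime' (cop3 h3) (by rw [pow_orderOf_eq_one]; exact one_mem _) e1
    rw [← mem_cent1.1 e2, mul_inv_cancel_right] at p1
    exact τB (p1 ▸ wZ.1)
  obtain ⟨y, hy, y3, -, y1⟩ := exists_inv_three fZ.2.2 hz.2.2 p3
  have n1 : f ∈ 𝐍(𝐂[τ] ⊓ 𝐂[w]) := norm_inf_cent fZ.2.2 (fun d a _ => by rwa [r2])
    fun d a b => by rw [r1]; exact a.mul_left b
  have n2 : z ∈ 𝐍(𝐂[τ] ⊓ 𝐂[w]) := norm_inf_cent hz.2.2 (fun d a b => by rw [r3]; exact b.mul_left a)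
    fun d _ b => by rwa [r4]
  have c3 := h.th.upper (mem_top y) y3 hz.2.2 y1 le_top (zpowers_le.2 (mul_mem n1 n2) hy)
    (ndvd_of_pg2 (isPGroup_of_le pT (inf_le_right.trans hT'.le)))
  have c4 := card_mul_card_le (BC w wZ) (inf_le_right : 𝐂[τ] ⊓ 𝐂[w] ≤ 𝐂[w])
  have c5 := card_le_of_le (inf_le_inf_left B (inf_le_left : 𝐂[τ] ⊓ 𝐂[w] ≤ 𝐂[τ]))
  have c6 := card_le_of_le (show B ⊓ 𝐂[τ] ≤ 𝐂[τ] ⊓ 𝐂[w] ⊓ 𝐂[z] from
    le_inf (le_inf inf_le_right (inf_le_left.trans (BC w wZ))) (inf_le_left.trans (BC z hz)))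
  rw [show Nat.card 𝐂[w] = _ from cw.1] at c4
  have cp : 0 < Nat.card ↥(B ⊓ 𝐂[τ]) := Nat.card_pos
  generalize Nat.card ↥(B ⊓ (𝐂[τ] ⊓ 𝐂[w])) = c at *
  generalize Nat.card ↥(B ⊓ 𝐂[τ]) = c' at *
  generalize Nat.card ↥(𝐂[τ] ⊓ 𝐂[w] ⊓ 𝐂[z]) = c'' at *
  generalize Nat.card ↥(𝐂[τ] ⊓ 𝐂[w]) = D at *
  have c7 : D ≤ 2 * c' := by nlinarith
  have c8 : c' ≤ 2 * Nat.card V := by nlinarith
  rw [cw.2] at lo
  have c9 : c' * c' ≤ 8 * 8 := Nat.mul_le_mul (by omega) (by omega)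
  nlinarith

end PB

end PZ

end Cfsg.Agent.Z6
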