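import Cfsg.Agent.Z6.Odd

/-!
# The case `Ω₁ Z(R) = ⟨v⟩`: local structure
-/

set_option autoImplicit false
set_option linter.unusedSectionVars false

namespace Cfsg.Agent.Z6

open Subgroup Cfsg.Agent.Local Cfsg.Agent.FT Cfsg.Agent.Char
open scoped Pointwise

universe u

variable {G : Type u} [Group G] [Finite G]

/-- `a` and `b` commute modulo `⟨α⟩` -/
def cm (α a b : G) : Prop := a * b * a⁻¹ * b⁻¹ ∈ zpowers α

theorem cm.conj {α a b : G} (h : cm α a b) (g : G) :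
    cm (g * α * g⁻¹) (g * a * g⁻¹) (g * b * g⁻¹) := by
  obtain ⟨k, hk⟩ := mem_zpowers_iff.1 h
  exact mem_zpowers_iff.2 ⟨k, by rw [conj_zpow, hk]; group⟩

theorem cm.eq {α a b : G} (h : cm α a b) : ∃ w ∈ zpowers α, b * a * b⁻¹ = w * a :=
  ⟨_, inv_mem h, by group⟩

theorem cm_of_commute (α : G) {a b : G} (h : a * b = b * a) : cm α a b := by
  rw [cm, h, mul_inv_cancel_right, mul_inv_cancel]; exact one_mem _

theorem zp_le_norm (α : G) : 𝐂[α] ≤ 𝐍(zpowers α) :=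
  (cent_zpowers α).ge.trans (centralizer_le_normalizer' _)

theorem comm_zp {α w c : G} (hw : w ∈ zpowers α) (hc : c ∈ 𝐂[α]) : w * c = c * w :=
  (cent_zpowers α).ge hc w hw

theorem cm_iff {α a b : G} (ha : a ∈ 𝐂[α]) (hb : b ∈ 𝐂[α]) :
    cm α a b ↔ Commute (cos (zpowers α) a) (cos (zpowers α) b) := by
  have a1 := zp_le_norm α ha
  have b1 := zp_le_norm α hb
  rw [commute_iff_eq, ← (cos _).map_mul a1 b1, ← (cos _).map_mul b1 a1,
    cos_eq_iff (mul_mem a1 b1) (mul_mem b1 a1), cm, mul_inv_rev, mul_assoc (a * b)]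

theorem half {α β : G} (hα : orderOf α = 2) {L : Subgroup G} (h : ∀ l ∈ L, cm α β l) :
    Nat.card L ≤ 2 * Nat.card ↥(L ⊓ 𝐂[β]) := by
  rw [← card_inf_mul_relIndex 𝐂[β] L, ← ncard_conjIn, mul_comm, inf_comm]
  refine Nat.mul_le_mul_right _ ((Set.ncard_le_ncard (t := {β, α * β}) ?_).trans
    ((Set.ncard_insert_le _ _).trans (by simp)))
  rintro _ ⟨l, hl, rfl⟩
  obtain ⟨w, hw, e⟩ := (h l hl).eq
  rcases mem_zpowers_two hα hw with rfl | rfl <;> simp [e]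

theorem conj_sq {a : G} (h : a * a = 1) (g : G) : g * a * g⁻¹ * (g * a * g⁻¹) = 1 := by
  calc _ = g * (a * a) * g⁻¹ := by group
    _ = 1 := by rw [h]; group

theorem exists_cm {v : G} {S N : Subgroup G} (pS : IsPGroup 2 S) (hS : S ≤ 𝐂[v]) (hN : N ⊴ S)
    (h : ¬ N ≤ zpowers v) :
    ∃ a ∈ N, a ∉ zpowers v ∧ a * a ∈ zpowers v ∧ ∀ s ∈ S, cm v a s := by
  have hn := hS.trans (zp_le_norm v)
  obtain ⟨g, hg, gp⟩ := exists_prime_mem (inf_cen_ne_bot (isPGroup_quo pS _).isNilpotent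
    (quo_nrm _ hN) (mt (quo_eq_bot_iff (hN.le.trans hn)).1 h))
  obtain ⟨a, a1, ha, rfl⟩ := mem_quo.1 hg.1
  refine ⟨a, ha, fun e => ne_one_of_prime gp ((cos_eq_one_iff a1).2 e), ?_, fun s hs =>
    (cm_iff (hS (hN.le ha)) (hS hs)).2 (hg.2.2 _ (cos_mem_quo (hn hs) hs)).symm⟩
  obtain ⟨n, e⟩ := PG.card_eq_pow (isPGroup_quo pS (zpowers v))
  have := (Nat.prime_dvd_prime_iff_eq gp Nat.prime_two).1 (gp.dvd_of_dvd_pow
    (e ▸ orderOf_dvd_card_of_mem hg.2.1))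
  rw [← cos_eq_one_iff (mul_mem a1 a1), (cos _).map_mul a1 a1, sq_of_two this]

/-- The local structure at a conjugate `α` of `v`. -/
structure LC (α y s : G) (r : ℕ) : Prop where
  th : TH ⊤ y (zpowers α)
  ord : orderOf α = 2
  s3 : S3 𝐂[α] (RR α) y s
  pg : IsPGroup 2 (RR α)
  card : Nat.card (RR α) = r
  z : ∀ w ∈ RR α, w ∈ 𝐂(RR α) → w * w = 1 → w = 1 ∨ w = α

namespace LC

variable {α y s : G} {r : ℕ} (h : LC α y s r)
include h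

theorem conj (g : G) : LC (g * α * g⁻¹) (g * y * g⁻¹) (g * s * g⁻¹) r := by
  refine ⟨?_, by rw [Local.orderOf_conj', h.ord], by rw [cent_conj, RR_conj]; exact h.s3.conj g,
    by rw [RR_conj]; exact isPGroup_conj_smul h.pg g, by rw [RR_conj, card_conj_smul, h.card],
    fun w hw hc e => ?_⟩
  · simpa only [FT.conj_smul_eq_self_of_mem (mem_top g), zpowers_conj_smul] using h.th.conj g
  · rw [RR_conj] at hw hc
    have := h.z _ (Local.mem_conj_smul_iff.1 hw) (fun b hb => by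
      calc _ = g⁻¹ * (g * b * g⁻¹ * w) * g := by group
        _ = _ := by rw [hc _ (conj_mem_conj_smul g hb)]; group) (by simpa using conj_sq e g⁻¹)
    exact this.imp (fun e => by simpa [mul_assoc] using congrArg (fun z => g * z * g⁻¹) e)
      fun e => by rw [← e]; group

theorem le : RR α ≤ 𝐂[α] := h.s3.nrm.le

theorem ndvd : ¬ 3 ∣ Nat.card (RR α) := h.s3.ndvd

theorem c2 : Nat.card (zpowers α) = 2 := by rw [Nat.card_zpowers, h.ord]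

theorem zp_le : zpowers α ≤ 𝐂[α] := zpowers_le.2 (mem_cent1.2 rfl)

theorem thC : TH 𝐂[α] y (zpowers α) := h.th.sub' le_top h.s3.xm h.zp_le

theorem mem : α ∈ RR α := h.s3.le_O' h.zp_le h.th.ndvd (zp_le_norm α h.s3.xm) (mem_zpowers α)

theorem thq : TH (quo (zpowers α) 𝐂[α]) (cos (zpowers α) y) ⊥ := by
  simpa only [quo_self] using h.thC.quo (zp_le_norm α) h.th.ndvd

theorem cm_conj {a b k : G} (ha : a ∈ RR α) (hb : b ∈ RR α) (hk : k ∈ RR α ⊔ zpowers y)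
    (e : cm α a b) : cm α a (k * b * k⁻¹) := by
  have hn := h.le.trans (zp_le_norm α)
  have h3 : ¬ 3 ∣ Nat.card (quo (zpowers α) (RR α)) := fun d => h.ndvd (d.trans (card_quo_dvd _ _))
  have hN := quo_nrm (zpowers α) h.s3.nrm
  have key : ∀ {a b k : G}, a ∈ 𝐂[α] → b ∈ 𝐂[α] → k ∈ 𝐂[α] →
      Commute (cos (zpowers α) a) (cos _ k * cos _ b * (cos _ k)⁻¹) → cm α a (k * b * k⁻¹) :=
    fun ha hb hk e => by
      have k1 := zp_le_norm α hk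
      have b1 := zp_le_norm α hb
      rwa [cm_iff ha (mul_mem (mul_mem hk hb) (inv_mem hk)),
        (cos _).map_mul (mul_mem k1 b1) (inv_mem k1), (cos _).map_mul k1 b1, (cos _).map_inv k1]
  obtain ⟨ρ, hρ, z, hz, rfl⟩ := (mem_sup_of_right_le_normalizer (zpowers_le.2 h.s3.xn)).1 hk
  have e1 : cm α a (z * b * z⁻¹) := by
    have e' := (cm_iff (h.le ha) (h.le hb)).1 e
    rcases mem_zpowers_three h.s3.ord hz with rfl | rfl | rfl
    · simpa using e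
    · exact key (h.le ha) (h.le hb) h.s3.xm (h.thq.commute_conj rfl hN.le (hN.norm h.thq.mem) h3
        (cos_mem_quo (hn ha) ha) (cos_mem_quo (hn hb) hb) e')
    · refine key (h.le ha) (h.le hb) (inv_mem h.s3.xm) ?_
      rw [(cos _).map_inv (zp_le_norm α h.s3.xm)]
      exact h.thq.inv.commute_conj rfl hN.le (hN.norm h.thq.inv.mem) h3
        (cos_mem_quo (hn ha) ha) (cos_mem_quo (hn hb) hb) e'
  have hb' := h.s3.nrm.conj_mem (zpowers_le.2 h.s3.xm hz) hb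
  have := key (h.le ha) (h.le hb') (h.le hρ) (h.thq.commute_conj' rfl hN.le (hN.norm h.thq.mem) h3
    (cos_mem_quo (hn ha) ha) (cos_mem_quo (hn hb') hb') (cos_mem_quo (hn hρ) hρ)
    ((cm_iff (h.le ha) (h.le hb')).1 e1))
  simpa [mul_assoc] using this

theorem upper {a : G} (ha : a ∈ 𝐂[α]) (h1 : a ∉ RR α) (h2 : a * a = 1) :
    Nat.card ↥(RR α ⊓ 𝐂[a]) * Nat.card ↥(RR α ⊓ 𝐂[a]) ≤ r * 2 := by
  simpa only [h.card, h.c2] using h.s3.upper h.th le_top ha h1 h2 le_top h.s3.nrm.norm h.ndvd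

theorem ndvd_inf {γ : G} (hγ : γ ∈ 𝐂[α]) (h2 : γ * γ = 1) (h1 : γ ∉ zpowers α) :
    ¬ 3 ∣ Nat.card ↥(𝐂[α] ⊓ 𝐂[γ]) := fun d => by
  obtain ⟨z, hz, z3⟩ := exists_mem_orderOf_eq_of_dvd_card Nat.prime_three d
  obtain ⟨n, hn, e⟩ := h.thC.of_ord hz.1 z3
  rw [mem_normalizer_iff_conj_smul_eq.1 (zp_le_norm α hn)] at e
  exact h1 (e.mem_V hγ (mem_cent1.1 hz.2) (ndvd_ord_of_sq h2))

theorem cm_of_half {γ : G} (hγ : γ ∈ RR α) (h2 : γ * γ = 1)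
    (hc : r ≤ 2 * Nat.card ↥(RR α ⊓ 𝐂[γ])) {ρ : G} (hρ : ρ ∈ RR α) : cm α γ ρ := by
  by_cases e : ρ ∈ RR α ⊓ 𝐂[γ]
  · exact cm_of_commute α (mem_cent1.1 e.2)
  have hN := nrm_two (inf_le_left : RR α ⊓ 𝐂[γ] ≤ _) (h.card ▸ hc)
  have c : Nat.card (RR α) = 2 * Nat.card ↥(RR α ⊓ 𝐂[γ]) := by
    obtain ⟨k, hk⟩ := card_dvd_of_le hN.le
    have : k ≠ 1 := fun k1 => e ((eq_of_le_of_card_ge hN.le (by rw [hk, k1, mul_one])).ge hρ)
    have p : 0 < Nat.card (RR α) := Nat.card_pos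
    have : k ≠ 0 := by rintro rfl; omega
    have : k ≤ 2 := Nat.le_of_mul_le_mul_left (by rw [← hk, h.card, mul_comm]; exact hc) Nat.card_pos
    rw [hk, show k = 2 by omega, mul_comm]
  have c1 : ∀ d ∈ RR α ⊓ 𝐂[γ], Commute d (γ * (ρ * γ⁻¹ * ρ⁻¹)) := fun d hd => by
    refine (Commute.symm (mem_cent1.1 hd.2)).mul_right ?_
    have := Commute.inv_left (mem_cent1.1 (hN.inv_conj_mem hρ hd).2)
    calc _ = ρ * (ρ⁻¹ * d * ρ * γ⁻¹) * ρ⁻¹ := by group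
      _ = _ := by rw [← this.eq]; group
  have c2 : γ * (ρ * γ⁻¹ * ρ⁻¹) = ρ * γ⁻¹ * ρ⁻¹ * γ := by
    have := (c1 γ ⟨hγ, mem_cent1.2 rfl⟩).eq
    rwa [mul_assoc γ _ γ, mul_right_inj] at this
  have c3 : Commute ρ (γ * (ρ * γ⁻¹ * ρ⁻¹)) := by
    have := mem_cent1.1 (mul_mem_two hN.le c hρ hρ e e).2
    calc _ = ρ * γ * ρ⁻¹ * (ρ * ρ * γ⁻¹) * ρ⁻¹ := by group
      _ = ρ * γ⁻¹ * ρ⁻¹ * γ * ρ := by
        rw [← (Commute.inv_left this).eq, inv_self h2]; group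
      _ = _ := by rw [c2]
  have := h.z (γ * (ρ * γ⁻¹ * ρ⁻¹)) (mul_mem hγ ((Nrm.refl _).conj_mem hρ (inv_mem hγ)))
    (fun σ hσ => by
      by_cases e1 : σ ∈ RR α ⊓ 𝐂[γ]
      · exact (c1 σ e1).eq
      · simpa using ((c1 _ (mul_mem_two hN.le c hσ (inv_mem hρ) e1
          (mt inv_mem_iff.1 e))).mul_left c3).eq) (by
      nth_rw 2 [c2]
      rw [inv_self h2, mul_assoc, ← mul_assoc (ρ * γ * ρ⁻¹), conj_sq h2, one_mul, h2])
  rw [cm, mul_assoc, mul_assoc, ← mul_assoc ρ]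
  rcases this with e | e <;> rw [e]
  exacts [one_mem _, mem_zpowers _]

theorem exists_swap {γ : G} (hγ : γ ∈ RR α) (h2 : γ * γ = 1) (h1 : γ ∉ zpowers α)
    (hc : ∀ ρ ∈ RR α, cm α γ ρ) : ∃ ρ ∈ RR α, ρ * γ * ρ⁻¹ = α * γ := by
  by_contra hn
  push Not at hn
  rcases h.z γ hγ (fun ρ hρ => by
    obtain ⟨w, hw, e⟩ := (hc ρ hρ).eq
    rcases mem_zpowers_two h.ord hw with rfl | rfl
    · rwa [one_mul, mul_inv_eq_iff_eq_mul] at e
    · exact absurd e (hn ρ hρ)) h2 with e | e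
  exacts [h1 (e ▸ one_mem _), h1 (e ▸ mem_zpowers _)]

theorem norm_mem {a : G} (ha : a ∈ RR α) (hc : ∀ ρ ∈ RR α, cm α a ρ) :
    a * (y * a * y⁻¹ * (y⁻¹ * a * y)) ∈ zpowers α := by
  have hN := h.s3.nrm
  have a1 := hN.conj_mem h.s3.xm ha
  have a2 := hN.inv_conj_mem h.s3.xm ha
  have hn := h.le.trans (zp_le_norm α)
  have m := mul_mem ha (mul_mem a1 a2)
  have y1 := zp_le_norm α h.s3.xm
  rw [← cos_eq_one_iff (hn m), ← mem_bot]
  refine h.thq.fix (quo_mono _ h.le) (fun d => h.ndvd (d.trans (card_quo_dvd _ _)))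
    (cos_mem_quo (hn m) m) ?_
  have e : y * (a * (y * a * y⁻¹ * (y⁻¹ * a * y))) = y * a * y⁻¹ * (y⁻¹ * a * y) * a * y := by
    calc _ = y * a * y⁻¹ * ((y * y) * a * (y * y)⁻¹) * a * y := by group
      _ = _ := by rw [sq_of h.s3.ord, inv_inv]
  rw [← (cos _).map_mul y1 (hn m), e, (cos _).map_mul (hn (mul_mem (mul_mem a1 a2) ha)) y1,
    (cos _).map_mul (hn (mul_mem a1 a2)) (hn ha), (cos _).map_mul (hn ha) (hn (mul_mem a1 a2)),
    ((cm_iff (h.le ha) (h.le (mul_mem a1 a2))).1 (hc _ (mul_mem a1 a2))).eq]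

/-- An involution of `R` central in `S` modulo `α`. -/
theorem exists_beta (h2 : s * s = 1) (hr : 16 < r) : ∃ β ∈ RR α, β * β = 1 ∧ β ∉ zpowers α ∧
    ∀ σ ∈ RR α ⊔ zpowers s, cm α β σ := by
  have hN := h.s3.nrm
  have sn := zpowers_le.2 (hN.norm h.s3.tm)
  have hS : RR α ⊔ zpowers s ≤ 𝐂[α] := sup_le h.le (zpowers_le.2 h.s3.tm)
  have pS : IsPGroup 2 ↥(RR α ⊔ zpowers s) := isPGroup_sup h.pg
    (pg2_of_sq fun w hw => by
      obtain ⟨k, rfl⟩ := mem_zpowers_iff.1 hw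
      rw [← (Commute.refl s).mul_zpow, h2, one_zpow]) sn
  obtain ⟨a, ha, a1, a2, a3⟩ := exists_cm pS hS (nrm_sup_left sn) fun e => by
    have := card_le_of_le e
    rw [h.card, h.c2] at this
    omega
  rcases mem_zpowers_two h.ord a2 with a2 | a2
  · exact ⟨a, ha, a2, a1, a3⟩
  have hy := h.s3.xm
  have fix : ∀ {g : G}, g ∈ 𝐂[α] → g * α * g⁻¹ = α := fun hg => by
    rw [← mem_cent1.1 hg, mul_inv_cancel_right]
  have a4 : ∀ g ∈ 𝐂[α], ∀ ρ ∈ RR α, cm α (g * a * g⁻¹) ρ := fun g hg ρ hρ => by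
    simpa [fix hg, mul_assoc] using (a3 _ (mem_sup_left (hN.inv_conj_mem hg hρ))).conj g
  set C := RR α ⊓ 𝐂[a] ⊓ 𝐂[y * a * y⁻¹] ⊓ 𝐂[y⁻¹ * a * y⁻¹⁻¹]
  have c1 : r ≤ 8 * Nat.card C := by
    have b1 := half h.ord (L := RR α) fun l hl => a3 l (mem_sup_left hl)
    have b2 := half h.ord (L := RR α ⊓ 𝐂[a]) fun l hl => a4 y hy l hl.1
    have b3 : _ ≤ 2 * Nat.card C := half h.ord (L := RR α ⊓ 𝐂[a] ⊓ 𝐂[y * a * y⁻¹]) fun l hl =>
      a4 _ (inv_mem hy) l hl.1.1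
    rw [h.card] at b1
    omega
  have key : ∀ {b b' σ c : G}, c ∈ RR α → c ∈ 𝐂[b'] →
      (∃ w ∈ zpowers α, σ⁻¹ * b * σ⁻¹⁻¹ = w * b') → σ * c * σ⁻¹ ∈ 𝐂[b] := by
    rintro b b' σ c hc h1 ⟨w, hw, e⟩
    rw [mem_cent1] at h1 ⊢
    calc _ = σ * (σ⁻¹ * b * σ⁻¹⁻¹ * c) * σ⁻¹ := by group
      _ = σ * (c * (σ⁻¹ * b * σ⁻¹⁻¹)) * σ⁻¹ := by
        rw [e, mul_assoc w, h1, ← mul_assoc w, comm_zp hw (h.le hc), mul_assoc c]
      _ = _ := by group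
  have hC : C ⊴ RR α ⊔ zpowers s := by
    refine ⟨fun c hc => mem_sup_left hc.1.1.1, sup_le (fun ρ hρ => ?_) (zpowers_le.2 ?_)⟩ <;>
      refine mem_normalizer_of_conj_mem fun c hc => ?_
    · exact ⟨⟨⟨(Nrm.refl _).conj_mem hρ hc.1.1.1, key hc.1.1.1 hc.1.1.2
        (a3 _ (mem_sup_left (inv_mem hρ))).eq⟩, key hc.1.1.1 hc.1.2 (a4 _ hy _ (inv_mem hρ)).eq⟩,
        key hc.1.1.1 hc.2 (a4 _ (inv_mem hy) _ (inv_mem hρ)).eq⟩
    · obtain ⟨w, hw, e⟩ := (a3 _ (inv_mem (mem_sup_right (mem_zpowers s)))).eq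
      have e1 : s⁻¹ * y⁻¹ * s = y := by rw [← h.s3.inv]; group
      refine ⟨⟨⟨hN.conj_mem h.s3.tm hc.1.1.1, key hc.1.1.1 hc.1.1.2 ⟨w, hw, e⟩⟩,
        key hc.1.1.1 hc.2 ⟨w, hw, ?_⟩⟩, key hc.1.1.1 hc.1.2 ⟨w, hw, ?_⟩⟩
      · calc _ = (s⁻¹ * y⁻¹ * s)⁻¹ * (s⁻¹ * a * s⁻¹⁻¹) * (s⁻¹ * y⁻¹ * s) := by group
          _ = _ := by rw [e, e1, ← mul_assoc, ← comm_zp hw (inv_mem hy)]; group
      · calc _ = (s⁻¹ * y⁻¹ * s) * (s⁻¹ * a * s⁻¹⁻¹) * (s⁻¹ * y⁻¹ * s)⁻¹ := by group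
          _ = _ := by rw [e, e1, ← mul_assoc, ← comm_zp hw hy]; group
  obtain ⟨b, hb, b1, b2, b3⟩ := exists_cm pS hS hC fun e => by
    have := card_le_of_le e
    rw [h.c2] at this
    omega
  rcases mem_zpowers_two h.ord b2 with b2 | b2
  · exact ⟨b, hb.1.1.1, b2, b1, b3⟩
  have ab : Commute a b := mem_cent1.1 hb.1.1.2
  refine ⟨a * b, mul_mem ha hb.1.1.1, by rw [ab.symm.mul_mul_mul_comm, a2, b2, sq_of_two h.ord],
    fun e => ?_, fun σ hσ => ?_⟩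
  · have k : ∀ g ∈ 𝐂[α], b ∈ 𝐂[g * a * g⁻¹] → Commute a (g * a * g⁻¹) := fun g hg e1 => by
      have : Commute (a * b) _ := comm_zp e (h.le (hN.conj_mem hg ha))
      simpa using this.mul_left (Commute.inv_left (Commute.symm (mem_cent1.1 e1)))
    have k1 := k _ hy hb.1.2
    have k2 := k _ (inv_mem hy) hb.2
    have k3 : Commute (y * a * y⁻¹) (y⁻¹ * a * y) := by
      have := k1.conj y
      rwa [show y * (y * a * y⁻¹) * y⁻¹ = y * y * a * (y * y)⁻¹ by group, sq_of h.s3.ord,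
        inv_inv] at this
    have := h.th.sq _ (h.norm_mem ha fun ρ hρ => a3 ρ (mem_sup_left hρ))
    rw [inv_inv] at k2
    rw [(k1.mul_right k2).symm.mul_mul_mul_comm, k3.symm.mul_mul_mul_comm, a2,
      show y * a * y⁻¹ * (y * a * y⁻¹) = y * (a * a) * y⁻¹ by group,
      show y⁻¹ * a * y * (y⁻¹ * a * y) = y⁻¹ * (a * a) * y⁻¹⁻¹ by group, a2, fix hy,
      fix (inv_mem hy), sq_of_two h.ord, mul_one] at this
    exact ne_one_of_two h.ord this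
  · have a' := h.le ha
    have b' := h.le hb.1.1.1
    rw [cm_iff (mul_mem a' b') (hS hσ), (cos _).map_mul (zp_le_norm α a') (zp_le_norm α b')]
    exact ((cm_iff a' (hS hσ)).1 (a3 σ hσ)).mul_left ((cm_iff b' (hS hσ)).1 (b3 σ hσ))

end LC

end Cfsg.Agent.Z6
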