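import Cfsg.Agent.Z6.PathP0

/-!
# The case `Ω₁ Z(R) = ⟨v⟩`: the orbital graph
-/

set_option autoImplicit false
set_option linter.unusedSectionVars false

namespace Cfsg.Agent.Z6

open Subgroup Cfsg.Agent.Local Cfsg.Agent.FT Cfsg.Agent.Char
open scoped Pointwise

universe u

variable {G : Type u} [Group G] [Finite G]

/-- walks of length at most `n` -/
def Wk {X : Type*} (A : X → X → Prop) : ℕ → X → X → Prop
  | 0, a, b => a = b
  | n + 1, a, b => ∃ c, Wk A n a c ∧ (c = b ∨ A c b)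

namespace Wk

variable {X : Type*} {A : X → X → Prop}

theorem succ {n : ℕ} {a b : X} (h : Wk A n a b) : Wk A (n + 1) a b := ⟨b, h, Or.inl rfl⟩

theorem mono {m n : ℕ} {a b : X} (h : Wk A m a b) (e : m ≤ n) : Wk A n a b := by
  induction e with
  | refl => exact h
  | step _ ih => exact ih.succ

theorem cons : ∀ {n : ℕ} {a b c : X}, (a = b ∨ A a b) → Wk A n b c → Wk A (n + 1) a c
  | 0, a, _, _, e, h => ⟨a, rfl, h ▸ e⟩
  | _ + 1, _, _, _, e, ⟨d, h, e'⟩ => ⟨d, cons e h, e'⟩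

theorem head : ∀ {n : ℕ} {a c : X}, Wk A (n + 1) a c → ∃ b, (a = b ∨ A a b) ∧ Wk A n b c
  | 0, _, c, ⟨_, h, e⟩ => ⟨c, h ▸ e, rfl⟩
  | _ + 1, _, _, ⟨d, h, e⟩ => by
    obtain ⟨b, e1, h1⟩ := head h
    exact ⟨b, e1, d, h1, e⟩

theorem symm (hA : ∀ a b, A a b → A b a) : ∀ {n : ℕ} {a b : X}, Wk A n a b → Wk A n b a
  | 0, _, _, h => Eq.symm h
  | _ + 1, _, _, ⟨_, h, e⟩ => cons (e.imp Eq.symm (hA _ _)) (symm hA h)

theorem trans {m : ℕ} {a b : X} (h : Wk A m a b) : ∀ {n : ℕ} {c : X}, Wk A n b c → Wk A (m + n) a c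
  | 0, _, e => e ▸ h
  | _ + 1, _, ⟨d, h1, e⟩ => ⟨d, trans h h1, e⟩

theorem map (f : X → X) (hA : ∀ a b, A a b → A (f a) (f b)) :
    ∀ {n : ℕ} {a b : X}, Wk A n a b → Wk A n (f a) (f b)
  | 0, _, _, h => congrArg f h
  | _ + 1, _, _, ⟨c, h, e⟩ => ⟨f c, map f hA h, e.imp (congrArg f) (hA _ _)⟩

theorem split {n : ℕ} {a b : X} (h : Wk A (n + 2) a b) (hn : ¬ Wk A (n + 1) a b) :
    ∃ c d, A a c ∧ Wk A n c d ∧ A d b := by
  obtain ⟨d, h1, e⟩ := h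
  obtain ⟨c, e1, h2⟩ := h1.head
  exact ⟨c, d, e1.resolve_left fun e2 => hn ⟨d, e2 ▸ h2, e⟩, h2,
    e.resolve_left fun e2 => hn (e2 ▸ h1)⟩

end Wk

theorem card_closure_le (s : Finset G) (h2 : ∀ a ∈ s, a * a = 1)
    (hc : ∀ a ∈ s, ∀ b ∈ s, a * b = b * a) : Nat.card (closure (s : Set G)) ≤ 2 ^ s.card := by
  classical
  induction s using Finset.induction_on with
  | empty => simp
  | insert a s ha ih =>
    have h1 := ih (fun b hb => h2 b (Finset.mem_insert_of_mem hb)) fun b hb c hc' =>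
      hc b (Finset.mem_insert_of_mem hb) c (Finset.mem_insert_of_mem hc')
    have h3 : zpowers a ≤ 𝐍(closure (s : Set G)) := zpowers_le.2 (centralizer_le_normalizer' _
      (le_centralizer_iff.1 ((closure_le _).2 fun b hb => (cent_zpowers a).ge (mem_cent1.2
        (hc a (Finset.mem_insert_self a s) b (Finset.mem_insert_of_mem hb)))) (mem_zpowers a)))
    have h4 := Nat.le_of_dvd (Nat.mul_pos Nat.card_pos Nat.card_pos) (card_sup_dvd h3)
    have h5 : Nat.card (zpowers a) ≤ 2 := by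
      rw [Nat.card_zpowers]
      exact orderOf_le_of_pow_eq_one two_pos (by rw [pow_two, h2 a (Finset.mem_insert_self a s)])
    rw [Finset.coe_insert, Set.insert_eq, Subgroup.closure_union, ← zpowers_eq_closure, sup_comm,
      Finset.card_insert_of_notMem ha, pow_succ]
    exact h4.trans (Nat.mul_le_mul h1 h5)

theorem mem_normalizer_closure_of_conj_mem {C : Set G} {g : G} (h : ∀ a ∈ C, g * a * g⁻¹ ∈ C) :
    g ∈ 𝐍(closure C) :=
  mem_normalizer_of_conj_mem fun a ha => by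
    induction ha using closure_induction with
    | mem a ha => exact subset_closure (h a ha)
    | one => simpa using one_mem _
    | mul a b _ _ h1 h2 => simpa [mul_assoc] using mul_mem h1 h2
    | inv a _ h1 => simpa [mul_assoc] using inv_mem h1

/-- the orbital graph of `(v, β)` -/
def Adj (v β α γ : G) : Prop := ∃ g : G, α = g * v * g⁻¹ ∧ γ = g * β * g⁻¹

theorem Adj.conj {v β α γ : G} (h : Adj v β α γ) (g : G) :
    Adj v β (g * α * g⁻¹) (g * γ * g⁻¹) := by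
  obtain ⟨k, rfl, rfl⟩ := h
  exact ⟨g * k, by group, by group⟩

theorem Adj.conj' {v β α γ g : G} (h : Adj v β α γ) (hg : g ∈ 𝐂[α]) : Adj v β α (g * γ * g⁻¹) := by
  have := h.conj g
  rwa [← mem_cent1.1 hg, mul_inv_cancel_right] at this

structure GS (v β x t : G) (r : ℕ) : Prop where
  lc : LC v x t r
  t2 : t * t = 1
  mem : β ∈ RR v
  sq : β * β = 1
  nm : β ∉ zpowers v
  cm : ∀ σ ∈ RR v ⊔ zpowers t, cm v β σ
  conj : IsConj v β
  big : 512 < r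

namespace GS

variable {v β x t α γ δ : G} {r : ℕ} (h : GS v β x t r)
include h

theorem card_S : Nat.card ↥(RR v ⊔ zpowers t) = 2 * r := by
  rw [PG.card_sup_zpowers (p := 2) (h.lc.s3.nrm.norm h.lc.s3.tm) h.lc.s3.t_not
    (by rw [pow_two, h.t2]; exact one_mem _), h.lc.card]

theorem card_D : r ≤ Nat.card ↥((RR v ⊔ zpowers t) ⊓ 𝐂[β]) := by
  have := half h.lc.ord h.cm
  rw [h.card_S] at this
  omega

theorem left (e : Adj v β α γ) : IsConj v α := by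
  obtain ⟨g, rfl, -⟩ := e
  exact isConj_iff.2 ⟨g, rfl⟩

theorem right (e : Adj v β α γ) : IsConj v γ := by
  obtain ⟨g, -, rfl⟩ := e
  exact h.conj.trans (isConj_iff.2 ⟨g, rfl⟩)

theorem lc' (e : IsConj v α) : ∃ y s, LC α y s r := by
  obtain ⟨g, rfl⟩ := isConj_iff.1 e
  exact ⟨_, _, h.lc.conj g⟩

theorem ord (e : IsConj v α) : orderOf α = 2 := by
  obtain ⟨y, s, h1⟩ := h.lc' e
  exact h1.ord

theorem edge (e : Adj v β α γ) : γ ∈ RR α ∧ γ ∉ zpowers α ∧ (∀ ρ ∈ RR α, Z6.cm α γ ρ) ∧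
    r ≤ Nat.card ↥(𝐂[α] ⊓ 𝐂[γ]) := by
  obtain ⟨g, rfl, rfl⟩ := e
  rw [RR_conj, zpowers_conj_smul, cent_conj, cent_conj, ← smul_inf, card_conj_smul]
  refine ⟨conj_mem_conj_smul g h.mem, fun e => h.nm (by
    simpa [mul_assoc] using Local.mem_conj_smul_iff.1 e), fun ρ hρ => ?_, h.card_D.trans
      (card_le_of_le (inf_le_inf_right _ (sup_le h.lc.le (zpowers_le.2 h.lc.s3.tm))))⟩
  simpa [mul_assoc] using (h.cm _ (mem_sup_left (Local.mem_conj_smul_iff.1 hρ))).conj g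

theorem nd (e : Adj v β α γ) : ¬ 3 ∣ Nat.card ↥(𝐂[α] ⊓ 𝐂[γ]) := by
  obtain ⟨y, s, h1⟩ := h.lc' (h.left e)
  exact h1.ndvd_inf (h1.le (h.edge e).1) (sq_of_two (h.ord (h.right e))) (h.edge e).2.1

theorem shift (e : Adj v β α γ) {w : G} (hw : w ∈ zpowers α) : Adj v β α (w * γ) := by
  obtain ⟨y, s, h1⟩ := h.lc' (h.left e)
  obtain ⟨a1, a2, a3, -⟩ := h.edge e
  rcases mem_zpowers_two h1.ord hw with rfl | rfl
  · rwa [one_mul]
  · obtain ⟨ρ, hρ, e1⟩ := h1.exists_swap a1 (sq_of_two (h.ord (h.right e))) a2 a3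
    exact e1 ▸ e.conj' (h1.le hρ)

theorem base : Adj v β v β := ⟨1, by simp, by simp⟩

theorem symm (α γ : G) (e : Adj v β α γ) : Adj v β γ α := by
  obtain ⟨g, rfl, rfl⟩ := e
  refine Adj.conj ?_ g
  obtain ⟨y, s, h1⟩ := h.lc' h.conj
  obtain ⟨a1, a2, a3, a4⟩ := h.edge h.base
  have c : v * β = β * v := mem_cent1.1 (h.lc.le a1)
  have v2 := sq_of_two h.lc.ord
  have b1 := h1.s3.two (inf_le_right : 𝐂[v] ⊓ 𝐂[β] ≤ _) (h.nd h.base)
  have b2 := card_le_of_le (inf_le_inf_left (RR β) (inf_le_left : 𝐂[v] ⊓ 𝐂[β] ≤ _))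
  have b3 : v ∈ RR β := by
    by_contra hn
    have := h1.upper (mem_cent1.2 c.symm) hn v2
    have := h.big
    nlinarith
  obtain ⟨ρ, hρ, e1⟩ := h.lc.exists_swap a1 h.sq a2 a3
  obtain ⟨σ, hσ, e2⟩ := h1.exists_swap b3 v2 (fun e => by
    rcases mem_zpowers_two h1.ord e with e | e
    exacts [ne_one_of_two h.lc.ord e, a2 (e ▸ mem_zpowers _)])
    fun _ => h1.cm_of_half b3 v2 (by omega)
  have e3 : ρ * v * ρ⁻¹ = v := by rw [← mem_cent1.1 (h.lc.le hρ), mul_inv_cancel_right]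
  have e4 : σ * β * σ⁻¹ = β := by rw [← mem_cent1.1 (h1.le hσ), mul_inv_cancel_right]
  refine ⟨ρ * σ * ρ, ?_, ?_⟩
  · calc β = v * β * v := by rw [c, mul_assoc, v2, mul_one]
      _ = ρ * (σ * (ρ * v * ρ⁻¹) * σ⁻¹) * ρ⁻¹ := by
        rw [e3, e2, ← e1]; nth_rw 1 [← e3]; group
      _ = _ := by group
  · calc v = ρ * (β * v * β) * ρ⁻¹ := by rw [← c, mul_assoc v, h.sq, mul_one, e3]
      _ = ρ * (σ * (ρ * β * ρ⁻¹) * σ⁻¹) * ρ⁻¹ := by
        rw [e1, ← e2]; nth_rw 1 [← e4]; group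
      _ = _ := by group

theorem card_RR (e : Adj v β α γ) : r ≤ 4 * Nat.card ↥(RR α ⊓ RR γ) := by
  obtain ⟨y, s, h1⟩ := h.lc' (h.left e)
  obtain ⟨y', s', h2⟩ := h.lc' (h.right e)
  have a1 := h1.s3.two inf_le_left (h.nd e)
  have a2 := h2.s3.two (K := RR α ⊓ (𝐂[α] ⊓ 𝐂[γ])) (inf_le_right.trans inf_le_right)
    fun d => h1.ndvd (d.trans (card_dvd_of_le inf_le_left))
  have a3 := card_le_of_le (le_inf (inf_le_right.trans inf_le_left) inf_le_left :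
    RR γ ⊓ (RR α ⊓ (𝐂[α] ⊓ 𝐂[γ])) ≤ RR α ⊓ RR γ)
  have := (h.edge e).2.2.2
  omega

/-- The neighbours of `α` are conjugate under `R ⟨y⟩`. -/
theorem trans' {y s : G} (h1 : LC α y s r) (e : Adj v β α γ) (e' : Adj v β α δ) :
    ∃ k ∈ RR α ⊔ zpowers y, δ = k * γ * k⁻¹ := by
  obtain ⟨a1, a2, a3, a4⟩ := h.edge e
  obtain ⟨d, hd, d1⟩ : ∃ d ∈ 𝐂[α] ⊓ 𝐂[γ], d ∉ RR α := by
    by_contra hn
    have : 𝐂[α] ⊓ 𝐂[γ] = RR α := eq_of_le_of_card_ge (fun d hd => by_contra fun e => hn ⟨d, hd, e⟩)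
      (h1.card ▸ a4)
    rcases h1.z γ a1 (fun ρ hρ => (mem_cent1.1 (this.ge hρ).2).symm)
      (sq_of_two (h.ord (h.right e))) with e | e
    exacts [a2 (e ▸ one_mem _), a2 (e ▸ mem_zpowers _)]
  obtain ⟨g, rfl, rfl⟩ := e
  obtain ⟨g', e1, rfl⟩ := e'
  have hk : g' * g⁻¹ ∈ 𝐂[g * v * g⁻¹] := mem_cent1.2 (by nth_rw 1 [e1]; group)
  by_cases e2 : g' * g⁻¹ ∈ RR (g * v * g⁻¹) ⊔ zpowers y
  · exact ⟨_, e2, by group⟩
  · refine ⟨_, mul_mem_two h1.s3.L_le h1.s3.card_L hk hd.1 e2 fun e3 => d1 (mem_of_three h1.s3.ord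
      h1.s3.xn h1.ndvd e3 fun e4 => h.nd ⟨g, rfl, rfl⟩ (e4.trans (orderOf_dvd_card_of_mem hd))), ?_⟩
    calc _ = g' * g⁻¹ * (g * β * g⁻¹ * d) * (g' * g⁻¹ * d)⁻¹ := by group
      _ = _ := by rw [mem_cent1.1 hd.2]; group

theorem three {y s : G} (h1 : LC α y s r) (e : Adj v β α γ) :
    (∃ w ∈ zpowers α, γ * (y * γ * y⁻¹) = w * (y⁻¹ * γ * y⁻¹⁻¹)) ∧
    (∃ w ∈ zpowers α, γ * (y⁻¹ * γ * y⁻¹⁻¹) = w * (y * γ * y⁻¹)) ∧
    (∃ w ∈ zpowers α, y * γ * y⁻¹ * (y⁻¹ * γ * y⁻¹⁻¹) = w * γ) := by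
  obtain ⟨a1, -, a3, -⟩ := h.edge e
  have n := h1.norm_mem a1 a3
  have s0 := sq_of_two (h.ord (h.right e))
  have s1 := conj_sq s0 y
  have s2 := conj_sq s0 y⁻¹
  have e1 : γ * (y * γ * y⁻¹) = _ * (y⁻¹ * γ * y⁻¹⁻¹) :=
    (eq_mul_inv_of_mul_eq (mul_assoc _ _ _)).trans (by rw [inv_self s2])
  replace n : γ * (y * γ * y⁻¹ * (y⁻¹ * γ * y⁻¹⁻¹)) ∈ zpowers α := by rwa [inv_inv]
  have c1 : Commute γ (y * γ * y⁻¹) := by
    have := sq_of_two (h.ord (h.right (h.shift (e.conj' (inv_mem h1.s3.xm)) n)))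
    rw [← e1] at this
    rw [commute_iff_eq, ← inv_self this, mul_inv_rev, inv_self s0, inv_self s1]
  have c2 : Commute γ (y⁻¹ * γ * y⁻¹⁻¹) := by
    have := c1.symm.conj y⁻¹
    rwa [show y⁻¹ * (y * γ * y⁻¹) * y⁻¹⁻¹ = γ by group] at this
  have c3 : Commute (y * γ * y⁻¹) (y⁻¹ * γ * y⁻¹⁻¹) := by
    have := c1.conj y
    rwa [show y * (y * γ * y⁻¹) * y⁻¹ = y * y * γ * (y * y)⁻¹ by group, sq_of h1.s3.ord] at this
  refine ⟨⟨_, n, e1⟩, ⟨_, n, ?_⟩, _, n, ?_⟩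
  · rw [c3.eq, mul_assoc γ, mul_assoc _ (y * γ * y⁻¹), s1, mul_one]
  · rw [(c1.mul_right c2).eq, mul_assoc _ γ γ, s0, mul_one]

theorem prod (e : Adj v β α γ) (e' : Adj v β α δ) :
    γ * δ = 1 ∨ γ * δ = α ∨ Adj v β α (γ * δ) := by
  obtain ⟨y, s, h1⟩ := h.lc' (h.left e)
  obtain ⟨k, hk, rfl⟩ := h.trans' h1 e e'
  obtain ⟨ρ, hρ, z, hz, rfl⟩ := (mem_sup_of_right_le_normalizer (zpowers_le.2 h1.s3.xn)).1 hk
  obtain ⟨w, hw, e1⟩ := ((h.edge (e.conj' (zpowers_le.2 h1.s3.xm hz))).2.2.1 ρ hρ).eq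
  rw [show ρ * z * γ * (ρ * z)⁻¹ = ρ * (z * γ * z⁻¹) * ρ⁻¹ by group, e1, ← mul_assoc,
    ← comm_zp hw (h1.le (h.edge e).1), mul_assoc]
  obtain ⟨⟨w1, b1, b2⟩, ⟨w2, b3, b4⟩, -⟩ := h.three h1 e
  rcases mem_zpowers_three h1.s3.ord hz with rfl | rfl | rfl
  · rw [one_mul, inv_one, mul_one, sq_of_two (h.ord (h.right e)), mul_one, ← or_assoc]
    exact Or.inl (mem_zpowers_two h1.ord hw)
  · exact Or.inr (Or.inr (h.shift (b2 ▸ h.shift (e.conj' (inv_mem h1.s3.xm)) b1) hw))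
  · exact Or.inr (Or.inr (h.shift (b4 ▸ h.shift (e.conj' h1.s3.xm) b3) hw))

theorem comm (e : Adj v β α γ) (e' : Adj v β α δ) : γ * δ = δ * γ := by
  have : γ * δ * (γ * δ) = 1 := by
    rcases h.prod e e' with e1 | e1 | e1
    · rw [e1, mul_one]
    · rw [e1, sq_of_two (h.ord (h.left e))]
    · exact sq_of_two (h.ord (h.right e1))
  rw [← inv_self this, mul_inv_rev, inv_self (sq_of_two (h.ord (h.right e))),
    inv_self (sq_of_two (h.ord (h.right e')))]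

theorem exists_eps (e : Adj v β α γ) (h1 : δ ∈ 𝐂[α]) (h2 : δ ∉ RR α) (h3 : δ * δ = 1)
    (h4 : δ ∈ 𝐂[γ]) : ∃ ε, Adj v β α ε ∧ Adj v β α (ε * (δ * ε * δ⁻¹)) := by
  obtain ⟨y, s, h5⟩ := h.lc' (h.left e)
  have a1 := h5.s3.inv_mod h1 fun e1 => h2 (mem_of_three h5.s3.ord h5.s3.xn h5.ndvd e1
    (ndvd_ord_of_sq h3))
  obtain ⟨w, hw, e1⟩ := ((h.edge (e.conj' (inv_mem h5.s3.xm))).2.2.1 _ a1).eq
  obtain ⟨-, -, w1, b1, b2⟩ := h.three h5 e
  have a2 := e.conj' h5.s3.xm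
  refine ⟨_, a2, ?_⟩
  have : δ * (y * γ * y⁻¹) * δ⁻¹ = w * (y⁻¹ * γ * y⁻¹⁻¹) := by
    rw [← e1]
    calc _ = δ * y * δ⁻¹ * (δ * γ * δ⁻¹) * (δ * y * δ⁻¹)⁻¹ := by group
      _ = _ := by rw [← mem_cent1.1 h4]; group
  rw [this, ← mul_assoc, ← comm_zp hw (h5.le (h.edge a2).1), mul_assoc, b2]
  exact h.shift (h.shift e b1) hw

theorem step_comm {n : ℕ} (ih : ∀ α δ, IsConj v α → Wk (Adj v β) (n + 1) α δ → δ ∈ RR α)
    (hα : IsConj v α) (e : Wk (Adj v β) (n + 2) α δ) : δ ∈ 𝐂[α] := by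
  by_cases e0 : Wk (Adj v β) (n + 1) α δ
  · exact core_le _ _ (ih α δ hα e0)
  obtain ⟨c, d, e1, e2, e3⟩ := e.split e0
  rcases eq_or_ne c d with rfl | hne
  · exact mem_cent1.2 (h.comm (h.symm _ _ e1) e3)
  have a1 := (h.edge (h.symm _ _ e1)).2.2.1 δ (ih _ _ (h.right e1) ⟨d, e2, Or.inr e3⟩)
  have a2 := (h.edge e3).2.2.1 α (ih _ _ (h.left e3) ⟨c, e2.symm h.symm, Or.inr (h.symm _ _ e1)⟩)
  rw [mem_cent1, ← mul_inv_eq_one, mul_inv_rev, ← mul_assoc]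
  rcases mem_zpowers_two (h.ord (h.right e1)) a1 with e4 | e4
  · exact e4
  rcases mem_zpowers_two (h.ord (h.left e3)) (inv_mem a2) with e5 | e5
  · rw [← e5]; group
  · exact absurd (by rw [← e4, ← e5]; group) hne

theorem step {n : ℕ} (ih : ∀ α δ, IsConj v α → Wk (Adj v β) (n + 1) α δ → δ ∈ RR α)
    (hα : IsConj v α) (e : Wk (Adj v β) (n + 2) α δ) : δ ∈ RR α := by
  by_contra hn
  obtain ⟨c, d, e1, e2, e3⟩ := e.split fun e0 => hn (ih _ _ hα e0)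
  have hδ := h.step_comm ih hα e
  have d2 := sq_of_two (h.ord (h.right e3))
  obtain ⟨y, s, h1⟩ := h.lc' hα
  have up := h1.upper hδ hn d2
  have big := h.big
  have δc := ih _ _ (h.right e1) ⟨d, e2, Or.inr e3⟩
  have key : ∀ L ≤ RR α, (∀ l ∈ L, Z6.cm c δ l) → ¬ r ≤ 8 * Nat.card L := fun L hL h2 h3 => by
    have a1 := half (h.ord (h.right e1)) h2
    have a2 := card_le_of_le (inf_le_inf_right 𝐂[δ] hL)
    nlinarith
  match n with
  | 0 =>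
    obtain rfl : c = d := e2
    have := h.card_RR e1
    exact key _ inf_le_left (fun l hl => (h.edge e3).2.2.1 l hl.2) (by omega)
  | 1 =>
    obtain ⟨c', rfl, e4⟩ := e2
    replace e4 := e4.resolve_left fun e5 => hn (ih _ _ hα ⟨d, ⟨α, rfl, Or.inr (e5 ▸ e1)⟩, Or.inr e3⟩)
    obtain ⟨y', s', h2⟩ := h.lc' (h.right e1)
    obtain ⟨k, hk, e5⟩ := h.trans' h2 e4 (h.symm _ _ e1)
    have a1 := h.card_RR (h.symm _ _ e4)
    have a2 := half (h.ord (h.left e3)) (L := RR d ⊓ RR c) fun l hl => (h.edge e3).2.2.1 l hl.1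
    refine key (MulAut.conj k • (RR d ⊓ RR c ⊓ 𝐂[δ])) (by
      rw [e5, RR_conj]
      exact pointwise_smul_le_pointwise_smul_iff.2 (inf_le_left.trans inf_le_left))
      (fun l hl => ?_) (by rw [card_conj_smul]; omega)
    have hl := Local.mem_conj_smul_iff.1 hl
    simpa [mul_assoc] using h2.cm_conj δc hl.1.2 hk (cm_of_commute c (mem_cent1.1 hl.2))
  | n + 2 =>
    obtain ⟨ε, a1, a2⟩ := h.exists_eps e1 hδ hn d2 (core_le _ _ δc)
    have a3 := h.step_comm ih (h.right a1) (Wk.cons (Or.inr (h.symm _ _ a1))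
      (Wk.cons (Or.inr e1) e2))
    have a4 := h.prod (e3.conj' (g := ε) (mem_cent1.2 (mem_cent1.1 a3).symm)) e3
    rw [show ε * δ * ε⁻¹ * δ = ε * (δ * ε * δ⁻¹) by
      rw [inv_self d2, inv_self (sq_of_two (h.ord (h.right a1)))]; group] at a4
    refine hn (ih _ _ hα (Wk.mono (m := 3) ⟨d, ⟨_, ⟨α, rfl, Or.inr a2⟩, ?_⟩, Or.inr e3⟩ (by omega)))
    exact (a4.resolve_left (ne_one_of_two (h.ord (h.right a2)))).imp_right (h.symm _ _)

theorem all (n : ℕ) : ∀ α δ, IsConj v α → Wk (Adj v β) (n + 1) α δ → δ ∈ RR α := by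
  induction n with
  | zero =>
    rintro α δ hα ⟨c, rfl, rfl | e⟩
    · obtain ⟨y, s, h1⟩ := h.lc' hα
      exact h1.mem
    · exact (h.edge e).1
  | succ n ih => exact fun α δ => h.step ih

theorem isConj_of_wk : ∀ {n : ℕ} {δ : G}, Wk (Adj v β) n v δ → IsConj v δ
  | 0, _, e => e ▸ IsConj.refl v
  | _ + 1, _, ⟨_, e, e1⟩ => e1.elim (fun e2 => e2 ▸ isConj_of_wk e) h.right

theorem elim (hS : ¬ 4 * r ∣ Nat.card G) : False := by
  classical
  set C : Set G := {δ | ∃ n, Wk (Adj v β) n v δ}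
  have hv : v ∈ C := ⟨0, rfl⟩
  have hβ : β ∈ C := ⟨1, v, rfl, Or.inr h.base⟩
  have cj : ∀ α ∈ C, IsConj v α := fun α ⟨n, e⟩ => h.isConj_of_wk e
  have hR : ∀ α ∈ C, closure C ≤ RR α := fun α ⟨m, e⟩ => (closure_le _).2 fun δ ⟨n, e'⟩ =>
    h.all (m + n) α δ (h.isConj_of_wk e) ((e.symm h.symm).trans e').succ
  have hM : ∀ α ∈ C, 𝐂[α] ≤ 𝐍(closure C) := fun α ⟨m, e⟩ g hg =>
    mem_normalizer_closure_of_conj_mem fun δ ⟨n, e'⟩ => ⟨m + (m + n), e.trans (by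
      have := ((e.symm h.symm).trans e').map (fun a => g * a * g⁻¹) fun a b e => e.conj g
      rwa [← mem_cent1.1 hg, mul_inv_cancel_right] at this)⟩
  set K := closure C
  have hK : K ⊴ 𝐍(K) := nrm_normalizer K
  have vK : zpowers v ≤ K := zpowers_le.2 (subset_closure hv)
  have pK : IsPGroup 2 K := h.lc.pg.to_le (hR v hv)
  have hT := h.lc.th.sub' le_top (hM v hv h.lc.s3.xm) (vK.trans hK.le)
  obtain ⟨b, hb⟩ := PG.card_eq_pow h.lc.pg
  rw [h.lc.card] at hb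
  rcases hT.ft3 hK (ndvd_of_pg2 pK) vK with hs | ⟨c, -⟩
  · have S := hT.s3 hs (hM v hv h.lc.s3.tm) h.lc.s3.inv
    have KO := le_core3 hK (ndvd_of_pg2 pK)
    have nil := hT.nil_quo hK vK S.nrm.le KO S.xn S.ndvd
    have key : ∀ α ∈ C, quo K (RR α) = core {2} (quo K (core {3}ᶜ 𝐍(K))) := fun α hα => by
      obtain ⟨y, s, h1⟩ := h.lc' (cj α hα)
      have a1 := S.le_O (h1.le.trans (hM α hα)) h1.ndvd (hM α hα h1.s3.xm) h1.s3.ord h1.s3.xn
      refine eq_core_of_isSylowIn_of_nil (isSylowIn_quo ⟨a1, h1.pg, fun d => hS ?_⟩ S.nrm.le) nil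
      have a2 := card_mul_relIndex a1
      refine Dvd.dvd.trans ?_ (card_subgroup_dvd_card 𝐍(K))
      obtain ⟨k, hk⟩ := d
      exact ⟨3 * k, by rw [S.card, ← a2, hk, h1.card]; ring⟩
    have e := eq_of_quo_eq ⟨hR v hv, h.lc.le.trans (hM v hv)⟩
      ⟨hR β hβ, (core_le _ _).trans (hM β hβ)⟩ ((key v hv).trans (key β hβ).symm)
    rcases h.lc.z β h.mem (fun ρ hρ => (mem_cent1.1 (core_le _ _ (e.le hρ))).symm) h.sq with e | e
    exacts [h.nm (e ▸ one_mem _), h.nm (e ▸ mem_zpowers _)]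
  · obtain ⟨a, ha⟩ := PG.card_eq_pow pK
    have a1 := card_mul_relIndex (hM v hv)
    rw [h.lc.s3.card, h.lc.card, c, ha, hb] at a1
    have a2 : a + 2 ≤ b := by
      by_contra hn
      refine hS (Dvd.dvd.trans ?_ (card_subgroup_dvd_card 𝐍(K)))
      rw [c, ha, hb, show 4 * 2 ^ b = 2 ^ (b + 2) by ring,
        show 168 * 2 ^ a = 2 ^ (a + 3) * 21 by ring]
      exact (pow_dvd_pow 2 (by omega)).mul_right _
    have a3 : b ≤ a + 2 := by
      have : 2 ^ (b + 1) ∣ 21 * 2 ^ (a + 3) := ⟨3 * 𝐂[v].relIndex 𝐍(K), by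
        calc _ = 168 * 2 ^ a := by ring
          _ = _ := by rw [← a1]; ring⟩
      have := (Nat.pow_dvd_pow_iff_le_right one_lt_two).1
        (Nat.Coprime.dvd_of_dvd_mul_left (Nat.Coprime.pow_left _ (by norm_num)) this)
      omega
    obtain rfl : b = a + 2 := by omega
    have a4 : 𝐂[v].relIndex 𝐍(K) = 7 :=
      Nat.eq_of_mul_eq_mul_left (by positivity) (a1.trans (by ring))
    have a5 : C.ncard ≤ 7 := by
      rw [← a4, ← ncard_conjIn]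
      refine Set.ncard_le_ncard fun α hα => ?_
      obtain ⟨y, s, h1⟩ := h.lc' (cj α hα)
      obtain ⟨n, hn, h2⟩ := hT.of_ord (hM α hα h1.s3.xm) h1.s3.ord
      have := h2.mem_V (hK.le (subset_closure hα)) (mem_cent1.1 h1.s3.xm) (by rw [h1.ord]; norm_num)
      rw [← zpowers_conj_smul] at this
      exact ⟨n, hn, (mem_zpowers_two (by rw [Local.orderOf_conj', h.lc.ord]) this).resolve_left
        (ne_one_of_two h1.ord)⟩
    have a6 := card_closure_le (Set.toFinite C).toFinset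
      (fun α hα => sq_of_two (h.ord (cj α (by simpa using hα)))) fun α hα δ hδ =>
        mem_cent1.1 (core_le _ _ (hR α (by simpa using hα) (subset_closure (by simpa using hδ))))
    rw [Set.Finite.coe_toFinset, ← Set.ncard_eq_toFinset_card] at a6
    have a7 := a6.trans (Nat.pow_le_pow_right two_pos a5)
    have := h.big
    rw [hb, pow_add, ← ha] at this
    change Nat.card K ≤ _ at a7
    omega

end GS

end Cfsg.Agent.Z6
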