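import Cfsg.Agent.Z6.Basic

/-!
# Sections isomorphic to `S₃`
-/

set_option autoImplicit false
set_option linter.unusedSectionVars false

namespace Cfsg.Agent.Z6

open Subgroup Cfsg.Agent.Local Cfsg.Agent.FT Cfsg.Agent.Char
open scoped Pointwise

universe u

variable {G : Type u} [Group G] [Finite G]

theorem mul_mem_two {L X : Subgroup G} (hL : L ≤ X) (h : Nat.card X = 2 * Nat.card L) {a b : G}
    (ha : a ∈ X) (hb : b ∈ X) (h1 : a ∉ L) (h2 : b ∉ L) : a * b ∈ L := by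
  have e := card_mul_relIndex hL
  have e2 : (L.subgroupOf X).index = 2 :=
    Nat.eq_of_mul_eq_mul_left (Nat.card_pos (α := L)) (e.trans (by rw [h, mul_comm]))
  exact (mul_mem_iff_of_index_two e2 (a := ⟨a, ha⟩) (b := ⟨b, hb⟩)).2 (iff_of_false h1 h2)

theorem nrm_two {L X : Subgroup G} (hL : L ≤ X) (h : Nat.card X ≤ 2 * Nat.card L) : L ⊴ X := by
  have e := card_mul_relIndex hL
  have p := relIndex_pos L X
  have p2 : 0 < Nat.card L := Nat.card_pos
  have : L.relIndex X = 1 ∨ L.relIndex X = 2 := by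
    have : L.relIndex X ≤ 2 := by nlinarith
    omega
  rcases this with e1 | e1
  · exact eq_of_le_of_relIndex_eq_one hL e1 ▸ Nrm.refl L
  · exact ⟨hL, le_normalizer_of_relIndex_two hL e1⟩

theorem comm_mem {H K : Subgroup G} (h : der 1 H ≤ K) {a b : G} (ha : a ∈ H) (hb : b ∈ H) :
    a * b * a⁻¹ * b⁻¹ ∈ K := h (commutator_mem_commutator ha hb)

theorem comm_mem_two {L X : Subgroup G} (hL : L ≤ X) (h : Nat.card X ≤ 2 * Nat.card L) {a b : G}
    (ha : a ∈ X) (hb : b ∈ X) : a * b * a⁻¹ * b⁻¹ ∈ L := by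
  refine comm_mem (PG.der1_le_of_card (p := 2) (nrm_two hL h) ?_) ha hb
  have e := card_mul_relIndex hL
  have p := relIndex_pos L X
  have p2 : 0 < Nat.card L := Nat.card_pos
  have : L.relIndex X ≤ 2 := by nlinarith
  rw [← e, mul_comm]
  refine Nat.mul_dvd_mul_right ?_ _
  generalize L.relIndex X = n at *
  interval_cases n <;> norm_num

/-- A Sylow subgroup of prime order in a solvable group. -/
theorem solv_prime {X : Subgroup G} (hs : Group.IsSolvable X) {p : ℕ} [hp : Fact p.Prime] {g : G}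
    (hg : orderOf g = p) (hS : IsSylowIn p (zpowers g) X) :
    core {p}ᶜ X ⊔ zpowers g ⊴ X ∧ (∀ d ∈ X, d * g * d⁻¹ * g⁻¹ ∈ core {p}ᶜ X →
      d ∈ core {p}ᶜ X ⊔ zpowers g) ∧ (core {p}ᶜ X ⊔ zpowers g).relIndex X ∣ p - 1 := by
  set O := core {p}ᶜ X
  have hN : O ⊴ X := core_nrm _ _
  have gX : g ∈ X := hS.le (mem_zpowers g)
  have gN := hN.norm gX
  have hO : ¬ p ∣ Nat.card O := (piGrp_compl_singleton_iff hp.out).1 (piGrp_core _ _)
  have h1 := solvable_cent_pcore (p := p) (isSolvable_quo hs O) (core_quo_core _ X)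
  have h2 := isSylowIn_quo hS hN.norm
  rw [quo_zpowers gN] at h2
  have g1 : cos O g ≠ 1 := fun e => hO (hg ▸ orderOf_dvd_card_of_mem ((cos_eq_one_iff gN).1 e))
  have h3 : Nat.card (zpowers (cos O g)) = p := by
    rw [Nat.card_zpowers]
    exact orderOf_eq_prime (by rw [← (cos O).map_pow gN, ← hg, pow_orderOf_eq_one, Mor.map_one]) g1
  have h4 : core {p} (quo O X) = zpowers (cos O g) :=
    (eq_bot_or_eq_of_card_prime (h3.symm ▸ hp.out) (core_le_of_isSylowIn h2)).resolve_left fun e =>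
      g1 (by
        rw [e] at h1
        exact mem_bot.1 (h1 ⟨cos_mem_quo gN gX, fun y hy => by rw [mem_bot.1 hy]; simp⟩))
  have h5 := core_nrm {p} (quo O X)
  rw [h4] at h1 h5
  have h6 : coquo O (zpowers (cos O g)) = O ⊔ zpowers g := by
    rw [← quo_zpowers gN, coquo_quo (zpowers_le.2 gN)]
  refine ⟨h6 ▸ coquo_nrm_of_nrm_quo hN h5, fun d hd e => ?_, ?_⟩
  · have dN := hN.norm hd
    rw [← h6, mem_coquo]
    refine ⟨dN, h1 ⟨cos_mem_quo dN hd, (cent_zpowers _).ge (mem_cent1.2 ?_)⟩⟩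
    rw [← (cos O).map_mul gN dN, ← (cos O).map_mul dN gN, eq_comm,
      cos_eq_iff (mul_mem dN gN) (mul_mem gN dN)]
    simpa [mul_assoc] using e
  · have h7 := relIndex_cent_dvd_pred (h3.symm ▸ hp.out) h5.norm
    rw [h3, ← inf_relIndex_right, inf_comm, le_antisymm h1 (le_inf h5.le (by
      rw [cent_zpowers]; exact zpowers_le.2 (mem_cent1.2 rfl)))] at h7
    rwa [← h6, ← coquo_quo_of_nrm hN, relIndex_coquo]

/-- `X / O` is the symmetric group of degree three generated by `x` and `t`. -/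
structure S3 (X O : Subgroup G) (x t : G) : Prop where
  nrm : O ⊴ X
  ndvd : ¬ 3 ∣ Nat.card O
  xm : x ∈ X
  tm : t ∈ X
  ord : orderOf x = 3
  inv : t * x * t⁻¹ = x⁻¹
  card : Nat.card X = 6 * Nat.card O

theorem card_sup_three {O : Subgroup G} {x : G} (h : orderOf x = 3) (hn : x ∈ 𝐍(O))
    (hd : ¬ 3 ∣ Nat.card O) : Nat.card ↥(O ⊔ zpowers x) = 3 * Nat.card O :=
  PG.card_sup_zpowers (p := 3) hn (not_mem_of h hd) (by rw [cube_of h]; exact one_mem _)

theorem comm_three {O : Subgroup G} {x : G} (h : orderOf x = 3) (hn : x ∈ 𝐍(O))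
    (hd : ¬ 3 ∣ Nat.card O) {a b : G} (ha : a ∈ O ⊔ zpowers x) (hb : b ∈ O ⊔ zpowers x) :
    a * b * a⁻¹ * b⁻¹ ∈ O :=
  comm_mem (PG.der1_le_of_card (p := 3) (nrm_sup_left (zpowers_le.2 hn)) (by
    rw [card_sup_three h hn hd]; exact Nat.mul_dvd_mul_right (by norm_num) _)) ha hb

theorem mem_of_three {O : Subgroup G} {x : G} (h : orderOf x = 3) (hn : x ∈ 𝐍(O))
    (hd : ¬ 3 ∣ Nat.card O) {a : G} (ha : a ∈ O ⊔ zpowers x) (h3 : ¬ 3 ∣ orderOf a) : a ∈ O :=
  pow_mem_iff_of_coprime' (cop3 h3) (by rw [pow_orderOf_eq_one]; exact one_mem _)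
    (PG.pow_mem_of_card (p := 3) (nrm_sup_left (zpowers_le.2 hn)) (card_sup_three h hn hd) ha)

theorem inv_not_mem {O : Subgroup G} {x t : G} (h : orderOf x = 3) (hn : x ∈ 𝐍(O))
    (hd : ¬ 3 ∣ Nat.card O) (e : t * x * t⁻¹ = x⁻¹) : t ∉ O ⊔ zpowers x := fun ht => by
  have := comm_three h hn hd ht (mem_sup_right (mem_zpowers x))
  rw [e, ← mul_inv_rev, sq_of h, inv_inv] at this
  exact not_mem_of h hd this

theorem three_dvd_of_inv {O : Subgroup G} {x a : G} (h : orderOf x = 3) (hn : x ∈ 𝐍(O))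
    (hd : ¬ 3 ∣ Nat.card O) {o : G} (ho : o ∈ O) (e : a = o * x) : 3 ∣ orderOf a := by
  by_contra h3
  have := mem_of_three h hn hd (a := a) (e ▸ mul_mem (mem_sup_left ho)
    (mem_sup_right (mem_zpowers x))) h3
  rw [e, mul_mem_cancel_left ho] at this
  exact not_mem_of h hd this

theorem ndvd_ord_of_sq {a : G} (ha : a * a = 1) : ¬ 3 ∣ orderOf a := fun e => by
  have := e.trans (orderOf_dvd_of_pow_eq_one (n := 2) (by rw [pow_two, ha]))
  omega

theorem inv_pow_of {a y : G} (e : a * y * a⁻¹ = y⁻¹) (n : ℕ) : a * y ^ n * a⁻¹ = (y ^ n)⁻¹ := by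
  rw [← conj_pow, e, inv_pow]

theorem exists_inv_three {a b : G} (ha : a * a = 1) (hb : b * b = 1) (h : 3 ∣ orderOf (a * b)) :
    ∃ y ∈ zpowers (a * b), orderOf y = 3 ∧ a * y * a⁻¹ = y⁻¹ ∧ b * y * b⁻¹ = y⁻¹ := by
  obtain ⟨n, hn⟩ := exists_three h
  refine ⟨_, pow_mem (mem_zpowers _) n, hn, inv_pow_of ?_ n, inv_pow_of ?_ n⟩
  · rw [← mul_assoc, ha, one_mul, mul_inv_rev, inv_self hb]
  · rw [mul_inv_rev, inv_self ha, mul_assoc, mul_inv_cancel_right, inv_self hb]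

theorem conj_inv' (g a : G) : (g * a * g⁻¹)⁻¹ = g * a⁻¹ * g⁻¹ := by group

theorem solv_six (X : Type*) [Group X] [Finite X] (h : Nat.card X = 6) : Group.IsSolvable X := by
  have := IsZGroup.of_squarefree (G := X) (by
    rw [h, show 6 = 2 * 3 from rfl, Nat.squarefree_mul (by norm_num)]
    exact ⟨Nat.prime_two.prime.squarefree, Nat.prime_three.prime.squarefree⟩)
  infer_instance

namespace S3

variable {X O K : Subgroup G} {x t : G} (h : S3 X O x t)
include h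

theorem xn : x ∈ 𝐍(O) := h.nrm.norm h.xm

theorem L_le : O ⊔ zpowers x ≤ X := sup_le h.nrm.le (zpowers_le.2 h.xm)

theorem card_L : Nat.card X = 2 * Nat.card ↥(O ⊔ zpowers x) := by
  rw [card_sup_three h.ord h.xn h.ndvd, h.card]; ring

theorem t_not : t ∉ O := fun e => inv_not_mem h.ord h.xn h.ndvd h.inv (mem_sup_left e)

theorem le_O (hK : K ≤ X) (h3 : ¬ 3 ∣ Nat.card K) {y : G} (hy : y ∈ X) (y3 : orderOf y = 3)
    (hn : y ∈ 𝐍(K)) : K ≤ O := by
  have e1 : ¬ 3 ∣ Nat.card ↥(O ⊔ K) := fun e =>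
    (Nat.prime_three.dvd_mul.mp (e.trans (card_sup_dvd (hK.trans h.nrm.norm)))).elim h.ndvd h3
  have e2 : y ∈ 𝐍(O ⊔ K) := normalizer_inf_normalizer_le_normalizer_sup O K ⟨h.nrm.norm hy, hn⟩
  have e3 := card_sup_three y3 e2 e1
  have e4 : O ⊔ K ⊔ zpowers y ≤ X := sup_le (sup_le h.nrm.le hK) (zpowers_le.2 hy)
  obtain ⟨k, hk⟩ := card_dvd_of_le (le_sup_left : O ≤ O ⊔ K)
  have e5 := card_le_of_le e4
  have p : 0 < Nat.card O := Nat.card_pos
  have p2 : 0 < Nat.card ↥(O ⊔ K) := Nat.card_pos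
  rw [e3, h.card, hk] at e5
  have : k = 1 ∨ k = 2 := by
    have : k ≤ 2 := by nlinarith
    have : k ≠ 0 := by rintro rfl; omega
    omega
  rcases this with rfl | rfl
  · exact le_sup_right.trans (eq_of_le_of_card_ge le_sup_left (by omega)).ge
  · have e6 := eq_of_le_of_card_ge e4 (by rw [e3, h.card, hk]; omega)
    have := comm_three y3 e2 e1 (e6.ge h.tm) (e6.ge h.xm)
    rw [h.inv, ← mul_inv_rev, sq_of h.ord, inv_inv] at this
    exact absurd this (not_mem_of h.ord e1)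

theorem le_O' (hK : K ≤ X) (h3 : ¬ 3 ∣ Nat.card K) (hn : x ∈ 𝐍(K)) : K ≤ O :=
  h.le_O hK h3 h.xm h.ord hn

theorem inv_mod {a : G} (ha : a ∈ X) (h1 : a ∉ O ⊔ zpowers x) : a * x * a⁻¹ * x ∈ O := by
  have h2 := mul_mem_two h.L_le h.card_L ha (inv_mem h.tm) h1
    (fun e => inv_not_mem h.ord h.xn h.ndvd h.inv (inv_mem_iff.1 e))
  have h3 := comm_three h.ord h.xn h.ndvd h2 (inv_mem (mem_sup_right (mem_zpowers x)))
  have e : t⁻¹ * x⁻¹ * t = x := by rw [← h.inv]; group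
  have e2 : a * t⁻¹ * x⁻¹ * (a * t⁻¹)⁻¹ * x⁻¹⁻¹ = a * (t⁻¹ * x⁻¹ * t) * a⁻¹ * x := by group
  rwa [e2, e] at h3

theorem exists_inv {a : G} (ha : a ∈ X) (h1 : a ∉ O) (h2 : a * a = 1) :
    ∃ y ∈ X, orderOf y = 3 ∧ a * y * a⁻¹ = y⁻¹ := by
  have h3 := h.inv_mod ha fun e => h1 (mem_of_three h.ord h.xn h.ndvd e (ndvd_ord_of_sq h2))
  obtain ⟨y, hy, y3, e, -⟩ := exists_inv_three h2 (b := x * a * x⁻¹) (by
    calc _ = x * (a * a) * x⁻¹ := by group
      _ = 1 := by rw [h2]; group) (three_dvd_of_inv h.ord h.xn h.ndvd h3 (by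
    rw [mul_assoc _ x x, sq_of h.ord, inv_self h2]; group))
  exact ⟨y, zpowers_le.2 (mul_mem ha (mul_mem (mul_mem h.xm ha) (inv_mem h.xm))) hy, y3, e⟩

theorem relIndex : O.relIndex X = 6 :=
  Nat.eq_of_mul_eq_mul_left (Nat.card_pos (α := O)) (by
    rw [card_mul_relIndex h.nrm.le, h.card, mul_comm])

theorem two (hK : K ≤ X) (h3 : ¬ 3 ∣ Nat.card K) : Nat.card K ≤ 2 * Nat.card ↥(O ⊓ K) := by
  have e1 := relIndex_dvd_of_norm hK h.nrm.norm
  have e2 := card_inf_mul_relIndex O K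
  rw [h.relIndex] at e1
  have e3 : O.relIndex K ∣ 2 := Nat.Coprime.dvd_of_dvd_mul_left
    (cop3 fun e => h3 (e2 ▸ e.mul_left _)) (show _ ∣ 3 * 2 from e1)
  have := Nat.le_of_dvd two_pos e3
  nlinarith

theorem conj (g : G) : S3 (MulAut.conj g • X) (MulAut.conj g • O) (g * x * g⁻¹) (g * t * g⁻¹) :=
  ⟨h.nrm.conj_smul g, by rw [card_conj_smul]; exact h.ndvd, conj_mem_conj_smul g h.xm,
    conj_mem_conj_smul g h.tm, by rw [Local.orderOf_conj', h.ord],
    by rw [conj_inv' g x, ← h.inv]; group, by rw [card_conj_smul, card_conj_smul, h.card]⟩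

theorem upper {H V : Subgroup G} {x' : G} (hT : TH H x' V) (hX : X ≤ H) {a : G} (ha : a ∈ X)
    (h1 : a ∉ O) (h2 : a * a = 1) (hK : K ≤ H) (hn : X ≤ 𝐍(K)) (h3 : ¬ 3 ∣ Nat.card K) :
    Nat.card ↥(K ⊓ 𝐂[a]) * Nat.card ↥(K ⊓ 𝐂[a]) ≤ Nat.card K * Nat.card V := by
  obtain ⟨y, hy, y3, e⟩ := h.exists_inv ha h1 h2
  exact hT.upper (hX hy) y3 h2 e hK (hn hy) h3

theorem eq_core : O = core {3}ᶜ X :=
  le_antisymm (le_core h.nrm ((piGrp_compl_singleton_iff Nat.prime_three).2 h.ndvd))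
    (h.le_O' (core_le _ _) ((piGrp_compl_singleton_iff Nat.prime_three).1 (piGrp_core _ _))
      ((core_nrm _ _).norm h.xm))

theorem solv {H V : Subgroup G} {x' : G} (hT : TH H x' V) (hX : X ≤ H) : Group.IsSolvable X := by
  refine isSolvable_of_der1 (isSolvable_of_le (K := O ⊔ zpowers x) (isSolvable_sup
    (zpowers_le.2 h.xn) (hT.solv (h.nrm.le.trans hX) h.ndvd) (isSolvable_zpowers x)) ?_)
  exact PG.der1_le_of_card (p := 2) (nrm_two h.L_le h.card_L.le) (by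
    rw [h.card_L]; exact Nat.mul_dvd_mul_right (by norm_num) _)

end S3

theorem core_ndvd (X : Subgroup G) : ¬ 3 ∣ Nat.card (core {3}ᶜ X) :=
  (piGrp_compl_singleton_iff Nat.prime_three).1 (piGrp_core _ _)

theorem le_core3 {K X : Subgroup G} (h : K ⊴ X) (h3 : ¬ 3 ∣ Nat.card K) : K ≤ core {3}ᶜ X :=
  le_core h ((piGrp_compl_singleton_iff Nat.prime_three).2 h3)

namespace TH

variable {H V K : Subgroup G} {x t : G} (h : TH H x V)
include h

theorem s3 (hs : Group.IsSolvable H) (ht : t ∈ H) (e : t * x * t⁻¹ = x⁻¹) :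
    S3 H (core {3}ᶜ H) x t := by
  obtain ⟨h1, -, h2⟩ := solv_prime hs h.ord h.sylow
  have hn := (core_nrm {3}ᶜ H).norm h.mem
  refine ⟨core_nrm _ _, core_ndvd H, h.mem, ht, h.ord, e, ?_⟩
  have h3 := card_mul_relIndex h1.le
  rw [card_sup_three h.ord hn (core_ndvd H)] at h3
  rcases (Nat.dvd_prime Nat.prime_two).1 h2 with e1 | e1
  · exact absurd ((eq_of_le_of_relIndex_eq_one h1.le e1).ge ht)
      (inv_not_mem h.ord hn (core_ndvd H) e)
  · rw [← h3, e1]; ring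

/-- The theorem of Feit and Thompson for a section. -/
theorem ft3 (hK : K ⊴ H) (h3 : ¬ 3 ∣ Nat.card K) (hV : V ≤ K) :
    Group.IsSolvable H ∨
      (Nat.card H = 168 * Nat.card K ∧ ∀ N, N ⊴ H → K ≤ N → N = K ∨ N = H) := by
  have h1 := h.quo hK.norm h3
  rw [quo_eq_bot hV] at h1
  have h2 := h1.sct rfl
  have hs := h.solv hK.le h3
  rcases S3331.result _ h2.card (le_antisymm (fun g hg => h2.cent g (hg _ (mem_zpowers _)).symm)
    (by rw [cent_zpowers]; exact zpowers_le.2 (mem_cent1.2 rfl))) with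
    ⟨N, hN, a, -, b⟩ | ⟨N, hN, -, -, ⟨e⟩⟩ | ⟨⟨e⟩⟩
  · refine Or.inl (isSolvable_of_quo hK.norm hs ?_)
    have : Group.IsSolvable (↥(FT.quo K H) ⧸ N) := by
      rcases b with b | ⟨⟨b⟩⟩
      · have := isCyclic_of_prime_card b
        exact isSolvable_of_isMulCommutative inferInstance
      · have : Group.IsSolvable (Equiv.Perm (Fin 3)) := solv_six _ (by simp [Fintype.card_perm, Nat.factorial])
        exact solvable_of_solvable_injective (f := b.toMonoidHom) b.injective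
    exact solvable_of_ker_le_range N.subtype (QuotientGroup.mk' N) (by simp)
  · refine absurd (Dvd.dvd.trans ?_ N.card_quotient_dvd_card) h1.five
    rw [Nat.card_congr e.toEquiv, Nat.card_eq_fintype_card, card_alternatingGroup]
    simp [Nat.factorial]
  · right
    have : Fact (Nat.Prime 7) := ⟨by norm_num⟩
    have c := PSL2Rec.card_psl2 (F := ZMod 7)
    rw [ZMod.card, ← Nat.card_congr e.toEquiv] at c
    have c2 := card_mul_card_quo hK
    norm_num [-Nat.card_eq_fintype_card] at c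
    refine ⟨by rw [← c2, show Nat.card (FT.quo K H) = 168 by omega, mul_comm], fun N hN hKN => ?_⟩
    have := Matrix.ProjectiveSpecialLinearGroup.rank_two_simple (F := ZMod 7) (by simp)
    have := e.isSimpleGroup
    have hN' := quo_nrm K hN
    refine (hN'.normal_subgroupOf.eq_bot_or_eq_top).imp (fun e => le_antisymm ?_ hKN) fun e => ?_
    · rw [subgroupOf_eq_bot, disjoint_iff, inf_eq_left.2 hN'.le] at e
      exact (quo_eq_bot_iff (hN.le.trans hK.norm)).1 e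
    · exact eq_of_quo_eq (hK.of_le hKN hN.le) hK (le_antisymm hN'.le (subgroupOf_eq_top.1 e))

theorem nil_quo {O : Subgroup G} (hK : K ⊴ H) (hV : V ≤ K) (hO : O ≤ H) (hKO : K ≤ O)
    (hx : x ∈ 𝐍(O)) (h3 : ¬ 3 ∣ Nat.card O) : Group.IsNilpotent (FT.quo K O) :=
  (h.quo hK.norm fun e => h3 (e.trans (card_dvd_of_le hKO))).nil (quo_mono K hO)
    ((cos K).apply_mem_normalizer (hK.norm h.mem) hx) (fun e => h3 (e.trans (card_quo_dvd K O)))
    (by rw [quo_eq_bot hV, inf_bot_eq])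

/-- The basic lower bound for fixed points of an inverting involution. -/
theorem lower (ht : t ∈ H) (h2 : t * t = 1) (e : t * x * t⁻¹ = x⁻¹) (hK : K ≤ H) (hx : x ∈ 𝐍(K))
    (htn : t ∈ 𝐍(K)) (h3 : ¬ 3 ∣ Nat.card K) :
    Nat.card K ≤ Nat.card V * (Nat.card ↥(K ⊓ 𝐂[t]) * Nat.card ↥(K ⊓ 𝐂[t])) := by
  classical
  have := Fintype.ofFinite G
  set A : Finset G := {y | ConjIn K t y}.toFinset
  have hA : ∀ a ∈ A, a * a = 1 ∧ a * t⁻¹ ∈ K := fun a ha => by
    obtain ⟨k, hk, rfl⟩ := Set.mem_toFinset.1 ha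
    refine ⟨by calc _ = k * (t * t) * k⁻¹ := by group
      _ = 1 := by rw [h2]; group, ?_⟩
    simpa [mul_assoc] using mul_mem hk (conj_mem_of_mem_normalizer htn (inv_mem hk))
  have h1 : Nat.card ↥(K ⊓ 𝐂[t]) * A.card = Nat.card K := by
    rw [← Set.ncard_eq_toFinset_card', ncard_conjIn, inf_comm, card_inf_mul_relIndex]
  have hm : ∀ a ∈ A, ∀ b ∈ A, a * (x * b * x⁻¹) * x⁻¹ ∈ K := fun a ha b hb => by
    have := mul_mem (hA a ha).2 (conj_mem_of_mem_normalizer (mul_mem htn hx) (hA b hb).2)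
    have e1 : a * (x * b * x⁻¹) * x⁻¹ = a * t⁻¹ * (t * x * (b * t⁻¹) * (t * x)⁻¹) *
      ((t * x * t⁻¹) * (t * t) * (x * x)⁻¹) := by group
    rwa [e1, e, h2, sq_of h.ord, inv_inv, mul_one, inv_mul_cancel, mul_one]
  have h4 : (A ×ˢ A).card ≤ Nat.card V * (K : Set G).toFinset.card := by
    refine Finset.card_le_mul_card_image_of_maps_to
      (f := fun p => p.1 * (x * p.2 * x⁻¹) * x⁻¹) (fun p hp => Set.mem_toFinset.2
        (hm _ (Finset.mem_product.1 hp).1 _ (Finset.mem_product.1 hp).2)) _ fun k hk => ?_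
    rcases Finset.eq_empty_or_nonempty (Finset.filter
      (fun p : G × G => p.1 * (x * p.2 * x⁻¹) * x⁻¹ = k) (A ×ˢ A)) with e0 | ⟨⟨a, b⟩, hab⟩
    · rw [e0]; simp
    simp only [Finset.mem_filter, Finset.mem_product] at hab
    have sq' : ∀ b ∈ A, x * b * x⁻¹ * (x * b * x⁻¹) = 1 := fun b hb => by
      calc _ = x * (b * b) * x⁻¹ := by group
        _ = 1 := by rw [(hA b hb).1]; group
    obtain ⟨n, hn⟩ := exists_three (three_dvd_of_inv (a := k * x) h.ord hx h3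
      (Set.mem_toFinset.1 hk) rfl)
    obtain ⟨m, -, hT⟩ := h.of_ord (pow_mem (mul_mem (hK (Set.mem_toFinset.1 hk)) h.mem) n) hn
    have hi : ∀ a ∈ A, ∀ b ∈ A, a * (x * b * x⁻¹) * x⁻¹ = k →
        a * (k * x) ^ n * a⁻¹ = ((k * x) ^ n)⁻¹ := fun a ha b hb e1 => by
      refine inv_pow_of ?_ n
      rw [← e1, inv_mul_cancel_right, ← mul_assoc, (hA a ha).1, one_mul, mul_inv_rev a,
        inv_self (sq' b hb)]
    rw [← card_conj_smul m V]
    refine le_of_le_of_eq ?_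
      (Nat.card_eq_card_toFinset ((MulAut.conj m • V : Subgroup G) : Set G)).symm
    refine Finset.card_le_card_of_injOn (fun p => a⁻¹ * p.1) (fun p hp => ?_) fun p hp q hq e1 => ?_
    · simp only [Finset.coe_filter, Finset.mem_product, Set.mem_setOf_eq] at hp
      refine Set.mem_toFinset.2 (hT.fix hK h3 ?_ ?_)
      · have := conj_mem_of_mem_normalizer (inv_mem htn)
          (mul_mem (inv_mem (hA a hab.1.1).2) (hA _ hp.1.1).2)
        simpa [mul_assoc] using this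
      · have e2 := hi a hab.1.1 b hab.1.2 hab.2
        rw [← hi _ hp.1.1 _ hp.1.2 hp.2] at e2
        calc _ = a⁻¹ * (a * (k * x) ^ n * a⁻¹) * p.1 := by group
          _ = _ := by rw [e2]; group
    · simp only [Finset.coe_filter, Finset.mem_product, Set.mem_setOf_eq] at hp hq
      have e2 : p.1 = q.1 := mul_left_cancel e1
      have e3 := hp.2.trans hq.2.symm
      rw [e2] at e3
      exact Prod.ext e2 (by simpa using e3)
  rw [Finset.card_product, ← Nat.card_eq_card_toFinset (K : Set G)] at h4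
  have p : 0 < Nat.card K := Nat.card_pos
  refine Nat.le_of_mul_le_mul_left ?_ p
  change _ ≤ Nat.card V * Nat.card K at h4
  calc _ = Nat.card ↥(K ⊓ 𝐂[t]) * Nat.card ↥(K ⊓ 𝐂[t]) * (A.card * A.card) := by rw [← h1]; ring
    _ ≤ _ * (Nat.card V * Nat.card K) := Nat.mul_le_mul_left _ h4
    _ = _ := by ring

end TH

end Cfsg.Agent.Z6
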